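import Mathlib

/-!
Groups with presentations having a bounded number of relations.
-/

set_option autoImplicit false

namespace CfsgLib.BoundedPres

/-- The tuple `f` satisfies the relations `L`. -/
def Kills {X : Type*} {G : Type*} [Group G] (f : X → G) (L : List (FreeGroup X)) : Prop :=
  ∀ w ∈ L, FreeGroup.lift f w = 1

/-- `T` has a presentation with at most `r` relations. -/
def Pres (T : Type*) [Group T] (r : ℕ) : Prop :=
  ∃ (X : Type) (v : X → T) (L : List (FreeGroup X)), L.length ≤ r ∧ Kills v L ∧
    Subgroup.closure (Set.range v) = ⊤ ∧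
    ∀ (G : Type) [Group G] (f : X → G), Kills f L → ∃ ψ : T →* G, ∀ x, ψ (v x) = f x

theorem Pres.mono {T : Type*} [Group T] {r r' : ℕ} (h : Pres T r) (hle : r ≤ r') : Pres T r' := by
  obtain ⟨X, v, L, hlen, rest⟩ := h
  exact ⟨X, v, L, hlen.trans hle, rest⟩

theorem hom_lift {X : Type*} {T G : Type*} [Group T] [Group G] (ψ : T →* G) {v : X → T} {f : X → G}
    (h : ∀ x, ψ (v x) = f x) (w : FreeGroup X) : ψ (FreeGroup.lift v w) = FreeGroup.lift f w := by
  have : ψ.comp (FreeGroup.lift v) = FreeGroup.lift f := FreeGroup.ext_hom _ _ fun x => by simp [h]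
  exact DFunLike.congr_fun this w

theorem exists_word {X : Type*} {T : Type*} [Group T] {v : X → T}
    (h : Subgroup.closure (Set.range v) = ⊤) (g : T) : ∃ w : FreeGroup X, FreeGroup.lift v w = g := by
  have hg : g ∈ Subgroup.closure (Set.range v) := h ▸ Subgroup.mem_top g
  rwa [← FreeGroup.range_lift_eq_closure] at hg

/-- A presentation from the bound on the order of a group satisfying the relations. -/
theorem Pres.of_bound {T : Type*} [Group T] [Finite T] {X : Type} (v : X → T) (L : List (FreeGroup X))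
    (hL : Kills v L) (hgen : Subgroup.closure (Set.range v) = ⊤)
    (hcore : ∀ (G : Type) [Group G] (f : X → G), Subgroup.closure (Set.range f) = ⊤ → Kills f L →
      Finite G ∧ Nat.card G ≤ Nat.card T) : Pres T L.length := by
  set R : Set (FreeGroup X) := {w | w ∈ L} with hR
  let φ : PresentedGroup R →* T := PresentedGroup.toGroup (f := v) hL
  have hφ : ∀ x, φ (PresentedGroup.of x) = v x := fun x => PresentedGroup.toGroup.of (f := v) hL
  have hrel : Kills (fun x => (PresentedGroup.of x : PresentedGroup R)) L := by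
    intro w hw
    have he : FreeGroup.lift (fun x => (PresentedGroup.of x : PresentedGroup R)) = PresentedGroup.mk R :=
      FreeGroup.ext_hom _ _ fun i => by simp [PresentedGroup.of]
    rw [he]
    exact PresentedGroup.one_of_mem hw
  obtain ⟨hfin, hle⟩ := hcore _ _ (PresentedGroup.closure_range_of R) hrel
  have hsurj : Function.Surjective φ := by
    rw [← MonoidHom.range_eq_top, eq_top_iff, ← hgen, Subgroup.closure_le]
    rintro _ ⟨x, rfl⟩
    exact ⟨_, hφ x⟩
  let e := MulEquiv.ofBijective φ ((Nat.bijective_iff_surjective_and_card φ).2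
    ⟨hsurj, le_antisymm hle (Nat.card_le_card_of_surjective φ hsurj)⟩)
  refine ⟨X, v, L, le_rfl, hL, hgen, fun G _ f hf => ?_⟩
  refine ⟨(PresentedGroup.toGroup (f := f) (rels := R) hf).comp e.symm.toMonoidHom, fun x => ?_⟩
  have : e.symm (v x) = PresentedGroup.of x := by rw [e.symm_apply_eq]; exact (hφ x).symm
  show PresentedGroup.toGroup (f := f) (rels := R) hf (e.symm (v x)) = f x
  rw [this]
  exact PresentedGroup.toGroup.of (f := f) (rels := R) hf

/-- A finite presentation in the usual form gives one in ours. -/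
theorem Pres.of_iso {T : Type*} [Group T] {X : Type} (rels : Finset (FreeGroup X))
    (e : PresentedGroup (↑rels : Set (FreeGroup X)) ≃* T) : Pres T rels.card := by
  refine ⟨X, fun x => e (PresentedGroup.of x), rels.toList, by simp, fun w hw => ?_, ?_,
    fun G _ f hf => ?_⟩
  · rw [← hom_lift e.toMonoidHom (v := PresentedGroup.of) (f := fun x => e (PresentedGroup.of x)) (fun x => rfl)]
    have he : FreeGroup.lift (PresentedGroup.of : X → PresentedGroup (↑rels : Set (FreeGroup X))) =
        PresentedGroup.mk _ := FreeGroup.ext_hom _ _ fun i => by simp [PresentedGroup.of]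
    rw [he, PresentedGroup.one_of_mem (by simpa using hw), map_one]
  · rw [show Set.range (fun x => e (PresentedGroup.of x)) = e.toMonoidHom '' Set.range PresentedGroup.of by
      rw [← Set.range_comp]; rfl, ← MonoidHom.map_closure, PresentedGroup.closure_range_of,
      Subgroup.map_top_of_surjective _ e.surjective]
  · refine ⟨(PresentedGroup.toGroup (f := f) (fun r hr => hf r (by simpa using hr))).comp
      e.symm.toMonoidHom, fun x => ?_⟩
    simp only [MonoidHom.comp_apply, MulEquiv.coe_toMonoidHom, MulEquiv.symm_apply_apply]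
    rw [PresentedGroup.toGroup.of]

/-- Transport along an isomorphism. -/
theorem Pres.congr {T T' : Type*} [Group T] [Group T'] (e : T ≃* T') {r : ℕ} (h : Pres T r) : Pres T' r := by
  obtain ⟨X, v, L, hlen, hv, hgen, huniv⟩ := h
  refine ⟨X, fun x => e (v x), L, hlen, fun w hw => ?_, ?_, fun G _ f hf => ?_⟩
  · rw [← hom_lift e.toMonoidHom (v := v) (f := fun x => e (v x)) (fun x => rfl), hv w hw, map_one]
  · rw [show Set.range (fun x => e (v x)) = e.toMonoidHom '' Set.range v by rw [← Set.range_comp]; rfl,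
      ← MonoidHom.map_closure, hgen, Subgroup.map_top_of_surjective _ e.surjective]
  · obtain ⟨ψ, hψ⟩ := huniv G f hf
    exact ⟨ψ.comp e.symm.toMonoidHom, fun x => by simp [hψ]⟩

/-- One more relation gives the quotient by a normally generated subgroup. -/
theorem Pres.quotient {T : Type*} [Group T] (N : Subgroup T) [N.Normal] (z : T)
    (hN : N = Subgroup.normalClosure {z}) {r : ℕ} (h : Pres T r) : Pres (T ⧸ N) (r + 1) := by
  obtain ⟨X, v, L, hlen, hv, hgen, huniv⟩ := h
  obtain ⟨W, hW⟩ := exists_word hgen z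
  have hmk : ∀ w, FreeGroup.lift (fun x => QuotientGroup.mk' N (v x)) w =
      QuotientGroup.mk' N (FreeGroup.lift v w) := fun w => (hom_lift _ (fun _ => rfl) w).symm
  refine ⟨X, fun x => QuotientGroup.mk' N (v x), W :: L, by simpa using hlen, fun w hw => ?_, ?_,
    fun G _ f hf => ?_⟩
  · rw [hmk]
    rcases List.mem_cons.1 hw with rfl | hw
    · rw [hW]
      exact (QuotientGroup.eq_one_iff z).2 (hN ▸ Subgroup.subset_normalClosure rfl)
    · rw [hv w hw, map_one]
  · rw [show Set.range (fun x => QuotientGroup.mk' N (v x)) = QuotientGroup.mk' N '' Set.range v by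
      rw [← Set.range_comp]; rfl, ← MonoidHom.map_closure, hgen,
      Subgroup.map_top_of_surjective _ (QuotientGroup.mk'_surjective N)]
  · obtain ⟨ψ, hψ⟩ := huniv G f fun w hw => hf w (List.mem_cons_of_mem _ hw)
    have hker : N ≤ ψ.ker := by
      rw [hN]
      refine Subgroup.normalClosure_le_normal fun y hy => ?_
      rw [Set.mem_singleton_iff] at hy
      rw [SetLike.mem_coe, MonoidHom.mem_ker, hy, ← hW, hom_lift ψ hψ]
      exact hf W List.mem_cons_self
    exact ⟨QuotientGroup.lift N ψ hker, hψ⟩

/-- Rewriting a presentation in two given generators costs two relations. -/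
theorem Pres.two_generators {T : Type*} [Group T] {r : ℕ} (h : Pres T r) (a b : T)
    (hab : Subgroup.closure ({a, b} : Set T) = ⊤) :
    ∃ rels : Finset (FreeGroup (Fin 2)), rels.card ≤ r + 2 ∧
      Nonempty (PresentedGroup (↑rels : Set (FreeGroup (Fin 2))) ≃* T) := by
  classical
  obtain ⟨X, v, L, hlen, hv, hgen, huniv⟩ := h
  have hrange : Subgroup.closure (Set.range ![a, b]) = ⊤ := by
    rw [Matrix.range_cons_cons_empty]; exact hab
  choose w hw using fun x => exists_word hrange (v x)
  obtain ⟨A, hA⟩ := exists_word hgen a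
  obtain ⟨B, hB⟩ := exists_word hgen b
  let σ := FreeGroup.lift w
  let L2 := L.map σ ++ [σ A * (FreeGroup.of 0)⁻¹, σ B * (FreeGroup.of 1)⁻¹]
  refine ⟨L2.toFinset, L2.toFinset_card_le.trans (by simp [L2]; omega), ?_⟩
  set R : Set (FreeGroup (Fin 2)) := ↑L2.toFinset with hR
  have hσ : ∀ z, FreeGroup.lift ![a, b] (σ z) = FreeGroup.lift v z := hom_lift _ (v := w) hw
  have hkill : ∀ z ∈ R, FreeGroup.lift ![a, b] z = 1 := by
    intro z hz
    rw [hR, List.coe_toFinset] at hz
    rcases List.mem_append.1 hz with hz | hz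
    · obtain ⟨y, hy, rfl⟩ := List.mem_map.1 hz
      rw [hσ]; exact hv y hy
    · simp only [List.mem_cons, List.not_mem_nil, or_false] at hz
      rcases hz with rfl | rfl <;> simp [hσ, hA, hB]
  let φ : PresentedGroup R →* T := PresentedGroup.toGroup hkill
  have hmem : ∀ z ∈ L2, PresentedGroup.mk R z = 1 := fun z hz =>
    PresentedGroup.one_of_mem (by rw [hR, List.coe_toFinset]; exact hz)
  obtain ⟨ψ, hψ⟩ := huniv (PresentedGroup R) (fun x => PresentedGroup.mk R (w x)) fun z hz => by
    rw [← hom_lift (PresentedGroup.mk R) (v := w) (fun _ => rfl)]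
    exact hmem _ (List.mem_append_left _ (List.mem_map_of_mem hz))
  have hmkw : ∀ z, ψ (FreeGroup.lift v z) = PresentedGroup.mk R (σ z) := fun z => by
    rw [hom_lift ψ hψ]; exact (hom_lift (PresentedGroup.mk R) (v := w) (fun _ => rfl) z).symm
  have hφmk : ∀ z, φ (PresentedGroup.mk R z) = FreeGroup.lift ![a, b] z := fun z => rfl
  have h1 : φ.comp ψ = MonoidHom.id T := by
    refine MonoidHom.eq_of_eqOn_dense hgen ?_
    rintro _ ⟨x, rfl⟩
    show φ (ψ (v x)) = v x
    rw [hψ, hφmk, hw]
  have h2 : ψ.comp φ = MonoidHom.id _ := by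
    refine PresentedGroup.ext fun i => ?_
    show ψ (φ (PresentedGroup.of i)) = PresentedGroup.of i
    rw [show φ (PresentedGroup.of i) = ![a, b] i from PresentedGroup.toGroup.of hkill]
    fin_cases i
    · show ψ a = _
      rw [← hA, hmkw, ← mul_inv_eq_one]
      have := hmem (σ A * (FreeGroup.of 0)⁻¹) (by simp [L2])
      rw [map_mul, map_inv] at this
      exact this
    · show ψ b = _
      rw [← hB, hmkw, ← mul_inv_eq_one]
      have := hmem (σ B * (FreeGroup.of 1)⁻¹) (by simp [L2])
      rw [map_mul, map_inv] at this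
      exact this
  exact ⟨φ.toMulEquiv ψ h2 h1⟩

section IndexTwo

variable {T : Type*} [Group T] (χ : T →* ℤˣ) {τ : T}

/-- The transversal. -/
def trans (τ : T) (e : ℤˣ) : T := if e = 1 then 1 else τ

theorem trans_sq (hτ2 : τ * τ = 1) (e : ℤˣ) : trans τ e * trans τ e = 1 := by
  unfold trans; split_ifs <;> simp [hτ2]

theorem chi_trans (hχτ : χ τ = -1) (e : ℤˣ) : χ (trans τ e) = e := by
  unfold trans
  rcases Int.units_eq_one_or e with rfl | rfl <;> simp [hχτ]

/-- The Schreier elements. -/
def schreier (τ x : T) (e : ℤˣ) : T := trans τ (χ x * e) * x * trans τ e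

theorem schreier_mem (hχτ : χ τ = -1) (x : T) (e : ℤˣ) : schreier χ τ x e ∈ χ.ker := by
  rw [MonoidHom.mem_ker, schreier, map_mul, map_mul, chi_trans χ hχτ, chi_trans χ hχτ,
    mul_assoc, Int.units_mul_self]

theorem schreier_closure (hτ2 : τ * τ = 1) {S : Set T} (hS : Subgroup.closure S = ⊤) (H : Subgroup T)
    (hH : ∀ x ∈ S, ∀ e, schreier χ τ x e ∈ H) : χ.ker ≤ H := by
  have key : ∀ g ∈ Subgroup.closure S, ∀ e, schreier χ τ g e ∈ H := by
    intro g hg
    induction hg using Subgroup.closure_induction with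
    | mem x hx => exact hH x hx
    | one => intro e; simp [schreier, trans_sq hτ2, one_mem]
    | mul x y _ _ hx hy =>
      intro e
      have : schreier χ τ (x * y) e = schreier χ τ x (χ y * e) * schreier χ τ y e := by
        simp only [schreier, map_mul, mul_assoc]
        rw [← mul_assoc (trans τ (χ y * e)) (trans τ (χ y * e)), trans_sq hτ2, one_mul]
      rw [this]
      exact H.mul_mem (hx _) (hy _)
    | inv x _ hx =>
      intro e
      have h := H.inv_mem (hx (χ x⁻¹ * e))
      have : (schreier χ τ x (χ x⁻¹ * e))⁻¹ = schreier χ τ x⁻¹ e := by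
        simp only [schreier, map_inv, mul_inv_cancel_left, mul_inv_rev, ← mul_assoc]
        simp [inv_eq_of_mul_eq_one_right (trans_sq hτ2 _)]
      rwa [this] at h
  intro g hg
  have h := key g (hS ▸ Subgroup.mem_top g) 1
  rw [MonoidHom.mem_ker] at hg
  simpa [schreier, trans, hg] using h

/-- The action on the cosets with coefficients. -/
def step {X : Type*} {G : Type*} [Group G] (s : X → ℤˣ) (a : X × ℤˣ → G) (x : X) :
    Equiv.Perm (G × ℤˣ) where
  toFun q := (a (x, q.2) * q.1, s x * q.2)
  invFun q := ((a (x, s x * q.2))⁻¹ * q.1, s x * q.2)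
  left_inv q := by simp [← mul_assoc, Int.units_mul_self]
  right_inv q := by simp [← mul_assoc, Int.units_mul_self]

theorem step_nat {X : Type*} {G G' : Type*} [Group G] [Group G'] (s : X → ℤˣ) (a : X × ℤˣ → G)
    (f : G →* G') (w : FreeGroup X) :
    ∀ q : G × ℤˣ, FreeGroup.lift (step s fun p => f (a p)) w (f q.1, q.2) =
      (f (FreeGroup.lift (step s a) w q).1, (FreeGroup.lift (step s a) w q).2) := by
  induction w using FreeGroup.induction_on with
  | C1 => intro q; simp
  | of x => intro q; simp [step]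
  | inv_of x _ => intro q; simp [step]
  | mul x y hx hy => intro q; simp only [map_mul, Equiv.Perm.mul_apply]; rw [hy, hx]

theorem step_shift {X : Type*} {G : Type*} [Group G] (s : X → ℤˣ) (a : X × ℤˣ → G)
    (w : FreeGroup X) : ∀ g e, FreeGroup.lift (step s a) w (g, e) =
      ((FreeGroup.lift (step s a) w (1, e)).1 * g, FreeGroup.lift s w * e) := by
  induction w using FreeGroup.induction_on with
  | C1 => intro g e; simp
  | of x => intro g e; simp [step]
  | inv_of x _ => intro g e; simp [step, Int.units_inv_eq_self]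
  | mul x y hx hy =>
    intro g e
    simp only [map_mul, Equiv.Perm.mul_apply]
    rw [hy g e, hy 1 e, hx, hx ((FreeGroup.lift (step s a) y (1, e)).1 * 1)]
    simp [mul_assoc]

/-- Presentations pass to subgroups of index two. -/
theorem Pres.ker_units {r : ℕ} (h : Pres T r) (hτ2 : τ * τ = 1) (hχτ : χ τ = -1) :
    Pres χ.ker (2 * r + 1) := by
  obtain ⟨X, v, L, hlen, hv, hgen, huniv⟩ := h
  obtain ⟨W, hW⟩ := exists_word hgen τ
  set s : X → ℤˣ := fun x => χ (v x) with hs
  have hsl : ∀ w, FreeGroup.lift s w = χ (FreeGroup.lift v w) := fun w => (hom_lift χ (fun _ => rfl) w).symm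
  set word : ℤˣ → FreeGroup X → FreeGroup (X × ℤˣ) := fun e w =>
    (FreeGroup.lift (step s (FreeGroup.of : X × ℤˣ → FreeGroup (X × ℤˣ))) w (1, e)).1 with hword
  have hnat : ∀ {G : Type} [Group G] (f : X × ℤˣ → G) (e : ℤˣ) (w : FreeGroup X),
      FreeGroup.lift f (word e w) = (FreeGroup.lift (step s f) w (1, e)).1 := by
    intro G _ f e w
    have := step_nat s FreeGroup.of (FreeGroup.lift f) w (1, e)
    simp only [map_one, FreeGroup.lift_apply_of] at this
    rw [this]
  set v' : X × ℤˣ → χ.ker := fun p => ⟨schreier χ τ (v p.1) p.2, schreier_mem χ hχτ _ _⟩ with hv'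
  have hT : ∀ e w, ((FreeGroup.lift v' (word e w) : χ.ker) : T) = schreier χ τ (FreeGroup.lift v w) e := by
    have : ∀ w : FreeGroup X, ∀ q : χ.ker × ℤˣ, (((FreeGroup.lift (step s v') w q).1 : χ.ker) : T) =
        schreier χ τ (FreeGroup.lift v w) q.2 * q.1 := by
      intro w
      induction w using FreeGroup.induction_on with
      | C1 => intro q; simp [schreier, trans_sq hτ2]
      | of x => intro q; simp [step, hv']
      | inv_of x _ =>
        intro q
        simp [step, hv', hs, schreier, map_inv, Int.units_inv_eq_self, ← mul_assoc, Int.units_mul_self,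
          inv_eq_of_mul_eq_one_right (trans_sq hτ2 _)]
      | mul x y hx hy =>
        intro q
        simp only [map_mul, Equiv.Perm.mul_apply]
        rw [hx, hy, step_shift s v' y q.1 q.2]
        simp only [hsl, schreier, map_mul, ← mul_assoc]
        congr 1
        simp only [mul_assoc]
        rw [← mul_assoc (trans τ _) (trans τ _), trans_sq hτ2, one_mul]
    intro e w
    have h2 := this w (1, e)
    have h3 := step_nat s FreeGroup.of (FreeGroup.lift v') w (1, e)
    simp only [map_one, FreeGroup.lift_apply_of] at h3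
    rw [h3] at h2
    simpa using h2
  refine ⟨X × ℤˣ, v', word 1 W :: (L.map (word 1) ++ L.map (word (-1))), ?_, ?_, ?_, ?_⟩
  · simp only [List.length_cons, List.length_append, List.length_map]; omega
  · intro z hz
    apply Subtype.ext
    simp only [List.mem_cons, List.mem_append, List.mem_map] at hz
    rcases hz with rfl | ⟨w, hw, rfl⟩ | ⟨w, hw, rfl⟩
    · rw [hT, hW]; simp [schreier, trans, hχτ, hτ2]
    · rw [hT, hv w hw]; simp [schreier, trans_sq hτ2]
    · rw [hT, hv w hw]; simp [schreier, trans_sq hτ2]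
  · rw [eq_top_iff]
    rintro ⟨g, hg⟩ -
    have := schreier_closure χ hτ2 hgen (Subgroup.map χ.ker.subtype (Subgroup.closure (Set.range v'))) (by
      rintro _ ⟨x, rfl⟩ e
      exact ⟨v' (x, e), Subgroup.subset_closure ⟨(x, e), rfl⟩, rfl⟩) hg
    obtain ⟨g', hg', he⟩ := this
    exact (Subtype.ext he : g' = ⟨g, hg⟩) ▸ hg'
  · intro G _ f hf
    have hone : ∀ w ∈ L, ∀ e, FreeGroup.lift f (word e w) = 1 := by
      intro w hw e
      rcases Int.units_eq_one_or e with rfl | rfl
      · exact hf _ (by simp only [List.mem_cons, List.mem_append, List.mem_map]; exact Or.inr (Or.inl ⟨w, hw, rfl⟩))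
      · exact hf _ (by simp only [List.mem_cons, List.mem_append, List.mem_map]; exact Or.inr (Or.inr ⟨w, hw, rfl⟩))
    obtain ⟨Φ, hΦ⟩ := huniv (Equiv.Perm (G × ℤˣ)) (step s f) fun w hw => by
      refine Equiv.ext fun q => ?_
      obtain ⟨g, e⟩ := q
      rw [step_shift s f w g e, ← hnat, hone w hw e, hsl, hv w hw]
      simp
    have hΦw : ∀ w q, Φ (FreeGroup.lift v w) q = FreeGroup.lift (step s f) w q := fun w q => by
      rw [hom_lift Φ hΦ]
    have hshift : ∀ t g e, Φ t (g, e) = ((Φ t (1, e)).1 * g, χ t * e) := by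
      intro t g e
      obtain ⟨w, rfl⟩ := exists_word hgen t
      rw [hΦw, hΦw, step_shift s f w g e, hsl]
    let ψ : χ.ker →* G := MonoidHom.mk' (fun t => (Φ t (1, 1)).1) fun a b => by
      show (Φ ((a : T) * b) (1, 1)).1 = _
      rw [map_mul, Equiv.Perm.mul_apply, hshift b 1 1, MonoidHom.mem_ker.1 b.2, mul_one, mul_one,
        hshift a _ 1]
    have hτ0 : Φ τ (1, 1) = (1, -1) := by
      rw [hshift, hχτ, ← hW, hΦw, ← hnat, hf _ List.mem_cons_self]
      simp
    have hτ1 : Φ τ (1, -1) = (1, 1) := by
      have : Φ τ (Φ τ (1, 1)) = (1, 1) := by rw [← Equiv.Perm.mul_apply, ← map_mul, hτ2, map_one]; rfl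
      rwa [hτ0] at this
    refine ⟨ψ, fun ⟨x, e⟩ => ?_⟩
    show (Φ (schreier χ τ (v x) e) (1, 1)).1 = f (x, e)
    have ht0 : Φ (trans τ e) (1, 1) = (1, e) := by
      rcases Int.units_eq_one_or e with rfl | rfl
      · simp [trans]
      · simp [trans, hτ0]
    have ht1 : ∀ g c, Φ (trans τ c) (g, c) = (g, 1) := by
      intro g c
      rw [hshift]
      rcases Int.units_eq_one_or c with rfl | rfl
      · simp [trans]
      · simp [trans, hτ1, hχτ]
    rw [schreier, map_mul, map_mul, Equiv.Perm.mul_apply, Equiv.Perm.mul_apply, ht0, hΦ]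
    show (Φ (trans τ (s x * e)) (f (x, e) * 1, s x * e)).1 = f (x, e)
    rw [ht1, mul_one]

end IndexTwo

end CfsgLib.BoundedPres
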