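import Cfsg.Agent.Lib.BoundedPres.SymPrime

/-!
Two overlapping copies of a symmetric group give a presentation of a larger one.
-/

set_option autoImplicit false

namespace CfsgLib.BoundedPres

open Equiv
open CfsgLib.AltHall (ARel)

/-- The product `f a * f (a + 1) * ⋯` with `k` factors. -/
def seqProd {G : Type*} [Monoid G] (f : ℕ → G) (a : ℕ) : ℕ → G
  | 0 => 1
  | k + 1 => seqProd f a k * f (a + k)

theorem map_seqProd {G H : Type*} [Monoid G] [Monoid H] (φ : G →* H) (f : ℕ → G) (a k : ℕ) :
    φ (seqProd f a k) = seqProd (fun i => φ (f i)) a k := by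
  induction k with
  | zero => exact map_one φ
  | succ k ih => simp [seqProd, ih]

theorem seqProd_congr {G : Type*} [Monoid G] {f g : ℕ → G} {a : ℕ} :
    ∀ {k : ℕ}, (∀ i < k, f (a + i) = g (a + i)) → seqProd f a k = seqProd g a k
  | 0, _ => rfl
  | k + 1, h => by
    rw [seqProd, seqProd, seqProd_congr (k := k) fun i hi => h i (by omega), h k (by omega)]

section Rel

variable {G : Type*} [Group G] {f : ℕ → G} {n : ℕ} (h : ARel f n)
include h

theorem seqProd_commute {a i : ℕ} : ∀ {k : ℕ}, a + k < i → i < n → Commute (seqProd f a k) (f i)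
  | 0, _, _ => Commute.one_left _
  | k + 1, h1, h2 => (seqProd_commute (k := k) (by omega) h2).mul_left (h.2.1 (a + k) i h2 (by omega))

theorem seqProd_shift {a i : ℕ} : ∀ {k : ℕ}, a ≤ i → i + 1 < a + k → a + k ≤ n →
    seqProd f a k * f i = f (i + 1) * seqProd f a k
  | 0, _, h2, _ => by omega
  | k + 1, h1, h2, h3 => by
    rcases Nat.lt_or_ge (i + 1) (a + k) with hlt | hge
    · rw [seqProd, mul_assoc, ← h.2.1 i (a + k) (by omega) (by omega), ← mul_assoc,
        seqProd_shift (k := k) h1 hlt (by omega), mul_assoc]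
    · obtain ⟨j, rfl⟩ : ∃ j, k = j + 1 := ⟨k - 1, by omega⟩
      obtain rfl : i = a + j := by omega
      have hb := h.2.2 (a + j) (by omega)
      calc seqProd f a (j + 1 + 1) * f (a + j)
          = seqProd f a j * (f (a + j) * f (a + j + 1) * f (a + j)) := by
            simp only [seqProd, ← add_assoc]; group
        _ = (seqProd f a j * f (a + j + 1)) * (f (a + j) * f (a + j + 1)) := by rw [hb]; group
        _ = f (a + j + 1) * seqProd f a (j + 1 + 1) := by
            rw [(seqProd_commute h (k := j) (by omega) (by omega)).eq]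
            simp only [seqProd, ← add_assoc]; group

theorem seqProd_conj {a k j : ℕ} (hj : j + 1 < k) (hn : a + k ≤ n) :
    seqProd f a k * f (a + j) * (seqProd f a k)⁻¹ = f (a + j + 1) := by
  rw [seqProd_shift h (by omega) (by omega) hn, mul_inv_cancel_right]

end Rel

variable {N : ℕ}

/-- The adjacent transposition starting at `i`. -/
def swN (N i : ℕ) : Perm (Fin (N + 1)) :=
  if h : i < N then Equiv.swap (⟨i, h⟩ : Fin N).castSucc (⟨i, h⟩ : Fin N).succ else 1

theorem swN_eq {i : ℕ} (h : i < N) :
    swN N i = Equiv.swap (⟨i, h⟩ : Fin N).castSucc (⟨i, h⟩ : Fin N).succ := dif_pos h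

theorem aRel_swN {M : ℕ} (hM : M ≤ N) : ARel (swN N) M := by
  refine ⟨fun i hi => ?_, fun i j hj hij => ?_, fun i hi => ?_⟩
  · rw [swN_eq (by omega)]; exact Equiv.swap_mul_self _ _
  · rw [swN_eq (show i < N by omega), swN_eq (show j < N by omega)]
    apply (Equiv.Perm.disjoint_swap_swap _).commute
    simp [Fin.ext_iff]
    omega
  · rw [swN_eq (show i < N by omega), swN_eq (show i + 1 < N by omega)]
    have e : (⟨i + 1, by omega⟩ : Fin N).castSucc = (⟨i, by omega⟩ : Fin N).succ := Fin.ext (by simp)
    rw [e]
    set a := (⟨i, by omega⟩ : Fin N).castSucc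
    set b := (⟨i, by omega⟩ : Fin N).succ
    set c := (⟨i + 1, by omega⟩ : Fin N).succ
    have hab : a ≠ b := by simp [a, b, Fin.ext_iff]
    have hac : a ≠ c := by simp [a, c, Fin.ext_iff]; omega
    have hbc : b ≠ c := by simp [b, c, Fin.ext_iff]
    have e1 := Equiv.swap_mul_swap_mul_swap (x := c) (y := b) (z := a) hbc.symm hac.symm
    have e2 := Equiv.swap_mul_swap_mul_swap (x := a) (y := b) (z := c) hab hac
    rw [Equiv.swap_comm b a, Equiv.swap_comm c b] at e1
    rw [e1, e2, Equiv.swap_comm]

theorem closure_swN : Subgroup.closure (Set.range fun i : Fin N => swN N i) = ⊤ :=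
  perm_eq_top_of_adjacent _ fun i => Subgroup.subset_closure ⟨i, swN_eq i.2⟩

/-- The relations of type `A` in full, for a small degree. -/
theorem pres_sym_coxeter (N : ℕ) : Pres (Perm (Fin (N + 1))) (N * N) := by
  classical
  let L : List (FreeGroup (Fin N)) := (List.finRange N).flatMap fun i => (List.finRange N).map fun j =>
    (FreeGroup.of i * FreeGroup.of j) ^ CoxeterMatrix.A N i j
  have hlen : L.length = N * N := by simp [L, List.length_flatMap]
  rw [← hlen]
  obtain ⟨cs, hcs⟩ := CfsgLib.AltHall.exists_coxeterSystem_perm N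
  refine Pres.of_bound (fun i => cs.simple i) L ?_ cs.subgroup_closure_range_simple fun G _ f hf hk => ?_
  · intro w hw
    obtain ⟨i, -, hw⟩ := List.mem_flatMap.1 hw
    obtain ⟨j, -, rfl⟩ := List.mem_map.1 hw
    rw [map_pow, map_mul, FreeGroup.lift_apply_of, FreeGroup.lift_apply_of]
    exact cs.simple_mul_simple_pow i j
  · have hlift : CoxeterMatrix.IsLiftable (CoxeterMatrix.A N) f := fun i j => by
      have := hk _ (List.mem_flatMap.2 ⟨i, List.mem_finRange i, List.mem_map.2 ⟨j, List.mem_finRange j, rfl⟩⟩)
      rwa [map_pow, map_mul, FreeGroup.lift_apply_of, FreeGroup.lift_apply_of] at this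
    let π : Perm (Fin (N + 1)) →* G := cs.lift ⟨f, hlift⟩
    have hs : Function.Surjective π := by
      rw [← MonoidHom.range_eq_top, eq_top_iff, ← hf, Subgroup.closure_le]
      rintro _ ⟨i, rfl⟩
      exact ⟨cs.simple i, cs.lift_apply_simple hlift i⟩
    exact ⟨Finite.of_surjective π hs, Nat.card_le_card_of_surjective π hs⟩

/-- Gluing two copies of the symmetric group of degree `M + 1` overlapping in two points or more. -/
theorem pres_glue {M d r : ℕ} (hd : 1 ≤ d) (hdM : d + 1 ≤ M) (hP : Pres (Perm (Fin (M + 1))) r) :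
    Pres (Perm (Fin (M + d + 1))) (r + 7) := by
  classical
  obtain ⟨X, v, L, hlen, hv, hgen, huniv⟩ := hP
  set N := M + d with hN
  -- the first copy
  obtain ⟨ι, hι⟩ := perm_hom_of_aRel (aRel_swN (N := N) (M := M) (by omega))
  have hι' : ∀ i < M, ι (swN M i) = swN N i := fun i hi => by rw [swN_eq hi]; exact hι ⟨i, hi⟩
  -- the translation
  set σ : Perm (Fin (N + 1)) := Equiv.addRight (⟨d, by omega⟩ : Fin (N + 1)) with hσ
  have hσv : ∀ x : Fin (N + 1), (x : ℕ) + d < N + 1 → ((σ x : Fin (N + 1)) : ℕ) = x + d := fun x hx => by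
    simp [hσ, Fin.val_add, Nat.mod_eq_of_lt hx]
  have hσi : ∀ i < M, σ * swN N i * σ⁻¹ = swN N (i + d) := by
    intro i hi
    rw [swN_eq (show i < N by omega), swN_eq (show i + d < N by omega), ← Equiv.swap_apply_apply]
    congr 1
    · refine Fin.ext ?_; rw [hσv _ (by simp; omega)]; simp
    · refine Fin.ext ?_; rw [hσv _ (by simp; omega)]; simp; omega
  -- words
  choose W hW using fun i : ℕ => exists_word hgen (swN M i)
  obtain ⟨Wσ, hWσ⟩ := exists_word (closure_swN (N := N)) σ
  let inl' : FreeGroup X →* FreeGroup (X ⊕ Unit) := FreeGroup.map Sum.inl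
  let wv : FreeGroup (X ⊕ Unit) := FreeGroup.of (Sum.inr ())
  let A : ℕ → FreeGroup (X ⊕ Unit) := fun i => inl' (W i)
  let B : ℕ → FreeGroup (X ⊕ Unit) := fun i => wv * A (i - d) * wv⁻¹
  let C : ℕ → FreeGroup (X ⊕ Unit) := fun i => if i < M then A i else B i
  let comm' : FreeGroup (X ⊕ Unit) → FreeGroup (X ⊕ Unit) → FreeGroup (X ⊕ Unit) := fun a b => a * b * a⁻¹ * b⁻¹
  let L2 : List (FreeGroup (X ⊕ Unit)) := L.map inl' ++
    [A d * (B d)⁻¹, seqProd A d (M - d) * (seqProd B d (M - d))⁻¹,
      comm' (A 0) (B M), comm' (A 0) (seqProd B M d), comm' (seqProd A 0 d) (B M),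
      comm' (seqProd A 0 d) (seqProd B M d), wv * (FreeGroup.lift (fun i : Fin N => C i) Wσ)⁻¹]
  have hlen2 : L2.length ≤ r + 7 := by simp [L2]; omega
  refine Pres.mono ?_ hlen2
  have hinl_eq : inl' = FreeGroup.lift fun x => FreeGroup.of (Sum.inl x) :=
    FreeGroup.ext_hom _ _ fun x => by simp [inl']
  have hinl : ∀ {G : Type} [Group G] (f : X ⊕ Unit → G) (z : FreeGroup X),
      FreeGroup.lift f (inl' z) = FreeGroup.lift (fun x => f (Sum.inl x)) z := fun f z => by
    rw [hinl_eq]
    exact hom_lift (FreeGroup.lift f) (v := fun x => FreeGroup.of (Sum.inl x)) (fun x => by simp) z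
  set v2 : X ⊕ Unit → Perm (Fin (N + 1)) := Sum.elim (fun x => ι (v x)) (fun _ => σ) with hv2
  have hA : ∀ i < M, FreeGroup.lift v2 (A i) = swN N i := fun i hi => by
    show FreeGroup.lift v2 (inl' (W i)) = _
    rw [hinl]
    show FreeGroup.lift (fun x => ι (v x)) (W i) = _
    rw [← hom_lift ι (fun _ => rfl), hW, hι' i hi]
  have hB : ∀ i, d ≤ i → i < N → FreeGroup.lift v2 (B i) = swN N i := fun i h1 h2 => by
    show FreeGroup.lift v2 (wv * A (i - d) * wv⁻¹) = _
    rw [map_mul, map_mul, map_inv, hA _ (by omega)]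
    simp only [wv, FreeGroup.lift_apply_of, hv2, Sum.elim_inr]
    rw [hσi _ (by omega)]
    congr 1
    omega
  have hC : ∀ i < N, FreeGroup.lift v2 (C i) = swN N i := fun i hi => by
    show FreeGroup.lift v2 (if i < M then A i else B i) = _
    split_ifs with h
    exacts [hA i h, hB i (by omega) hi]
  have hcomm0 : ∀ i, i < d → ∀ j, M ≤ j → j < N → Commute (swN N i) (swN N j) :=
    fun i hi j hj hjN => (aRel_swN (N := N) (M := N) le_rfl).2.1 i j hjN (by omega)
  refine Pres.of_bound v2 L2 ?_ ?_ ?_
  · intro w hw
    rcases List.mem_append.1 hw with hw | hw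
    · obtain ⟨z, hz, rfl⟩ := List.mem_map.1 hw
      rw [hinl]
      show FreeGroup.lift (fun x => ι (v x)) z = 1
      rw [← hom_lift ι (fun _ => rfl), hv z hz, map_one]
    · have hsA : ∀ a k, a + k ≤ M → FreeGroup.lift v2 (seqProd A a k) = seqProd (swN N) a k := fun a k h => by
        rw [map_seqProd]; exact seqProd_congr fun i hi => hA _ (by omega)
      have hsB : ∀ a k, d ≤ a → a + k ≤ N → FreeGroup.lift v2 (seqProd B a k) = seqProd (swN N) a k :=
        fun a k h h' => by rw [map_seqProd]; exact seqProd_congr fun i hi => hB _ (by omega) (by omega)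
      have hc1 : ∀ j, M ≤ j → j < N → Commute (seqProd (swN N) 0 d) (swN N j) := fun j h1 h2 =>
        seqProd_commute (aRel_swN (N := N) (M := N) le_rfl) (by omega) h2
      have hc2 : ∀ (g : Perm (Fin (N + 1))), (∀ j, M ≤ j → j < N → Commute g (swN N j)) →
          ∀ k, M + k ≤ N → Commute g (seqProd (swN N) M k) := by
        intro g hg k
        induction k with
        | zero => intro _; exact Commute.one_right _
        | succ k ih => intro hk; exact (ih (by omega)).mul_right (hg _ (by omega) (by omega))
      simp only [List.mem_cons, List.not_mem_nil, or_false] at hw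
      rcases hw with rfl | rfl | rfl | rfl | rfl | rfl | rfl <;>
        simp only [comm', map_mul, map_inv, mul_inv_eq_one, mul_inv_eq_iff_eq_mul, one_mul]
      · rw [hA d (by omega), hB d le_rfl (by omega)]
      · rw [hsA d _ (by omega), hsB d _ le_rfl (by omega)]
      · rw [hA 0 (by omega), hB M (by omega) (by omega)]
        exact hcomm0 0 (by omega) M le_rfl (by omega)
      · rw [hA 0 (by omega), hsB M d (by omega) (by omega)]
        exact hc2 _ (fun j h1 h2 => hcomm0 0 (by omega) j h1 h2) d (by omega)
      · rw [hsA 0 d (by omega), hB M (by omega) (by omega)]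
        exact hc1 M le_rfl (by omega)
      · rw [hsA 0 d (by omega), hsB M d (by omega) (by omega)]
        exact hc2 _ hc1 d (by omega)
      · rw [hom_lift (FreeGroup.lift v2) (v := fun i : Fin N => C i) (fun i => hC i i.2), hWσ]
        simp [wv, hv2]
  · rw [eq_top_iff, ← closure_swN, Subgroup.closure_le]
    rintro _ ⟨i, rfl⟩
    show swN N i ∈ _
    rw [← hC i i.2, ← FreeGroup.range_lift_eq_closure]
    exact ⟨_, rfl⟩
  · intro G _ f hf hk
    obtain ⟨ψ, hψ⟩ := huniv G (fun x => f (Sum.inl x)) fun z hz => by
      rw [← hinl]; exact hk _ (List.mem_append_left _ (List.mem_map_of_mem hz))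
    set w := f (Sum.inr ()) with hw
    set a : ℕ → G := fun i => ψ (swN M i) with ha
    set b : ℕ → G := fun i => w * a (i - d) * w⁻¹ with hb
    set cc : ℕ → G := fun i => if i < M then a i else b i with hcc
    have hfA : ∀ i, FreeGroup.lift f (A i) = a i := fun i => by
      show FreeGroup.lift f (inl' (W i)) = ψ (swN M i)
      rw [hinl, ← hom_lift ψ hψ, hW]
    have hfB : ∀ i, FreeGroup.lift f (B i) = b i := fun i => by
      show FreeGroup.lift f (wv * A (i - d) * wv⁻¹) = _
      rw [map_mul, map_mul, map_inv, hfA]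
      simp [wv, hb, hw]
    have hfC : ∀ i, FreeGroup.lift f (C i) = cc i := fun i => by
      show FreeGroup.lift f (if i < M then A i else B i) = _
      simp only [hcc]
      split_ifs
      exacts [hfA i, hfB i]
    have hrel := fun z hz => hk z (List.mem_append_right _ hz)
    simp only [List.forall_mem_cons, List.not_mem_nil, false_imp_iff, implies_true, and_true, comm',
      map_mul, map_inv, map_seqProd, mul_inv_eq_one, mul_inv_eq_iff_eq_mul, one_mul, hfA, hfB] at hrel
    obtain ⟨hid, hidc, hc00, hc01, hc10, hc11, hwrel⟩ := hrel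
    have hAR : ARel a M := by
      have h := aRel_swN (N := M) (M := M) le_rfl
      refine ⟨fun i hi => ?_, fun i j hj hij => ?_, fun i hi => ?_⟩
      · simp only [ha, ← map_mul, h.1 i hi, map_one]
      · simp only [ha, ← map_mul, h.2.1 i j hj hij]
      · simp only [ha, ← map_mul, h.2.2 i hi]
    have hBR : ∀ i, d ≤ i → i < N → b i * b i = 1 := fun i h1 h2 => by
      simp only [hb]
      rw [show w * a (i - d) * w⁻¹ * (w * a (i - d) * w⁻¹) = w * (a (i - d) * a (i - d)) * w⁻¹ by group,
        hAR.1 _ (by omega), mul_one, mul_inv_cancel]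
    have hBconj : ∀ a0 k j, d ≤ a0 → a0 + k ≤ N → j + 1 < k →
        seqProd b a0 k * b (a0 + j) * (seqProd b a0 k)⁻¹ = b (a0 + j + 1) := by
      intro a0 k j h1 h2 h3
      have e : seqProd b a0 k = w * seqProd a (a0 - d) k * w⁻¹ := by
        have := map_seqProd (MulAut.conj w).toMonoidHom a (a0 - d) k
        simp only [MulEquiv.coe_toMonoidHom, MulAut.conj_apply] at this
        rw [this]
        have hh : ∀ k, seqProd b a0 k = seqProd (fun i => w * a i * w⁻¹) (a0 - d) k := by
          intro k
          induction k with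
          | zero => rfl
          | succ k ih =>
            rw [seqProd, seqProd, ih]
            show _ * (w * a (a0 + k - d) * w⁻¹) = _
            rw [show a0 + k - d = a0 - d + k by omega]
        exact hh k
      rw [e]
      simp only [hb]
      rw [show a0 + j - d = a0 - d + j by omega, show a0 + j + 1 - d = a0 - d + j + 1 by omega,
        show w * seqProd a (a0 - d) k * w⁻¹ * (w * a (a0 - d + j) * w⁻¹) * (w * seqProd a (a0 - d) k * w⁻¹)⁻¹ =
          w * (seqProd a (a0 - d) k * a (a0 - d + j) * (seqProd a (a0 - d) k)⁻¹) * w⁻¹ by group,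
        seqProd_conj hAR h3 (by omega)]
    have hagree : ∀ j, j < M - d → a (d + j) = b (d + j) := by
      intro j
      induction j with
      | zero => intro _; exact hid
      | succ j ih =>
        intro hj
        rw [← add_assoc, ← seqProd_conj hAR (a := d) (k := M - d) (j := j) hj (by omega),
          ← hBconj d (M - d) j le_rfl (by omega) hj, hidc, ih (by omega)]
    have hcomm : ∀ i, i < d → ∀ j, M ≤ j → j < N → Commute (a i) (b j) := by
      intro i hi j hj hjN
      obtain ⟨j, rfl⟩ := Nat.exists_eq_add_of_le hj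
      have hj' : j < d := by omega
      clear hj hjN
      have first : ∀ g, Commute g (b M) → Commute g (seqProd b M d) → ∀ j < d, Commute g (b (M + j)) := by
        intro g g1 g2 j
        induction j with
        | zero => intro _; exact g1
        | succ j ih =>
          intro hj
          rw [← add_assoc, ← hBconj M d j (by omega) (by omega) hj]
          exact (g2.mul_right (ih (by omega))).mul_right g2.inv_right
      have e0 := first _ hc00 hc01 j hj'
      have e1 := first _ hc10 hc11 j hj'
      have key : ∀ i < d, Commute (a i) (b (M + j)) := by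
        intro i
        induction i with
        | zero => intro _; exact e0
        | succ i ih =>
          intro hi
          have := seqProd_conj hAR (a := 0) (k := d) (j := i) hi (by omega)
          rw [zero_add] at this
          rw [← this]
          exact (e1.mul_left (ih (by omega))).mul_left e1.inv_left
      exact key i hi
    have hcA : ∀ i, i < M → cc i = a i := fun i hi => if_pos hi
    have hcB : ∀ i, d ≤ i → i < N → cc i = b i := fun i h1 h2 => by
      by_cases hi : i < M
      · rw [hcA i hi, ← show d + (i - d) = i by omega, hagree (i - d) (by omega)]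
      · exact if_neg hi
    have hCR : ARel cc N := by
      refine ⟨fun i hi => ?_, fun i j hj hij => ?_, fun i hi => ?_⟩
      · by_cases h : i < M
        · rw [hcA i h]; exact hAR.1 i h
        · rw [hcB i (by omega) hi]; exact hBR i (by omega) hi
      · by_cases h1 : j < M
        · rw [hcA i (by omega), hcA j h1]; exact hAR.2.1 i j h1 hij
        · by_cases h2 : d ≤ i
          · rw [hcB i h2 (by omega), hcB j (by omega) hj]
            simp only [hb]
            rw [show w * a (i - d) * w⁻¹ * (w * a (j - d) * w⁻¹) = w * (a (i - d) * a (j - d)) * w⁻¹ by group,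
              hAR.2.1 (i - d) (j - d) (by omega) (by omega)]
            group
          · rw [hcA i (by omega), hcB j (by omega) hj]
            exact hcomm i (by omega) j (by omega) hj
      · by_cases h : i + 1 < M
        · rw [hcA i (by omega), hcA (i + 1) h]; exact hAR.2.2 i h
        · rw [hcB i (by omega) (by omega), hcB (i + 1) (by omega) hi]
          simp only [hb]
          have hbr := hAR.2.2 (i - d) (by omega)
          rw [show i + 1 - d = i - d + 1 by omega]
          calc w * a (i - d) * w⁻¹ * (w * a (i - d + 1) * w⁻¹) * (w * a (i - d) * w⁻¹)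
              = w * (a (i - d) * a (i - d + 1) * a (i - d)) * w⁻¹ := by group
            _ = w * (a (i - d + 1) * a (i - d) * a (i - d + 1)) * w⁻¹ := by rw [hbr]
            _ = _ := by group
    obtain ⟨π, hπ⟩ := perm_hom_of_aRel hCR
    have hπ' : ∀ i < N, π (swN N i) = cc i := fun i hi => by rw [swN_eq hi]; exact hπ ⟨i, hi⟩
    have hsurj : Function.Surjective π := by
      rw [← MonoidHom.range_eq_top, eq_top_iff, ← hf, Subgroup.closure_le]
      rintro _ ⟨x, rfl⟩
      cases x with
      | inl x =>
        have hrange : Subgroup.comap ψ π.range = ⊤ := perm_eq_top_of_adjacent _ fun i => by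
          show ψ _ ∈ π.range
          rw [← swN_eq i.2]
          exact ⟨swN N i, by rw [hπ' i (by omega), hcA i i.2]⟩
        show f (Sum.inl x) ∈ π.range
        rw [← hψ]
        exact (hrange ▸ Subgroup.mem_top (v x) : v x ∈ Subgroup.comap ψ π.range)
      | inr x =>
        refine ⟨σ, ?_⟩
        rw [← hWσ, hom_lift π (v := fun i : Fin N => swN N i) (fun i => hπ' i i.2)]
        rw [hom_lift (FreeGroup.lift f) (v := fun i : Fin N => C i) (fun i => hfC i),
          show FreeGroup.lift f wv = f (Sum.inr x) by simp [wv]] at hwrel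
        exact hwrel.symm
    exact ⟨Finite.of_surjective π hsurj, Nat.card_le_card_of_surjective π hsurj⟩

/-- Every symmetric group of degree at least four has a presentation with eighteen relations. -/
theorem pres_sym (n : ℕ) (hn : 4 ≤ n) : Pres (Perm (Fin n)) 18 := by
  by_cases h : n ≤ 5
  · obtain ⟨N, rfl⟩ : ∃ N, n = N + 1 := ⟨n - 1, by omega⟩
    exact (pres_sym_coxeter N).mono (le_trans (Nat.mul_le_mul (show N ≤ 4 by omega) (show N ≤ 4 by omega)) (by norm_num))
  obtain ⟨p, hp, hpl, hpu⟩ := Nat.exists_prime_lt_and_le_two_mul ((n - 2) / 2) (by omega)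
  haveI : Fact p.Prime := ⟨hp⟩
  have hp3 : 3 ≤ p := by omega
  have h0 : Pres (Perm (Fin (p + 1 + 1))) 11 := by
    have hc : Fintype.card (Option (Option (ZMod p))) = p + 1 + 1 := by
      rw [Fintype.card_option, Fintype.card_option, ZMod.card]
    exact (pres_sym_prime hp3).congr ((Fintype.equivFinOfCardEq hc).permCongrHom)
  rcases Nat.eq_or_lt_of_le (show p + 1 + 1 ≤ n by omega) with rfl | hlt
  · exact h0.mono (by omega)
  · obtain ⟨d, rfl⟩ : ∃ d, n = p + 1 + d + 1 := ⟨n - (p + 1 + 1), by omega⟩
    exact pres_glue (M := p + 1) (d := d) (by omega) (by omega) h0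

end CfsgLib.BoundedPres
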