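import Cfsg.Agent.Lib.BoundedPres.Basic

/-!
Presentations with a given type of generators and a bounded number of relations.
-/

set_option autoImplicit false

namespace CfsgLib.BoundedPres

/-- `T` has a presentation on generators indexed by `X` with at most `r` relations. -/
def PresOn (X : Type) (T : Type*) [Group T] (r : ℕ) : Prop :=
  ∃ (v : X → T) (L : List (FreeGroup X)), L.length ≤ r ∧ Kills v L ∧
    Subgroup.closure (Set.range v) = ⊤ ∧
    ∀ (G : Type) [Group G] (f : X → G), Kills f L → ∃ ψ : T →* G, ∀ x, ψ (v x) = f x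

theorem PresOn.pres {X : Type} {T : Type*} [Group T] {r : ℕ} (h : PresOn X T r) : Pres T r := ⟨X, h⟩

theorem PresOn.mono {X : Type} {T : Type*} [Group T] {r r' : ℕ} (h : PresOn X T r) (hle : r ≤ r') :
    PresOn X T r' := by
  obtain ⟨v, L, hlen, rest⟩ := h
  exact ⟨v, L, hlen.trans hle, rest⟩

/-- From a bound on the order of a group satisfying the relations together with a compatible map. -/
theorem PresOn.of_bound {T : Type*} [Group T] [Finite T] {X : Type} (v : X → T) (L : List (FreeGroup X))
    (hL : Kills v L) (hgen : Subgroup.closure (Set.range v) = ⊤)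
    (hcore : ∀ (G : Type) [Group G] (φ : G →* T) (f : X → G), (∀ x, φ (f x) = v x) →
      Subgroup.closure (Set.range f) = ⊤ → Kills f L → Finite G ∧ Nat.card G ≤ Nat.card T) :
    PresOn X T L.length := by
  set R : Set (FreeGroup X) := {w | w ∈ L} with hR
  let φ : PresentedGroup R →* T := PresentedGroup.toGroup (f := v) hL
  have hφ : ∀ x, φ (PresentedGroup.of x) = v x := fun x => PresentedGroup.toGroup.of (f := v) hL
  have hrel : Kills (fun x => (PresentedGroup.of x : PresentedGroup R)) L := by
    intro w hw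
    have he : FreeGroup.lift (fun x => (PresentedGroup.of x : PresentedGroup R)) = PresentedGroup.mk R :=
      FreeGroup.ext_hom _ _ fun i => by simp [PresentedGroup.of]
    rw [he]
    exact PresentedGroup.one_of_mem hw
  obtain ⟨hfin, hle⟩ := hcore _ φ _ hφ (PresentedGroup.closure_range_of R) hrel
  have hsurj : Function.Surjective φ := by
    rw [← MonoidHom.range_eq_top, eq_top_iff, ← hgen, Subgroup.closure_le]
    rintro _ ⟨x, rfl⟩
    exact ⟨_, hφ x⟩
  let e := MulEquiv.ofBijective φ ((Nat.bijective_iff_surjective_and_card φ).2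
    ⟨hsurj, le_antisymm hle (Nat.card_le_card_of_surjective φ hsurj)⟩)
  refine ⟨v, L, le_rfl, hL, hgen, fun G _ f hf => ?_⟩
  refine ⟨(PresentedGroup.toGroup (f := f) (rels := R) hf).comp e.symm.toMonoidHom, fun x => ?_⟩
  have : e.symm (v x) = PresentedGroup.of x := by rw [e.symm_apply_eq]; exact (hφ x).symm
  show PresentedGroup.toGroup (f := f) (rels := R) hf (e.symm (v x)) = f x
  rw [this]
  exact PresentedGroup.toGroup.of (f := f) (rels := R) hf

theorem PresOn.of_iso {T : Type*} [Group T] {X : Type} (rels : Finset (FreeGroup X)) {r : ℕ}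
    (hc : rels.card ≤ r) (e : PresentedGroup (↑rels : Set (FreeGroup X)) ≃* T) : PresOn X T r := by
  refine ⟨fun x => e (PresentedGroup.of x), rels.toList, by simpa using hc, fun w hw => ?_, ?_,
    fun G _ f hf => ?_⟩
  · rw [← hom_lift e.toMonoidHom (v := PresentedGroup.of) (f := fun x => e (PresentedGroup.of x)) (fun x => rfl)]
    have he : FreeGroup.lift (PresentedGroup.of : X → PresentedGroup (↑rels : Set (FreeGroup X))) =
        PresentedGroup.mk _ := FreeGroup.ext_hom _ _ fun i => by simp [PresentedGroup.of]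
    rw [he, PresentedGroup.one_of_mem (by simpa using hw), map_one]
  · rw [show Set.range (fun x => e (PresentedGroup.of x)) = e.toMonoidHom '' Set.range PresentedGroup.of by
      rw [← Set.range_comp]; rfl, ← MonoidHom.map_closure, PresentedGroup.closure_range_of,
      Subgroup.map_top_of_surjective _ e.surjective]
  · refine ⟨(PresentedGroup.toGroup (f := f) (fun r hr => hf r (by simpa using hr))).comp
      e.symm.toMonoidHom, fun x => ?_⟩
    simp only [MonoidHom.comp_apply, MulEquiv.coe_toMonoidHom, MulEquiv.symm_apply_apply]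
    rw [PresentedGroup.toGroup.of]

/-- One more relation gives the quotient by a normally generated subgroup. -/
theorem PresOn.quotient {X : Type} {T : Type*} [Group T] (N : Subgroup T) [N.Normal] (z : T)
    (hN : N = Subgroup.normalClosure {z}) {r : ℕ} (h : PresOn X T r) : PresOn X (T ⧸ N) (r + 1) := by
  obtain ⟨v, L, hlen, hv, hgen, huniv⟩ := h
  obtain ⟨W, hW⟩ := exists_word hgen z
  have hmk : ∀ w, FreeGroup.lift (fun x => QuotientGroup.mk' N (v x)) w =
      QuotientGroup.mk' N (FreeGroup.lift v w) := fun w => (hom_lift _ (fun _ => rfl) w).symm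
  refine ⟨fun x => QuotientGroup.mk' N (v x), W :: L, by simpa using hlen, fun w hw => ?_, ?_,
    fun G _ f hf => ?_⟩
  · rw [hmk]
    rcases List.mem_cons.1 hw with rfl | hw
    · rw [hW]
      exact (QuotientGroup.eq_one_iff z).2 (hN ▸ Subgroup.subset_normalClosure rfl)
    · rw [hv w hw, map_one]
  · rw [show Set.range (fun x => QuotientGroup.mk' N (v x)) = QuotientGroup.mk' N '' Set.range v by
      rw [← Set.range_comp]; rfl, ← MonoidHom.map_closure, hgen,
      Subgroup.map_top_of_surjective _ (QuotientGroup.mk'_surjective N)]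
  · obtain ⟨ψ, hψ⟩ := huniv G f fun w hw => hf w (List.mem_cons_of_mem _ hw)
    have hker : N ≤ ψ.ker := by
      rw [hN]
      refine Subgroup.normalClosure_le_normal fun y hy => ?_
      rw [Set.mem_singleton_iff] at hy
      rw [SetLike.mem_coe, MonoidHom.mem_ker, hy, ← hW, hom_lift ψ hψ]
      exact hf W List.mem_cons_self
    exact ⟨QuotientGroup.lift N ψ hker, hψ⟩

theorem lift_map_gen {X Y : Type} (g : X → Y) {G : Type*} [Group G] (f : Y → G) (w : FreeGroup X) :
    FreeGroup.lift f (FreeGroup.lift (fun x => FreeGroup.of (g x)) w) = FreeGroup.lift (fun x => f (g x)) w :=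
  hom_lift (FreeGroup.lift f) (v := fun x => FreeGroup.of (g x)) (fun x => by simp) w

/-- Superfluous generators cost one relation each. -/
theorem PresOn.pad {X : Type} {T : Type*} [Group T] {r : ℕ} (h : PresOn X T r) (Y : Type) [Fintype Y] :
    PresOn (X ⊕ Y) T (r + Fintype.card Y) := by
  obtain ⟨v, L, hlen, hv, hgen, huniv⟩ := h
  let inl' : FreeGroup X →* FreeGroup (X ⊕ Y) := FreeGroup.lift fun x => FreeGroup.of (Sum.inl x)
  refine ⟨Sum.elim v fun _ => 1,
    L.map inl' ++ (Finset.univ : Finset Y).toList.map (fun y => FreeGroup.of (Sum.inr y)),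
    by simp [hlen], fun w hw => ?_, ?_, fun G _ f hf => ?_⟩
  · rcases List.mem_append.1 hw with hw | hw <;> obtain ⟨u, hu, rfl⟩ := List.mem_map.1 hw
    · rw [lift_map_gen]; exact hv u hu
    · simp
  · rw [eq_top_iff, ← hgen, Subgroup.closure_le]
    rintro _ ⟨x, rfl⟩
    exact Subgroup.subset_closure ⟨Sum.inl x, rfl⟩
  · obtain ⟨ψ, hψ⟩ := huniv G (fun x => f (Sum.inl x)) fun w hw => by
      rw [← lift_map_gen]; exact hf _ (List.mem_append_left _ (List.mem_map_of_mem hw))
    refine ⟨ψ, fun x => ?_⟩
    cases x with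
    | inl x => exact hψ x
    | inr y =>
      have := hf _ (List.mem_append_right _ (List.mem_map_of_mem (Finset.mem_toList.2 (Finset.mem_univ y))))
      simp only [FreeGroup.lift_apply_of] at this
      simp [this]

theorem PresOn.reindex {X Y : Type} {T : Type*} [Group T] {r : ℕ} (h : PresOn X T r) (e : X ≃ Y) :
    PresOn Y T r := by
  obtain ⟨v, L, hlen, hv, hgen, huniv⟩ := h
  let m : FreeGroup X →* FreeGroup Y := FreeGroup.lift fun x => FreeGroup.of (e x)
  refine ⟨fun y => v (e.symm y), L.map m, by simpa using hlen, fun w hw => ?_, ?_, fun G _ f hf => ?_⟩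
  · obtain ⟨u, hu, rfl⟩ := List.mem_map.1 hw
    rw [lift_map_gen]; simpa using hv u hu
  · rw [show Set.range (fun y => v (e.symm y)) = Set.range v from e.symm.surjective.range_comp v, hgen]
  · obtain ⟨ψ, hψ⟩ := huniv G (fun x => f (e x)) fun w hw => by
      rw [← lift_map_gen]; exact hf _ (List.mem_map_of_mem hw)
    exact ⟨ψ, fun y => by simpa using hψ (e.symm y)⟩

/-- Back to the usual form. -/
theorem PresOn.exists_iso {X : Type} {T : Type*} [Group T] {r : ℕ} (h : PresOn X T r) :
    ∃ rels : Finset (FreeGroup X), rels.card ≤ r ∧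
      Nonempty (PresentedGroup (↑rels : Set (FreeGroup X)) ≃* T) := by
  classical
  obtain ⟨v, L, hlen, hv, hgen, huniv⟩ := h
  refine ⟨L.toFinset, L.toFinset_card_le.trans hlen, ?_⟩
  set R : Set (FreeGroup X) := ↑L.toFinset with hR
  have hmem : ∀ w ∈ R, w ∈ L := fun w hw => by rwa [hR, List.coe_toFinset] at hw
  let φ : PresentedGroup R →* T := PresentedGroup.toGroup fun w hw => hv w (hmem w hw)
  obtain ⟨ψ, hψ⟩ := huniv (PresentedGroup R) (fun x => PresentedGroup.of x) fun w hw => by
    have he : FreeGroup.lift (fun x => (PresentedGroup.of x : PresentedGroup R)) = PresentedGroup.mk R :=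
      FreeGroup.ext_hom _ _ fun i => by simp [PresentedGroup.of]
    rw [he]
    exact PresentedGroup.one_of_mem (by rw [hR, List.coe_toFinset]; exact hw)
  have hφ : ∀ x, φ (PresentedGroup.of x) = v x := fun x => PresentedGroup.toGroup.of _
  have h1 : φ.comp ψ = MonoidHom.id T := by
    refine MonoidHom.eq_of_eqOn_dense hgen ?_
    rintro _ ⟨x, rfl⟩
    show φ (ψ (v x)) = v x
    rw [hψ, hφ]
  have h2 : ψ.comp φ = MonoidHom.id _ := by
    refine PresentedGroup.ext fun x => ?_
    show ψ (φ (PresentedGroup.of x)) = PresentedGroup.of x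
    rw [hφ, hψ]
  exact ⟨φ.toMulEquiv ψ h2 h1⟩

end CfsgLib.BoundedPres
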