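import Cfsg.Agent.Lib.BoundedPres.TwoGen
import Cfsg.Agent.Lib.PresentSL2.Even

/-!
`PSL_n(F)` has a presentation on two generators with at most eighty relations.
-/

set_option autoImplicit false

namespace CfsgLib.BoundedPres

open scoped MatrixGroups

variable {F : Type*} [Field F] [Fintype F]

theorem closure_image_mk {T : Type*} [Group T] (N : Subgroup T) [N.Normal] {a b : T}
    (h : Subgroup.closure ({a, b} : Set T) = ⊤) :
    Subgroup.closure ({QuotientGroup.mk' N a, QuotientGroup.mk' N b} : Set (T ⧸ N)) = ⊤ := by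
  rw [show ({QuotientGroup.mk' N a, QuotientGroup.mk' N b} : Set (T ⧸ N)) = QuotientGroup.mk' N '' {a, b} by
    simp [Set.image_insert_eq], ← MonoidHom.map_closure, h,
    Subgroup.map_top_of_surjective _ (QuotientGroup.mk'_surjective N)]

theorem center_normalClosure (n : ℕ) (hn : 0 < n) :
    ∃ z, Subgroup.center (Matrix.SpecialLinearGroup (Fin n) F) = Subgroup.normalClosure {z} := by
  haveI : IsCyclic (Subgroup.center (Matrix.SpecialLinearGroup (Fin n) F)) := by
    refine isCyclic_of_subgroup_isDomain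
      ({ toFun := fun A => ((A : Matrix.SpecialLinearGroup (Fin n) F) : Matrix (Fin n) (Fin n) F) ⟨0, hn⟩ ⟨0, hn⟩
         map_one' := by simp
         map_mul' := fun A B => ?_ } : Subgroup.center (Matrix.SpecialLinearGroup (Fin n) F) →* F) ?_
    · obtain ⟨r, -, hr⟩ := Matrix.SpecialLinearGroup.mem_center_iff.1 A.2
      rw [Subgroup.coe_mul, Matrix.SpecialLinearGroup.coe_mul, ← hr, Matrix.scalar_apply,
        Matrix.diagonal_mul, Matrix.diagonal_apply_eq]
    · intro A B h
      obtain ⟨r, -, hr⟩ := Matrix.SpecialLinearGroup.mem_center_iff.1 A.2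
      obtain ⟨s, -, hs⟩ := Matrix.SpecialLinearGroup.mem_center_iff.1 B.2
      simp only [MonoidHom.coe_mk, OneHom.coe_mk, ← hr, ← hs, Matrix.scalar_apply,
        Matrix.diagonal_apply_eq] at h
      apply Subtype.ext
      apply Subtype.ext
      rw [← hr, ← hs, h]
  obtain ⟨z, hz⟩ := IsCyclic.exists_generator (α := Subgroup.center (Matrix.SpecialLinearGroup (Fin n) F))
  refine ⟨(z : Matrix.SpecialLinearGroup (Fin n) F), le_antisymm (fun g hg => ?_) ?_⟩
  · obtain ⟨k, hk⟩ := Subgroup.mem_zpowers_iff.1 (hz ⟨g, hg⟩)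
    have hk' : ((z ^ k : Subgroup.center (Matrix.SpecialLinearGroup (Fin n) F)) : Matrix.SpecialLinearGroup (Fin n) F) = g := by
      rw [hk]
    rw [Subgroup.coe_zpow] at hk'
    rw [← hk']
    exact zpow_mem (Subgroup.subset_normalClosure (Set.mem_singleton (z : Matrix.SpecialLinearGroup (Fin n) F))) k
  · refine Subgroup.normalClosure_le_normal fun y hy => ?_
    rw [Set.mem_singleton_iff] at hy
    rw [hy]
    exact z.2

theorem SL2_two_generated (hq : 4 ≤ Fintype.card F) :
    ∃ a b : SL(2, F), Subgroup.closure ({a, b} : Set SL(2, F)) = ⊤ := by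
  obtain ⟨w, hgen⟩ : ∃ w : Fˣ, ∀ x : Fˣ, x ∈ Subgroup.zpowers w := IsCyclic.exists_generator
  have hw : (w : F) ≠ 0 := w.ne_zero
  have hsq : (w : F) * w ≠ 1 := by
    intro e
    have h1 : orderOf w ∣ 2 := orderOf_dvd_of_pow_eq_one (Units.ext (by simp [pow_two, e]))
    have h2 := Nat.le_of_dvd (by norm_num) h1
    rw [orderOf_eq_card_of_forall_mem_zpowers hgen, Nat.card_units, Nat.card_eq_fintype_card] at h2
    omega
  refine ⟨PresentSL2.dSL w, PresentSL2.uu 1 * PresentSL2.wSL, ?_⟩
  set H := Subgroup.closure ({PresentSL2.dSL w, PresentSL2.uu 1 * PresentSL2.wSL} : Set SL(2, F))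
  have hd : PresentSL2.dSL w ∈ H := Subgroup.subset_closure (by simp)
  have hb : PresentSL2.uu 1 * PresentSL2.wSL ∈ H := Subgroup.subset_closure (by simp)
  have hk : PresentSL2.uu (1 - (((w⁻¹ : Fˣ) : F) * ((w⁻¹ : Fˣ) : F))) ∈ H := by
    have hmem := H.mul_mem (H.mul_mem (H.mul_mem hb hd) (H.inv_mem hb)) hd
    have e : PresentSL2.uu (1 : F) * PresentSL2.wSL * PresentSL2.dSL w *
        (PresentSL2.uu (1 : F) * PresentSL2.wSL)⁻¹ * PresentSL2.dSL w =
        PresentSL2.uu (1 - (((w⁻¹ : Fˣ) : F) * ((w⁻¹ : Fˣ) : F))) := by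
      calc _ = PresentSL2.uu (1 : F) * (PresentSL2.wSL * PresentSL2.dSL w * PresentSL2.wSL⁻¹) *
            (PresentSL2.uu (1 : F))⁻¹ * PresentSL2.dSL w := by group
        _ = PresentSL2.uu (1 : F) * (PresentSL2.dSL w⁻¹ * (PresentSL2.uu (1 : F))⁻¹ * (PresentSL2.dSL w⁻¹)⁻¹) := by
          rw [PresentSL2.wSL_dSL, map_inv]; group
        _ = _ := by
          rw [show (PresentSL2.uu (1 : F))⁻¹ = PresentSL2.uu (-1 : F) by
            rw [inv_eq_iff_mul_eq_one, PresentSL2.uu_mul, add_neg_cancel, PresentSL2.uu_zero],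
            PresentSL2.dSL_uu, PresentSL2.uu_mul]
          congr 1
          ring
    rwa [e] at hmem
  have hne : 1 - (((w⁻¹ : Fˣ) : F) * ((w⁻¹ : Fˣ) : F)) ≠ 0 := by
    rw [Units.val_inv_eq_inv_val]
    refine sub_ne_zero.2 fun e => hsq ?_
    field_simp at e
    linear_combination e
  set k := 1 - (((w⁻¹ : Fˣ) : F) * ((w⁻¹ : Fˣ) : F))
  have hspan := exists_square_data w hgen {c | PresentSL2.uu (c * k) ∈ H}
    (by show PresentSL2.uu (0 * k) ∈ H; rw [zero_mul, PresentSL2.uu_zero]; exact one_mem H)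
    (fun a ha b hb => by
      show PresentSL2.uu ((a + b) * k) ∈ H
      rw [add_mul, ← PresentSL2.uu_mul]; exact H.mul_mem ha hb) (fun l => by
      have hl : PresentSL2.uu (((w : F) * w) ^ l * k) ∈ H := by
        induction l with
        | zero => rw [pow_zero, one_mul]; exact hk
        | succ l ih =>
          rw [pow_succ', mul_assoc, ← PresentSL2.dSL_uu]
          exact H.mul_mem (H.mul_mem hd ih) (H.inv_mem hd)
      refine ⟨hl, ?_⟩
      show PresentSL2.uu (-(((w : F) * w) ^ l) * k) ∈ H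
      have h := H.inv_mem hl
      rwa [show (PresentSL2.uu (((w : F) * w) ^ l * k))⁻¹ = PresentSL2.uu (-(((w : F) * w) ^ l) * k) by
        rw [inv_eq_iff_mul_eq_one, PresentSL2.uu_mul, ← add_mul, add_neg_cancel, zero_mul,
          PresentSL2.uu_zero]] at h)
  have hU : ∀ c, PresentSL2.uu c ∈ H := fun c => by
    have : c / k ∈ {c | PresentSL2.uu (c * k) ∈ H} := by rw [hspan]; exact Set.mem_univ _
    simpa [div_mul_cancel₀ _ hne] using this
  have hW : (PresentSL2.wSL : SL(2, F)) ∈ H := by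
    have := H.mul_mem (H.inv_mem (hU 1)) hb
    rwa [inv_mul_cancel_left] at this
  have hle : Subgroup.closure {PresentSL2.uu (1 : F), PresentSL2.dSL w, PresentSL2.wSL} ≤ H := by
    rw [Subgroup.closure_le]
    rintro x (rfl | rfl | rfl)
    exacts [hU 1, hd, hW]
  obtain ⟨p, hp⟩ := CharP.exists F
  haveI : Fact p.Prime := ⟨CharP.char_is_prime F p⟩
  rw [eq_top_iff]
  intro g _
  have key := PresentSL2.closure_eq_top w hgen fun x => ?_
  · exact hle (key ▸ Subgroup.mem_top g)
  · -- the unipotents lie in the closure of the three generators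
    set K := Subgroup.closure {PresentSL2.uu (1 : F), PresentSL2.dSL w, PresentSL2.wSL}
    have hd' : PresentSL2.dSL w ∈ K := Subgroup.subset_closure (by simp)
    have hall := exists_square_data w hgen {c | PresentSL2.uu c ∈ K}
      (by show PresentSL2.uu 0 ∈ K; rw [PresentSL2.uu_zero]; exact one_mem K)
      (fun a ha b hb => by show PresentSL2.uu (a + b) ∈ K; rw [← PresentSL2.uu_mul]; exact K.mul_mem ha hb)
      (fun l => by
        have hl : PresentSL2.uu (((w : F) * w) ^ l) ∈ K := by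
          induction l with
          | zero => rw [pow_zero]; exact Subgroup.subset_closure (by simp)
          | succ l ih =>
            rw [pow_succ', ← PresentSL2.dSL_uu]
            exact K.mul_mem (K.mul_mem hd' ih) (K.inv_mem hd')
        refine ⟨hl, ?_⟩
        show PresentSL2.uu (-(((w : F) * w) ^ l)) ∈ K
        have h := K.inv_mem hl
        rwa [show (PresentSL2.uu (((w : F) * w) ^ l))⁻¹ = PresentSL2.uu (-(((w : F) * w) ^ l)) by
          rw [inv_eq_iff_mul_eq_one, PresentSL2.uu_mul, add_neg_cancel, PresentSL2.uu_zero]] at h)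
    have : x ∈ {c | PresentSL2.uu c ∈ K} := by rw [hall]; exact Set.mem_univ _
    exact this

theorem psl_two_generators_eighty (n : ℕ) (hn : 2 ≤ n) (h2 : n = 2 → 4 ≤ Fintype.card F) :
    ∃ rels : Finset (FreeGroup (Fin 2)), rels.card ≤ 80 ∧
      Nonempty (PresentedGroup (↑rels : Set (FreeGroup (Fin 2))) ≃* Matrix.ProjectiveSpecialLinearGroup (Fin n) F) := by
  classical
  suffices h : Pres (Matrix.ProjectiveSpecialLinearGroup (Fin n) F) 78 ∧ ∃ a b : Matrix.SpecialLinearGroup (Fin n) F,
      Subgroup.closure ({a, b} : Set (Matrix.SpecialLinearGroup (Fin n) F)) = ⊤ by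
    obtain ⟨hP, a, b, hab⟩ := h
    exact hP.two_generators _ _ (closure_image_mk (Subgroup.center _) hab)
  rcases Nat.lt_or_ge n 3 with h3 | h3
  · obtain rfl : n = 2 := by omega
    refine ⟨?_, SL2_two_generated (h2 rfl)⟩
    obtain ⟨p, hp⟩ := CharP.exists F
    haveI : Fact p.Prime := ⟨CharP.char_is_prime F p⟩
    obtain ⟨z, hz⟩ := center_normalClosure (F := F) 2 (by norm_num)
    by_cases h : p = 2
    · subst h
      obtain ⟨rels, hc, ⟨e⟩⟩ := PresentSL2.presentation_even (F := F)
      exact (((Pres.of_iso rels e).mono hc).quotient _ z hz).mono (by norm_num)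
    · obtain ⟨⟨rels, hc, ⟨e⟩⟩, -⟩ := PresentSL2.presentation_odd (F := F) (p := p) h
      exact (((Pres.of_iso rels e).mono hc).quotient _ z hz).mono (by norm_num)
  · obtain ⟨m, rfl⟩ : ∃ m, n = 3 + m := ⟨n - 3, by omega⟩
    refine ⟨?_, SL_two_generated m⟩
    obtain ⟨z, hz⟩ := center_normalClosure (F := F) (3 + m) (by omega)
    rcases Nat.eq_zero_or_pos m with rfl | hm
    · obtain ⟨rels, hc, ⟨e⟩⟩ := PresentSL3.presentation_sl_three (F := F)
      exact (((Pres.of_iso rels e).mono hc).quotient _ z hz).mono (by norm_num)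
    · exact ((pres_SL (3 + m) (by omega)).quotient _ z hz).mono (by norm_num)

end CfsgLib.BoundedPres
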