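import Cfsg.Agent.Lib.BoundedPres.Glue
import Cfsg.Agent.Lib.PresentSL3.Target

/-!
A presentation of `SL_n(F)` with a bounded number of relations.
-/

set_option autoImplicit false

namespace CfsgLib.BoundedPres

open Equiv
open CfsgLib.PresentSL3 (sT cT dgT eT rootW_eT)
open CfsgLib.SteinbergSL (Sys gensAll card_le_SL)

/-- The alternating group of degree at least four has a presentation with 37 relations. -/
theorem pres_alt (n : ℕ) (hn : 4 ≤ n) : Pres (alternatingGroup (Fin n)) 37 :=
  (pres_sym n hn).ker_units (Perm.sign : Perm (Fin n) →* ℤˣ)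
    (τ := Equiv.swap ⟨0, by omega⟩ ⟨1, by omega⟩) (Equiv.swap_mul_self _ _)
    (Perm.sign_swap (by simp [Fin.ext_iff]))

theorem exists_perm_map {k n : ℕ} (a b : Fin k ↪ Fin n) : ∃ π : Perm (Fin n), ∀ i, π (a i) = b i := by
  haveI := Equiv.Perm.isMultiplyPretransitive (Fin n) k
  obtain ⟨π, hπ⟩ := MulAction.exists_smul_eq (Perm (Fin n)) a b
  exact ⟨π, fun i => by rw [← hπ]; rfl⟩

theorem exists_even_map {k n : ℕ} (a b : Fin k ↪ Fin n) (p q : Fin k) (hpq : p ≠ q) :
    ∃ g : alternatingGroup (Fin n), (∀ i, (g : Perm (Fin n)) (a i) = b i) ∨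
      (∀ i, (g : Perm (Fin n)) (a (Equiv.swap p q i)) = b i) := by
  obtain ⟨π, hπ⟩ := exists_perm_map a b
  rcases Int.units_eq_one_or (Perm.sign π) with h | h
  · exact ⟨⟨π, Perm.mem_alternatingGroup.2 h⟩, Or.inl hπ⟩
  · refine ⟨⟨π * Equiv.swap (a p) (a q), Perm.mem_alternatingGroup.2 ?_⟩, Or.inr fun i => ?_⟩
    · rw [map_mul, h, Perm.sign_swap (a.injective.ne hpq)]; rfl
    · show π (Equiv.swap (a p) (a q) (a (Equiv.swap p q i))) = b i
      rw [← a.injective.map_swap, Equiv.swap_apply_self, hπ]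

variable {F : Type*} [Field F]

/-- The permutation matrices of even permutations. -/
def permSL (n : ℕ) : alternatingGroup (Fin n) →* Matrix.SpecialLinearGroup (Fin n) F :=
  MonoidHom.mk' (fun π => ⟨Equiv.Perm.permMatrix F (π : Perm (Fin n))⁻¹, by
      rw [Matrix.det_permutation, map_inv, Perm.mem_alternatingGroup.1 π.2]; simp⟩) fun a b => by
    apply Subtype.ext
    show Equiv.Perm.permMatrix F ((a : Perm (Fin n)) * (b : Perm (Fin n)))⁻¹ =
      Equiv.Perm.permMatrix F (a : Perm (Fin n))⁻¹ * Equiv.Perm.permMatrix F (b : Perm (Fin n))⁻¹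
    rw [mul_inv_rev, Matrix.permMatrix_mul]

theorem coe_permSL {n : ℕ} (g : alternatingGroup (Fin n)) :
    ((permSL n g : Matrix.SpecialLinearGroup (Fin n) F) : Matrix (Fin n) (Fin n) F) =
      Equiv.Perm.permMatrix F (g : Perm (Fin n))⁻¹ := rfl

theorem permSL_conj {n : ℕ} (g : alternatingGroup (Fin n)) {i j : Fin n} (hij : i ≠ j) (v : F) :
    permSL n g * Matrix.SpecialLinearGroup.transvection hij v * (permSL n g)⁻¹ =
      Matrix.SpecialLinearGroup.transvection
        (show (g : Perm (Fin n)) i ≠ (g : Perm (Fin n)) j from fun e => hij (Equiv.injective _ e)) v := by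
  rw [mul_inv_eq_iff_eq_mul]
  apply Subtype.ext
  show Equiv.Perm.permMatrix F (g : Perm (Fin n))⁻¹ * Matrix.transvection i j v =
    Matrix.transvection ((g : Perm (Fin n)) i) ((g : Perm (Fin n)) j) v * Equiv.Perm.permMatrix F (g : Perm (Fin n))⁻¹
  rw [Equiv.Perm.permMatrix, PEquiv.toMatrix_toPEquiv_mul, PEquiv.mul_toMatrix_toPEquiv]
  ext a b
  simp only [Matrix.submatrix_apply, id, Matrix.transvection, Matrix.add_apply, Matrix.one_apply,
    Matrix.single_apply, inv_inv]
  simp only [Perm.inv_def, Equiv.symm_apply_eq, Equiv.eq_symm_apply, EmbeddingLike.apply_eq_iff_eq]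

/-- The block embedding of `SL₃` into `SL_n`. -/
def blockSL (n m : ℕ) (h : 3 + m = n) :
    Matrix.SpecialLinearGroup (Fin 3) F →* Matrix.SpecialLinearGroup (Fin n) F :=
  MonoidHom.mk' (fun M => ⟨(Matrix.fromBlocks (M : Matrix (Fin 3) (Fin 3) F) 0 0 (1 : Matrix (Fin m) (Fin m) F)).submatrix
      (finSumFinEquiv.trans (finCongr h)).symm (finSumFinEquiv.trans (finCongr h)).symm, by
      rw [Matrix.det_submatrix_equiv_self, Matrix.det_fromBlocks_zero₂₁, M.2, Matrix.det_one, one_mul]⟩)
    fun M M' => by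
      apply Subtype.ext
      show (Matrix.fromBlocks ((M : Matrix (Fin 3) (Fin 3) F) * (M' : Matrix (Fin 3) (Fin 3) F)) 0 0 1).submatrix _ _ =
        (Matrix.fromBlocks (M : Matrix (Fin 3) (Fin 3) F) 0 0 1).submatrix _ _ *
          (Matrix.fromBlocks (M' : Matrix (Fin 3) (Fin 3) F) 0 0 1).submatrix _ _
      rw [Matrix.submatrix_mul_equiv, Matrix.fromBlocks_multiply]
      simp

theorem blockSL_transvection {n m : ℕ} (h : 3 + m = n) {a b : Fin 3} (hab : a ≠ b) (v : F) :
    blockSL n m h (Matrix.SpecialLinearGroup.transvection hab v) =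
      Matrix.SpecialLinearGroup.transvection
        (show Fin.castLE (show 3 ≤ n by omega) a ≠ Fin.castLE (show 3 ≤ n by omega) b from
          fun e => hab (Fin.castLE_injective _ e)) v := by
  apply Subtype.ext
  set e := finSumFinEquiv.trans (finCongr h)
  have he : ∀ x : Fin 3, e (Sum.inl x) = Fin.castLE (show 3 ≤ n by omega) x := fun x => Fin.ext (by simp [e])
  show (Matrix.fromBlocks (Matrix.transvection a b v) 0 0 1).submatrix e.symm e.symm =
    Matrix.transvection (Fin.castLE _ a) (Fin.castLE _ b) v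
  ext i j
  obtain ⟨i, rfl⟩ := e.surjective i
  obtain ⟨j, rfl⟩ := e.surjective j
  rw [Matrix.submatrix_apply, Equiv.symm_apply_apply, Equiv.symm_apply_apply, ← he a, ← he b]
  rcases i with i | i <;> rcases j with j | j <;>
    simp [Matrix.transvection, Matrix.single_apply, Matrix.one_apply, e.injective.eq_iff, -Sum.inl.injEq,
      Sum.inl_injective.eq_iff]

theorem transvection_commute {n : ℕ} {i j k l : Fin n} (hij : i ≠ j) (hkl : k ≠ l) (hil : i ≠ l)
    (hjk : j ≠ k) (t u : F) :
    Commute (Matrix.SpecialLinearGroup.transvection hij t) (Matrix.SpecialLinearGroup.transvection hkl u) := by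
  apply Subtype.ext
  show Matrix.transvection i j t * Matrix.transvection k l u = Matrix.transvection k l u * Matrix.transvection i j t
  simp only [Matrix.transvection, mul_add, add_mul, Matrix.one_mul, Matrix.mul_one,
    Matrix.single_mul_single_of_ne _ _ _ _ hjk, Matrix.single_mul_single_of_ne _ _ _ _ hil.symm,
    add_zero]
  abel

theorem transvection_step {n : ℕ} {i j k : Fin n} (hij : i ≠ j) (hjk : j ≠ k) (hik : i ≠ k) (t u : F) :
    Matrix.SpecialLinearGroup.transvection hij t * Matrix.SpecialLinearGroup.transvection hjk u =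
      Matrix.SpecialLinearGroup.transvection hik (t * u) * Matrix.SpecialLinearGroup.transvection hjk u *
        Matrix.SpecialLinearGroup.transvection hij t := by
  apply Subtype.ext
  show Matrix.transvection i j t * Matrix.transvection j k u =
    Matrix.transvection i k (t * u) * Matrix.transvection j k u * Matrix.transvection i j t
  simp only [Matrix.transvection, mul_add, add_mul, Matrix.one_mul, Matrix.mul_one,
    Matrix.single_mul_single_same, Matrix.single_mul_single_of_ne _ _ _ _ hij.symm,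
    Matrix.single_mul_single_of_ne _ _ _ _ hik.symm, Matrix.single_mul_single_of_ne _ _ _ _ hjk.symm,
    add_zero, zero_add, Matrix.mul_zero, Matrix.zero_mul]
  abel

theorem sT_conj (v : F) :
    sT * Matrix.SpecialLinearGroup.transvection (show (0 : Fin 3) ≠ 1 by decide) v * sT⁻¹ =
      Matrix.SpecialLinearGroup.transvection (show (1 : Fin 3) ≠ 0 by decide) v := by
  have := rootW_eT (show (1 : Fin 3) ≠ 0 by decide) v
  rwa [CfsgLib.PresentSL3.rootW, show CfsgLib.PresentSL3.wordW cT sT (1 : Fin 3) 0 =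
    (sT : Matrix.SpecialLinearGroup (Fin 3) F) by simp [CfsgLib.PresentSL3.wordW]] at this

theorem cT_conj (v : F) :
    cT * Matrix.SpecialLinearGroup.transvection (show (0 : Fin 3) ≠ 1 by decide) v * cT⁻¹ =
      Matrix.SpecialLinearGroup.transvection (show (1 : Fin 3) ≠ 2 by decide) v := by
  have := rootW_eT (show (1 : Fin 3) ≠ 2 by decide) v
  rwa [CfsgLib.PresentSL3.rootW, show CfsgLib.PresentSL3.wordW cT sT (1 : Fin 3) 2 =
    (cT : Matrix.SpecialLinearGroup (Fin 3) F) by simp [CfsgLib.PresentSL3.wordW]] at this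

theorem exists_square_data [Fintype F] (w : Fˣ) (hgen : ∀ x : Fˣ, x ∈ Subgroup.zpowers w) (S : Set F)
    (h0 : (0 : F) ∈ S) (hadd : ∀ a ∈ S, ∀ b ∈ S, a + b ∈ S)
    (hx : ∀ l : ℕ, ((w : F) * w) ^ l ∈ S ∧ -(((w : F) * w) ^ l) ∈ S) : S = Set.univ := by
  obtain ⟨p, hp⟩ := CharP.exists F
  haveI : Fact p.Prime := ⟨CharP.char_is_prime F p⟩
  obtain ⟨e, -, hF⟩ := FiniteField.card F p
  obtain ⟨D⟩ := CfsgLib.PresentSL2.exists_polyData hF (x := (w : F) * w) fun d h1 h2 => by
    have hp2 := (Fact.out : p.Prime).two_le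
    have hQ : 2 ≤ p ^ d := le_trans hp2 (Nat.le_self_pow (by omega) p)
    have hle : p ^ d * p ^ d ≤ p ^ (e : ℕ) := by
      rw [← pow_add]; exact Nat.pow_le_pow_right (by omega) (by omega)
    have : 2 * p ^ d ≤ p ^ d * p ^ d := Nat.mul_le_mul_right _ hQ
    rw [← pow_two]
    exact CfsgLib.PresentSL3.not_fixed hF hgen (by omega) (by omega)
  refine Set.eq_univ_of_forall fun y => ?_
  obtain ⟨P, rfl⟩ := D.surj y
  exact CfsgLib.PresentSL3.aeval_mem S h0 hadd hx P

end CfsgLib.BoundedPres
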