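import Cfsg.Agent.Lib.BoundedPres.SLnMat

/-!
The bound for a group generated by images of `SL₃(F)` and of an alternating group.
-/

set_option autoImplicit false

namespace CfsgLib.BoundedPres

open Equiv
open CfsgLib.PresentSL3 (sT cT dgT eT)
open CfsgLib.SteinbergSL (Sys gensAll card_le_SL)

section Elements

variable {N : ℕ}

/-- A product of two transpositions. -/
def dswap (a b c d : Fin N) (hab : a ≠ b) (hcd : c ≠ d) : alternatingGroup (Fin N) :=
  ⟨Equiv.swap a b * Equiv.swap c d, Perm.mem_alternatingGroup.2 (by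
    rw [map_mul, Perm.sign_swap hab, Perm.sign_swap hcd]; rfl)⟩

theorem coe_dswap (a b c d : Fin N) (hab : a ≠ b) (hcd : c ≠ d) :
    ((dswap a b c d hab hcd : alternatingGroup (Fin N)) : Perm (Fin N)) = Equiv.swap a b * Equiv.swap c d :=
  rfl

theorem dswap_apply {a b c d : Fin N} (hab : a ≠ b) (hcd : c ≠ d) (hac : a ≠ c) (had : a ≠ d)
    (hbc : b ≠ c) (hbd : b ≠ d) :
    (dswap a b c d hab hcd : Perm (Fin N)) a = b ∧ (dswap a b c d hab hcd : Perm (Fin N)) b = a ∧
      (dswap a b c d hab hcd : Perm (Fin N)) c = d ∧ (dswap a b c d hab hcd : Perm (Fin N)) d = c := by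
  simp [coe_dswap, Equiv.swap_apply_def, hab.symm, hcd.symm, hac, hac.symm, had, had.symm, hbc, hbc.symm,
    hbd, hbd.symm]

theorem dswap_mul_self {a b c d : Fin N} (hab : a ≠ b) (hcd : c ≠ d) (hac : a ≠ c) (had : a ≠ d)
    (hbc : b ≠ c) (hbd : b ≠ d) : dswap a b c d hab hcd * dswap a b c d hab hcd = 1 := by
  have hd : Perm.Disjoint (Equiv.swap a b) (Equiv.swap c d) := by
    intro z
    by_cases hz : z = a ∨ z = b
    · right
      rcases hz with rfl | rfl
      exacts [Equiv.swap_apply_of_ne_of_ne hac had, Equiv.swap_apply_of_ne_of_ne hbc hbd]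
    · push Not at hz
      exact Or.inl (Equiv.swap_apply_of_ne_of_ne hz.1 hz.2)
  apply Subtype.ext
  show Equiv.swap a b * Equiv.swap c d * (Equiv.swap a b * Equiv.swap c d) = 1
  rw [hd.commute.symm.mul_mul_mul_comm, Equiv.swap_mul_self, Equiv.swap_mul_self, one_mul]

end Elements

variable {m : ℕ}

/-- The first three indices. -/
abbrev first3 (m : ℕ) (a : Fin 3) : Fin (3 + m) := Fin.castLE (Nat.le_add_right 3 m) a

/-- The fourth index. -/
abbrev fourth (m : ℕ) (hm : 1 ≤ m) : Fin (3 + m) := ⟨3, by omega⟩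

theorem first3_inj (m : ℕ) : Function.Injective (first3 m) := Fin.castLE_injective _

theorem first3_ne_fourth (hm : 1 ≤ m) (a : Fin 3) : first3 m a ≠ fourth m hm := by
  simp [Fin.ext_iff]; omega

/-- The three cycle on the first three indices. -/
def cycA (m : ℕ) : alternatingGroup (Fin (3 + m)) :=
  dswap (first3 m 0) (first3 m 1) (first3 m 1) (first3 m 2) ((first3_inj m).ne (by decide))
    ((first3_inj m).ne (by decide))

/-- The element reversing the first pair. -/
def revA (m : ℕ) (hm : 1 ≤ m) : alternatingGroup (Fin (3 + m)) :=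
  dswap (first3 m 0) (first3 m 1) (first3 m 2) (fourth m hm) ((first3_inj m).ne (by decide))
    (first3_ne_fourth hm 2)

/-- The elements moving the first pair to a disjoint one. -/
def oppA (m : ℕ) (hm : 1 ≤ m) : alternatingGroup (Fin (3 + m)) :=
  dswap (first3 m 0) (first3 m 2) (first3 m 1) (fourth m hm) ((first3_inj m).ne (by decide))
    (first3_ne_fourth hm 1)

/-- The elements moving the first pair to a disjoint one. -/
def oppA' (m : ℕ) (hm : 1 ≤ m) : alternatingGroup (Fin (3 + m)) :=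
  dswap (first3 m 0) (fourth m hm) (first3 m 1) (first3 m 2) (first3_ne_fourth hm 0)
    ((first3_inj m).ne (by decide))

theorem cycA_apply (a : Fin 3) : (cycA m : Perm (Fin (3 + m))) (first3 m a) = first3 m (a + 1) := by
  fin_cases a <;> simp [cycA, coe_dswap, Equiv.swap_apply_def, Fin.ext_iff]

theorem exists_stab_gens (hm : 1 ≤ m) : ∃ s : Fin 4 → alternatingGroup (Fin (3 + m)),
    (∀ i, (s i : Perm (Fin (3 + m))) (first3 m 0) = first3 m 0 ∧
      (s i : Perm (Fin (3 + m))) (first3 m 1) = first3 m 1) ∧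
    ∀ g : alternatingGroup (Fin (3 + m)), (g : Perm (Fin (3 + m))) (first3 m 0) = first3 m 0 →
      (g : Perm (Fin (3 + m))) (first3 m 1) = first3 m 1 → g ∈ Subgroup.closure (Set.range s) := by
  classical
  let Sub := {x : Fin (3 + m) // x ≠ first3 m 0 ∧ x ≠ first3 m 1}
  have h01 : first3 m 0 ≠ first3 m 1 := (first3_inj m).ne (by decide)
  have hsub : Fintype.card Sub = m + 1 := by
    rw [Fintype.card_subtype]
    have : (Finset.univ.filter fun x : Fin (3 + m) => x ≠ first3 m 0 ∧ x ≠ first3 m 1) =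
        (Finset.univ.erase (first3 m 0)).erase (first3 m 1) := by
      ext x; simp [and_comm]
    rw [this, Finset.card_erase_of_mem (by simp [h01.symm]), Finset.card_erase_of_mem (by simp)]
    simp; omega
  let eS : Fin (m + 1) ≃ Sub := (Fintype.equivFinOfCardEq hsub).symm
  let θ : Perm (Fin (m + 1)) →* Perm (Fin (3 + m)) :=
    (Perm.ofSubtype).comp eS.permCongrHom.toMonoidHom
  have hθsign : ∀ q, Perm.sign (θ q) = Perm.sign q := fun q => by
    simp [θ, Perm.sign_ofSubtype, Perm.sign_permCongr]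
  let χ : Perm (Fin (m + 1)) →* ℤˣ := Perm.sign
  set τs := swN m 0 with hτs
  set cs := seqProd (swN m) 0 m with hcs
  have hτs2 : τs * τs = 1 := (aRel_swN (N := m) (M := m) le_rfl).1 0 (by omega)
  have hτsχ : χ τs = -1 := by
    rw [hτs, swN_eq (show 0 < m by omega)]
    exact Perm.sign_swap (by simp [Fin.ext_iff])
  let st : Perm (Fin (m + 1)) × ℤˣ → alternatingGroup (Fin (3 + m)) := fun q =>
    ⟨θ (schreier χ τs q.1 q.2), Perm.mem_alternatingGroup.2 ((hθsign _).trans (schreier_mem χ hτsχ _ _))⟩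
  refine ⟨![st (τs, 1), st (τs, -1), st (cs, 1), st (cs, -1)], fun i => ?_, fun g g0 g1 => ?_⟩
  · have hfix : ∀ q, ((st q : alternatingGroup (Fin (3 + m))) : Perm (Fin (3 + m))) (first3 m 0) = first3 m 0 ∧
        ((st q : alternatingGroup (Fin (3 + m))) : Perm (Fin (3 + m))) (first3 m 1) = first3 m 1 := fun q =>
      ⟨Perm.ofSubtype_apply_of_not_mem _ (by simp), Perm.ofSubtype_apply_of_not_mem _ (by simp)⟩
    fin_cases i <;> exact hfix _
  · have hp : ∀ x : Fin (3 + m), ((g : Perm (Fin (3 + m))) x ≠ first3 m 0 ∧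
        (g : Perm (Fin (3 + m))) x ≠ first3 m 1) ↔ (x ≠ first3 m 0 ∧ x ≠ first3 m 1) := fun x => by
      conv_lhs => rw [← g0, ← g1]
      simp [(Equiv.injective _).eq_iff]
    set q := eS.permCongrHom.symm (Perm.subtypePerm (g : Perm (Fin (3 + m))) hp) with hq
    have hθq : θ q = (g : Perm (Fin (3 + m))) := by
      show Perm.ofSubtype (eS.permCongrHom (eS.permCongrHom.symm _)) = _
      rw [MulEquiv.apply_symm_apply]
      refine Perm.ofSubtype_subtypePerm _ fun x hx => ?_
      constructor <;> rintro rfl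
      exacts [hx g0, hx g1]
    have hqker : q ∈ χ.ker := by
      rw [MonoidHom.mem_ker]
      show Perm.sign q = 1
      rw [← hθsign, hθq]
      exact Perm.mem_alternatingGroup.1 g.2
    set T := Subgroup.closure (Set.range ![st (τs, 1), st (τs, -1), st (cs, 1), st (cs, -1)])
    have := schreier_closure χ hτs2 (closure_two_swN m)
      ((T.map (alternatingGroup (Fin (3 + m))).subtype).comap θ) (by
        rintro x hx e
        refine ⟨st (x, e), Subgroup.subset_closure ?_, rfl⟩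
        simp only [Set.mem_insert_iff, Set.mem_singleton_iff] at hx
        rcases hx with rfl | rfl <;> rcases Int.units_eq_one_or e with rfl | rfl
        exacts [⟨0, rfl⟩, ⟨1, rfl⟩, ⟨2, rfl⟩, ⟨3, rfl⟩]) hqker
    obtain ⟨g', hg', he⟩ := this
    exact (Subtype.ext (he.trans hθq) : g' = g) ▸ hg'

variable {F : Type*} [Field F]

/-- The unipotent generator of the block. -/
def uBlock : Matrix.SpecialLinearGroup (Fin 3) F :=
  Matrix.SpecialLinearGroup.transvection (show (0 : Fin 3) ≠ 1 by decide) 1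

section Core

variable {G : Type*} [Group G] (ι : Matrix.SpecialLinearGroup (Fin 3) F →* G)
  (ψ : alternatingGroup (Fin (3 + m)) →* G)

/-- The root subgroup. -/
def rootU (v : F) : G := ι (Matrix.SpecialLinearGroup.transvection (show (0 : Fin 3) ≠ 1 by decide) v)

theorem rootU_add (a b : F) : rootU ι a * rootU ι b = rootU ι (a + b) := by
  unfold rootU
  rw [← map_mul]
  congr 1
  exact Subtype.ext (Matrix.transvection_mul_transvection_same _ _ (by decide) a b)

theorem commute_rootU [Fintype F] {w : Fˣ} (hw : ∀ x : Fˣ, x ∈ Subgroup.zpowers w) (y : G)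
    (yu : Commute y (ι uBlock)) (yh : Commute y (ι (dgT (w, w⁻¹)))) (v : F) : Commute y (rootU ι v) := by
  have hzero : rootU ι (0 : F) = 1 := by
    have := rootU_add ι (0 : F) 0
    rwa [add_zero, mul_eq_left] at this
  have hneg : ∀ a, rootU ι (-a) = (rootU ι a)⁻¹ := fun a => by
    rw [eq_inv_iff_mul_eq_one, rootU_add, neg_add_cancel, hzero]
  have hconj : ∀ v, ι (dgT (w, w⁻¹)) * rootU ι v * (ι (dgT (w, w⁻¹)))⁻¹ = rootU ι ((w : F) * w * v) := by
    intro v
    have := CfsgLib.PresentSL3.dgT_eT (F := F) (w, w⁻¹) v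
    simp only [Units.val_inv_eq_inv_val, div_inv_eq_mul] at this
    unfold rootU
    rw [← map_inv, ← map_mul, ← map_mul]
    exact congrArg ι this
  have key := exists_square_data w hw {v | Commute y (rootU ι v)}
    (by show Commute y (rootU ι 0); rw [hzero]; exact Commute.one_right _)
    (fun a ha b hb => by show Commute y (rootU ι (a + b)); rw [← rootU_add]; exact Commute.mul_right ha hb)
    (fun l => by
      have hl : Commute y (rootU ι (((w : F) * w) ^ l)) := by
        induction l with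
        | zero => rw [pow_zero]; exact yu
        | succ l ih => rw [pow_succ', ← hconj]; exact (yh.mul_right ih).mul_right yh.inv_right
      exact ⟨hl, by show Commute y (rootU ι (-_)); rw [hneg]; exact hl.inv_right⟩)
  have hv : v ∈ {v | Commute y (rootU ι v)} := by rw [key]; exact Set.mem_univ v
  exact hv

theorem disjoint_commute [Fintype F] {w : Fˣ} (hw : ∀ x : Fˣ, x ∈ Subgroup.zpowers w) (p : G) (pp : p * p = 1)
    (c1 : Commute (ι uBlock) (p * ι uBlock * p⁻¹)) (c2 : Commute (ι (dgT (w, w⁻¹))) (p * ι uBlock * p⁻¹))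
    (c3 : Commute (ι (dgT (w, w⁻¹))) (p * ι (dgT (w, w⁻¹)) * p⁻¹)) (v v' : F) :
    Commute (rootU ι v) (p * rootU ι v' * p⁻¹) := by
  have hback : ∀ y, p * (p * y * p⁻¹) * p⁻¹ = y := fun y => by
    rw [show p * (p * y * p⁻¹) * p⁻¹ = (p * p) * y * (p * p)⁻¹ by group, pp, one_mul, inv_one, mul_one]
  have cm : ∀ {a b : G}, Commute a b → Commute (p * a * p⁻¹) (p * b * p⁻¹) := fun h =>
    h.map (MulAut.conj p).toMonoidHom
  have cu := commute_rootU ι hw _ c1.symm c2.symm v
  have c2' : Commute (p * ι (dgT (w, w⁻¹)) * p⁻¹) (ι uBlock) := by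
    have := cm c2
    rwa [hback] at this
  have ch := commute_rootU ι hw _ c2' c3.symm v
  have e1 : Commute (p * rootU ι v * p⁻¹) (ι uBlock) := by
    have := (cm cu).symm
    rwa [hback] at this
  have e2 : Commute (p * rootU ι v * p⁻¹) (ι (dgT (w, w⁻¹))) := by
    have := (cm ch).symm
    rwa [hback] at this
  have := cm (commute_rootU ι hw _ e1 e2 v')
  rwa [hback] at this

/-- Conjugates of the root subgroup agree with a function on ordered pairs. -/
theorem exists_roots (hm : 1 ≤ m) (hstab : ∀ g : alternatingGroup (Fin (3 + m)),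
      (g : Perm (Fin (3 + m))) (first3 m 0) = first3 m 0 →
      (g : Perm (Fin (3 + m))) (first3 m 1) = first3 m 1 → ∀ v, Commute (ψ g) (rootU ι v)) :
    ∃ x : Fin (3 + m) → Fin (3 + m) → F → G, ∀ (g : alternatingGroup (Fin (3 + m))) (i j : Fin (3 + m)),
      (g : Perm (Fin (3 + m))) (first3 m 0) = i → (g : Perm (Fin (3 + m))) (first3 m 1) = j → ∀ v,
        x i j v = ψ g * rootU ι v * (ψ g)⁻¹ := by
  classical
  refine ⟨fun i j v => if h : ∃ g : alternatingGroup (Fin (3 + m)),
      (g : Perm (Fin (3 + m))) (first3 m 0) = i ∧ (g : Perm (Fin (3 + m))) (first3 m 1) = j then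
      ψ h.choose * rootU ι v * (ψ h.choose)⁻¹ else 1, fun g i j h0 h1 v => ?_⟩
  have h : ∃ g : alternatingGroup (Fin (3 + m)),
      (g : Perm (Fin (3 + m))) (first3 m 0) = i ∧ (g : Perm (Fin (3 + m))) (first3 m 1) = j := ⟨g, h0, h1⟩
  simp only [dif_pos h]
  obtain ⟨k0, k1⟩ := h.choose_spec
  have hc := hstab (h.choose⁻¹ * g)
    (by simp [Perm.mul_apply, h0, Equiv.symm_apply_eq, k0, Perm.inv_def])
    (by simp [Perm.mul_apply, h1, Equiv.symm_apply_eq, k1, Perm.inv_def]) v
  rw [map_mul, map_inv] at hc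
  set a := ψ h.choose
  set b := ψ g
  calc a * rootU ι v * a⁻¹ = a * (rootU ι v * (a⁻¹ * b)) * b⁻¹ := by group
    _ = a * ((a⁻¹ * b) * rootU ι v) * b⁻¹ := by rw [hc.eq]
    _ = b * rootU ι v * b⁻¹ := by group

theorem exists_pair_map (hm : 1 ≤ m) {i j : Fin (3 + m)} (hij : i ≠ j) :
    ∃ g : alternatingGroup (Fin (3 + m)),
      (g : Perm (Fin (3 + m))) (first3 m 0) = i ∧ (g : Perm (Fin (3 + m))) (first3 m 1) = j := by
  have hE := first3_inj m
  obtain ⟨π, hπ⟩ := exists_perm_map (n := 3 + m) ⟨![first3 m 0, first3 m 1], by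
      intro a b; fin_cases a <;> fin_cases b <;> simp [hE.eq_iff]⟩
    ⟨![i, j], by intro a b; fin_cases a <;> fin_cases b <;> simp [hij, hij.symm]⟩
  have h0 : π (first3 m 0) = i := hπ 0
  have h1 : π (first3 m 1) = j := hπ 1
  rcases Int.units_eq_one_or (Perm.sign π) with h | h
  · exact ⟨⟨π, Perm.mem_alternatingGroup.2 h⟩, h0, h1⟩
  · refine ⟨⟨π * Equiv.swap (first3 m 2) (fourth m hm), Perm.mem_alternatingGroup.2 ?_⟩, ?_, ?_⟩
    · rw [map_mul, h, Perm.sign_swap (first3_ne_fourth hm 2)]; rfl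
    · show π (Equiv.swap (first3 m 2) (fourth m hm) (first3 m 0)) = i
      rw [Equiv.swap_apply_of_ne_of_ne (hE.ne (by decide)) (first3_ne_fourth hm 0), h0]
    · show π (Equiv.swap (first3 m 2) (fourth m hm) (first3 m 1)) = j
      rw [Equiv.swap_apply_of_ne_of_ne (hE.ne (by decide)) (first3_ne_fourth hm 1), h1]

theorem exists_triple_map {i j k : Fin (3 + m)} (hij : i ≠ j) (hik : i ≠ k) (hjk : j ≠ k) :
    ∃ (g : alternatingGroup (Fin (3 + m))) (a b c : Fin 3), a ≠ b ∧ a ≠ c ∧ b ≠ c ∧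
      (g : Perm (Fin (3 + m))) (first3 m a) = i ∧ (g : Perm (Fin (3 + m))) (first3 m b) = j ∧
        (g : Perm (Fin (3 + m))) (first3 m c) = k := by
  have hE := first3_inj m
  obtain ⟨g, hg⟩ := exists_even_map (n := 3 + m) ⟨first3 m, hE⟩
    ⟨![i, j, k], by intro a b; fin_cases a <;> fin_cases b <;> simp [hij, hij.symm, hik, hik.symm, hjk, hjk.symm]⟩
    0 1 (by decide)
  rcases hg with hg | hg
  · exact ⟨g, 0, 1, 2, by decide, by decide, by decide, hg 0, hg 1, hg 2⟩
  · exact ⟨g, 1, 0, 2, by decide, by decide, by decide, hg 0, hg 1, hg 2⟩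

theorem exists_quad_map (hm : 1 ≤ m) {i j k l : Fin (3 + m)} (hij : i ≠ j) (hik : i ≠ k) (hil : i ≠ l)
    (hjk : j ≠ k) (hjl : j ≠ l) (hkl : k ≠ l) :
    ∃ g : alternatingGroup (Fin (3 + m)), (g : Perm (Fin (3 + m))) (first3 m 0) = i ∧
      (g : Perm (Fin (3 + m))) (first3 m 1) = j ∧
      (((g : Perm (Fin (3 + m))) (first3 m 2) = k ∧ (g : Perm (Fin (3 + m))) (fourth m hm) = l) ∨
       ((g : Perm (Fin (3 + m))) (fourth m hm) = k ∧ (g : Perm (Fin (3 + m))) (first3 m 2) = l)) := by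
  have hE := first3_inj m
  have hne := first3_ne_fourth (m := m) hm
  obtain ⟨g, hg⟩ := exists_even_map (n := 3 + m)
    ⟨![first3 m 0, first3 m 1, first3 m 2, fourth m hm], by
      intro a b; fin_cases a <;> fin_cases b <;> simp [hE.eq_iff, hne, (hne _).symm]⟩
    ⟨![i, j, k, l], by
      intro a b
      fin_cases a <;> fin_cases b <;> simp [hij, hij.symm, hik, hik.symm, hil, hil.symm, hjk, hjk.symm,
        hjl, hjl.symm, hkl, hkl.symm]⟩ 2 3 (by decide)
  rcases hg with hg | hg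
  · exact ⟨g, hg 0, hg 1, Or.inl ⟨hg 2, hg 3⟩⟩
  · exact ⟨g, hg 0, hg 1, Or.inr ⟨hg 2, hg 3⟩⟩

theorem wordW_succ {a b : Fin 3} (hab : a ≠ b) :
    cT * CfsgLib.PresentSL3.wordW cT sT a b =
      (CfsgLib.PresentSL3.wordW cT sT (a + 1) (b + 1) : Matrix.SpecialLinearGroup (Fin 3) F) := by
  unfold CfsgLib.PresentSL3.wordW
  fin_cases a <;> fin_cases b <;>
    first | exact absurd rfl hab | simp [pow_two, ← mul_assoc, CfsgLib.PresentSL3.cT_cube]

theorem cT_transvection {a b : Fin 3} (hab : a ≠ b) (v : F) :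
    cT * Matrix.SpecialLinearGroup.transvection hab v * cT⁻¹ = Matrix.SpecialLinearGroup.transvection
      (show a + 1 ≠ b + 1 from fun e => hab (add_right_cancel e)) v := by
  rw [← CfsgLib.PresentSL3.rootW_eT hab, ← CfsgLib.PresentSL3.rootW_eT
    (show a + 1 ≠ b + 1 from fun e => hab (add_right_cancel e))]
  simp only [CfsgLib.PresentSL3.rootW, ← wordW_succ hab]
  group

theorem block_roots (hm : 1 ≤ m) (x : Fin (3 + m) → Fin (3 + m) → F → G)
    (hx : ∀ (g : alternatingGroup (Fin (3 + m))) (i j : Fin (3 + m)),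
      (g : Perm (Fin (3 + m))) (first3 m 0) = i → (g : Perm (Fin (3 + m))) (first3 m 1) = j → ∀ v,
        x i j v = ψ g * rootU ι v * (ψ g)⁻¹)
    (hmove : ∀ (g : alternatingGroup (Fin (3 + m))) (i j : Fin (3 + m)), i ≠ j → ∀ v,
      ψ g * x i j v * (ψ g)⁻¹ = x ((g : Perm (Fin (3 + m))) i) ((g : Perm (Fin (3 + m))) j) v)
    (hc : ι cT = ψ (cycA m))
    (hs : ∀ v, ι sT * rootU ι v * (ι sT)⁻¹ = ψ (revA m hm) * rootU ι v * (ψ (revA m hm))⁻¹) :
    ∀ (a b : Fin 3) (hab : a ≠ b) (v : F),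
      x (first3 m a) (first3 m b) v = ι (Matrix.SpecialLinearGroup.transvection hab v) := by
  have hE := first3_inj m
  have hne := first3_ne_fourth (m := m) hm
  have hshift : ∀ (a b : Fin 3) (hab : a ≠ b),
      (∀ v, x (first3 m a) (first3 m b) v = ι (Matrix.SpecialLinearGroup.transvection hab v)) →
      ∀ v, x (first3 m (a + 1)) (first3 m (b + 1)) v = ι (Matrix.SpecialLinearGroup.transvection
        (show a + 1 ≠ b + 1 from fun e => hab (add_right_cancel e)) v) := by
    intro a b hab h v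
    rw [← cycA_apply, ← cycA_apply, ← hmove (cycA m) _ _ (hE.ne hab), h, ← hc, ← map_inv, ← map_mul,
      ← map_mul, cT_transvection hab]
  have h01 : ∀ v, x (first3 m 0) (first3 m 1) v =
      ι (Matrix.SpecialLinearGroup.transvection (show (0 : Fin 3) ≠ 1 by decide) v) := fun v => by
    rw [hx 1 (first3 m 0) (first3 m 1) (by simp) (by simp)]; simp [rootU]
  have h10 : ∀ v, x (first3 m 1) (first3 m 0) v =
      ι (Matrix.SpecialLinearGroup.transvection (show (1 : Fin 3) ≠ 0 by decide) v) := by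
    intro v
    obtain ⟨e0, e1, -, -⟩ := dswap_apply (hab := hE.ne (show (0 : Fin 3) ≠ 1 by decide)) (hcd := hne 2)
      (hE.ne (show (0 : Fin 3) ≠ 2 by decide)) (hne 0) (hE.ne (show (1 : Fin 3) ≠ 2 by decide)) (hne 1)
    rw [hx (revA m hm) _ _ e0 e1, ← hs, ← sT_conj]
    simp only [map_mul, map_inv]
    rfl
  have h12 := hshift 0 1 (by decide) h01
  have h20 := hshift _ _ _ h12
  have h21 := hshift 1 0 (by decide) h10
  have h02 := hshift _ _ _ h21
  intro a b hab v
  fin_cases a <;> fin_cases b <;> first | exact absurd rfl hab | skip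
  exacts [h01 v, h02 v, h10 v, h12 v, h20 v, h21 v]

theorem alt_mem (R : Subgroup G) (hc : ψ (cycA m) ∈ R)
    (hconj : ∀ g z, z ∈ R → ψ g * z * (ψ g)⁻¹ ∈ R) (g : alternatingGroup (Fin (3 + m))) : ψ g ∈ R := by
  have hE := first3_inj m
  have hg : (g : Perm (Fin (3 + m))) ∈ Subgroup.closure {σ : Perm (Fin (3 + m)) | σ.IsThreeCycle} := by
    rw [Equiv.Perm.closure_three_cycles_eq_alternating]; exact g.2
  suffices ∀ σ ∈ Subgroup.closure {σ : Perm (Fin (3 + m)) | σ.IsThreeCycle},
      ∃ h : σ ∈ alternatingGroup (Fin (3 + m)), ψ ⟨σ, h⟩ ∈ R by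
    obtain ⟨h, h'⟩ := this _ hg
    exact h'
  intro σ hσ
  induction hσ using Subgroup.closure_induction with
  | one => exact ⟨one_mem _, by
      rw [show (⟨1, one_mem _⟩ : alternatingGroup (Fin (3 + m))) = 1 from rfl, map_one]; exact one_mem R⟩
  | mul a b _ _ ha hb =>
    obtain ⟨pa, ha⟩ := ha
    obtain ⟨pb, hb⟩ := hb
    exact ⟨mul_mem pa pb, by
      rw [show (⟨a * b, mul_mem pa pb⟩ : alternatingGroup (Fin (3 + m))) = ⟨a, pa⟩ * ⟨b, pb⟩ from rfl, map_mul]
      exact R.mul_mem ha hb⟩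
  | inv a _ ha =>
    obtain ⟨pa, ha⟩ := ha
    exact ⟨inv_mem pa, by
      rw [show (⟨a⁻¹, inv_mem pa⟩ : alternatingGroup (Fin (3 + m))) = ⟨a, pa⟩⁻¹ from rfl, map_inv]
      exact R.inv_mem ha⟩
  | mem σ hσ =>
    have hm' : σ ∈ alternatingGroup (Fin (3 + m)) := Equiv.Perm.IsThreeCycle.mem_alternatingGroup hσ
    refine ⟨hm', ?_⟩
    have hc3 : (cycA m : Perm (Fin (3 + m))).IsThreeCycle := by
      rw [cycA, coe_dswap, Equiv.swap_comm (first3 m 0) (first3 m 1)]
      exact Equiv.Perm.isThreeCycle_swap_mul_swap_same (hE.ne (by decide)) (hE.ne (by decide))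
        (hE.ne (by decide))
    obtain ⟨π, hπ⟩ : ∃ π : Perm (Fin (3 + m)), π * (cycA m : Perm (Fin (3 + m))) * π⁻¹ = σ := by
      have := Equiv.Perm.isConj_iff_cycleType_eq.2
        (show (cycA m : Perm (Fin (3 + m))).cycleType = σ.cycleType by
          rw [hc3, show σ.cycleType = {3} from hσ])
      exact isConj_iff.1 this
    rcases Int.units_eq_one_or (Perm.sign π) with h | h
    · rw [show (⟨σ, hm'⟩ : alternatingGroup (Fin (3 + m))) =
        ⟨π, Perm.mem_alternatingGroup.2 h⟩ * cycA m * ⟨π, Perm.mem_alternatingGroup.2 h⟩⁻¹ from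
          Subtype.ext hπ.symm, map_mul, map_mul, map_inv]
      exact hconj _ _ hc
    · set t := Equiv.swap (first3 m 1) (first3 m 2)
      have ht : Perm.sign (π * t) = 1 := by
        rw [map_mul, h, Perm.sign_swap (hE.ne (by decide))]; rfl
      have htc : t * (cycA m : Perm (Fin (3 + m)))⁻¹ * t⁻¹ = (cycA m : Perm (Fin (3 + m))) := by
        simp only [cycA, coe_dswap, t, mul_inv_rev, Equiv.swap_inv]
        rw [← mul_assoc, Equiv.swap_mul_self, one_mul]
      rw [show (⟨σ, hm'⟩ : alternatingGroup (Fin (3 + m))) = ⟨π * t, Perm.mem_alternatingGroup.2 ht⟩ *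
          (cycA m)⁻¹ * ⟨π * t, Perm.mem_alternatingGroup.2 ht⟩⁻¹ from Subtype.ext (by
            show σ = π * t * (cycA m : Perm (Fin (3 + m)))⁻¹ * (π * t)⁻¹
            rw [← hπ, mul_inv_rev]
            conv_lhs => rw [← htc]
            group), map_mul, map_mul, map_inv, map_inv]
      exact hconj _ _ (R.inv_mem hc)

/-- The bound. -/
theorem card_le_of_block [Fintype F] (hm : 1 ≤ m) {w : Fˣ} (hw : ∀ x : Fˣ, x ∈ Subgroup.zpowers w)
    (s : Fin 4 → alternatingGroup (Fin (3 + m)))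
    (hsgen : ∀ g : alternatingGroup (Fin (3 + m)), (g : Perm (Fin (3 + m))) (first3 m 0) = first3 m 0 →
      (g : Perm (Fin (3 + m))) (first3 m 1) = first3 m 1 → g ∈ Subgroup.closure (Set.range s))
    (rc : ι cT = ψ (cycA m))
    (ru : Commute ((ι sT)⁻¹ * ψ (revA m hm)) (ι uBlock))
    (rh : Commute ((ι sT)⁻¹ * ψ (revA m hm)) (ι (dgT (w, w⁻¹))))
    (rs : ∀ i, Commute (ψ (s i)) (ι uBlock) ∧ Commute (ψ (s i)) (ι (dgT (w, w⁻¹))))
    (ro : ∀ g ∈ [oppA m hm, oppA' m hm], Commute (ι uBlock) (ψ g * ι uBlock * (ψ g)⁻¹) ∧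
      Commute (ι (dgT (w, w⁻¹))) (ψ g * ι uBlock * (ψ g)⁻¹) ∧
      Commute (ι (dgT (w, w⁻¹))) (ψ g * ι (dgT (w, w⁻¹)) * (ψ g)⁻¹))
    (hgen : ι.range ⊔ ψ.range = ⊤) :
    Finite G ∧ Nat.card G ≤ Nat.card (Matrix.SpecialLinearGroup (Fin (3 + m)) F) := by
  classical
  have hE := first3_inj m
  have hne := first3_ne_fourth (m := m) hm
  have hstab : ∀ g : alternatingGroup (Fin (3 + m)), (g : Perm (Fin (3 + m))) (first3 m 0) = first3 m 0 →
      (g : Perm (Fin (3 + m))) (first3 m 1) = first3 m 1 → ∀ v, Commute (ψ g) (rootU ι v) := by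
    intro g g0 g1 v
    have : Subgroup.closure (Set.range s) ≤ (Subgroup.centralizer ({rootU ι v} : Set G)).comap ψ := by
      rw [Subgroup.closure_le]
      rintro _ ⟨i, rfl⟩
      show ψ (s i) ∈ Subgroup.centralizer ({rootU ι v} : Set G)
      rw [Subgroup.mem_centralizer_singleton_iff]
      exact (commute_rootU ι hw _ (rs i).1 (rs i).2 v).eq
    exact Subgroup.mem_centralizer_singleton_iff.1 (this (hsgen g g0 g1))
  obtain ⟨x, hx⟩ := exists_roots ι ψ hm hstab
  have hmove : ∀ (g : alternatingGroup (Fin (3 + m))) (i j : Fin (3 + m)), i ≠ j → ∀ v,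
      ψ g * x i j v * (ψ g)⁻¹ = x ((g : Perm (Fin (3 + m))) i) ((g : Perm (Fin (3 + m))) j) v := by
    intro g i j hij v
    obtain ⟨k, k0, k1⟩ := exists_pair_map hm hij
    rw [hx (g * k) ((g : Perm (Fin (3 + m))) i) ((g : Perm (Fin (3 + m))) j) (by simp [k0]) (by simp [k1]),
      hx k i j k0 k1, map_mul]
    group
  have hsT : ∀ v, ι sT * rootU ι v * (ι sT)⁻¹ = ψ (revA m hm) * rootU ι v * (ψ (revA m hm))⁻¹ := by
    intro v
    have h3 := commute_rootU ι hw _ ru rh v
    calc ι sT * rootU ι v * (ι sT)⁻¹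
        = ι sT * (rootU ι v * ((ι sT)⁻¹ * ψ (revA m hm))) * (ψ (revA m hm))⁻¹ := by group
      _ = ι sT * (((ι sT)⁻¹ * ψ (revA m hm)) * rootU ι v) * (ψ (revA m hm))⁻¹ := by rw [h3.eq]
      _ = _ := by group
  have hblock := block_roots ι ψ hm x hx hmove rc hsT
  have hadd : ∀ i j, i ≠ j → ∀ a b, x i j a * x i j b = x i j (a + b) := by
    intro i j hij a b
    obtain ⟨k, k0, k1⟩ := exists_pair_map hm hij
    rw [hx k i j k0 k1, hx k i j k0 k1, hx k i j k0 k1, ← rootU_add]
    group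
  have hdisj : ∀ g ∈ [oppA m hm, oppA' m hm], ∀ v v',
      Commute (rootU ι v) (ψ g * rootU ι v' * (ψ g)⁻¹) := by
    intro g hg v v'
    refine disjoint_commute ι hw (ψ g) ?_ (ro g hg).1 (ro g hg).2.1 (ro g hg).2.2 v v'
    rw [← map_mul]
    simp only [List.mem_cons, List.not_mem_nil, or_false] at hg
    rcases hg with rfl | rfl
    · rw [oppA, dswap_mul_self _ _ (hE.ne (by decide)) (hne 0) (hE.ne (by decide)) (hne 2), map_one]
    · rw [oppA', dswap_mul_self _ _ (hE.ne (by decide)) (hE.ne (by decide)) (hne 1).symm (hne 2).symm, map_one]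
  have h0 : ∀ i j k l, i ≠ j → k ≠ l → i ≠ l → j ≠ k → ∀ a b, Commute (x i j a) (x k l b) := by
    intro i j k l hij hkl hil hjk a b
    by_cases hik : i = k
    · subst hik
      by_cases hjl : j = l
      · subst hjl
        show x i j a * x i j b = x i j b * x i j a
        rw [hadd _ _ hij, hadd _ _ hij, add_comm]
      · obtain ⟨g, p, q, r, hpq, hpr, hqr, hp, hq, hr'⟩ := exists_triple_map hij hil hjl
        rw [← hp, ← hq, ← hr', ← hmove g _ _ (hE.ne hpq), ← hmove g _ _ (hE.ne hpr), hblock p q hpq,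
          hblock p r hpr]
        exact ((transvection_commute hpq hpr hpr hpq.symm a b).map ι).map (MulAut.conj (ψ g)).toMonoidHom
    · by_cases hjl : j = l
      · subst hjl
        obtain ⟨g, p, q, r, hpq, hpr, hqr, hp, hq, hr'⟩ := exists_triple_map hik hij hjk.symm
        rw [← hp, ← hq, ← hr', ← hmove g _ _ (hE.ne hpr), ← hmove g _ _ (hE.ne hqr), hblock p r hpr,
          hblock q r hqr]
        exact ((transvection_commute hpr hqr hpr hqr.symm a b).map ι).map (MulAut.conj (ψ g)).toMonoidHom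
      · obtain ⟨g, a0, a1, ⟨a2, a3⟩ | ⟨a2, a3⟩⟩ := exists_quad_map hm hij hik hil hjk hjl hkl
        · obtain ⟨o0, -, o2, -⟩ := dswap_apply (hab := hE.ne (show (0 : Fin 3) ≠ 2 by decide)) (hcd := hne 1)
            (hE.ne (show (0 : Fin 3) ≠ 1 by decide)) (hne 0) (hE.ne (show (2 : Fin 3) ≠ 1 by decide)) (hne 2)
          rw [← a0, ← a1, ← a2, ← a3, ← hmove g _ _ (hE.ne (by decide)), ← hmove g _ _ (hne 2),
            hblock 0 1 (by decide), hx (oppA m hm) (first3 m 2) (fourth m hm) o0 o2]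
          exact (hdisj _ (by simp) a b).map (MulAut.conj (ψ g)).toMonoidHom
        · obtain ⟨o0, -, o2, -⟩ := dswap_apply (hab := hne 0) (hcd := hE.ne (show (1 : Fin 3) ≠ 2 by decide))
            (hE.ne (show (0 : Fin 3) ≠ 1 by decide)) (hE.ne (show (0 : Fin 3) ≠ 2 by decide)) (hne 1).symm (hne 2).symm
          rw [← a0, ← a1, ← a2, ← a3, ← hmove g _ _ (hE.ne (by decide)), ← hmove g _ _ (hne 2).symm,
            hblock 0 1 (by decide), hx (oppA' m hm) (fourth m hm) (first3 m 2) o0 o2]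
          exact (hdisj _ (by simp) a b).map (MulAut.conj (ψ g)).toMonoidHom
  have h1 : ∀ i j k, i ≠ j → j ≠ k → i ≠ k → ∀ a b,
      x i j a * x j k b = x i k (a * b) * x j k b * x i j a := by
    intro i j k hij hjk hik a b
    obtain ⟨g, p, q, r, hpq, hpr, hqr, hp, hq, hr'⟩ := exists_triple_map hij hik hjk
    rw [← hp, ← hq, ← hr', ← hmove g _ _ (hE.ne hpq), ← hmove g _ _ (hE.ne hqr),
      ← hmove g _ _ (hE.ne hpr), hblock p q hpq, hblock q r hqr, hblock p r hpr]
    have e := congrArg (MulAut.conj (ψ g)) (congrArg ι (transvection_step hpq hqr hpr a b))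
    simpa only [map_mul, MulAut.conj_apply] using e
  have hS : Sys x := Sys.of_comm hadd h0 h1 fun i j => by
    obtain ⟨k, hk⟩ := Finset.exists_mem_notMem_of_card_lt_card (s := ({i, j} : Finset (Fin (3 + m))))
      (t := Finset.univ) (by rw [Finset.card_univ, Fintype.card_fin]
                             exact lt_of_le_of_lt Finset.card_le_two (by omega))
    exact ⟨k, by simpa using hk.2⟩
  set R := Subgroup.closure (gensAll x) with hR
  have hxR : ∀ i j, i ≠ j → ∀ v, x i j v ∈ R := fun i j h v => Subgroup.subset_closure ⟨i, j, v, h, rfl⟩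
  have hιR : ∀ g, ι g ∈ R := by
    have : R.comap ι = ⊤ := CfsgLib.Linear.SL_eq_top_of_transvection_mem _ fun a b hab c => by
      show ι _ ∈ R
      rw [← hblock a b hab]
      exact hxR _ _ (hE.ne hab) _
    exact fun g => (this.symm ▸ Subgroup.mem_top g : g ∈ R.comap ι)
  have hψR : ∀ g, ψ g ∈ R := by
    refine alt_mem ψ R (rc ▸ hιR _) fun g z hz => ?_
    have : R ≤ R.comap (MulAut.conj (ψ g)).toMonoidHom := by
      rw [hR, Subgroup.closure_le]
      rintro _ ⟨i, j, v, hij, rfl⟩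
      show ψ g * x i j v * (ψ g)⁻¹ ∈ R
      rw [hmove g i j hij]
      exact hxR _ _ ((Equiv.injective _).ne hij) v
    exact this hz
  have hgenR : R = ⊤ := by
    rw [eq_top_iff, ← hgen]
    refine sup_le ?_ ?_
    · rintro _ ⟨g, rfl⟩; exact hιR g
    · rintro _ ⟨g, rfl⟩; exact hψR g
  exact card_le_SL (by omega) hS hgenR

end Core

end CfsgLib.BoundedPres
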