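import Cfsg.Agent.Lib.BoundedPres.SLn

/-!
`SL_n(F)` and `PSL_n(F)` have presentations with boundedly many relations.
-/

set_option autoImplicit false

namespace CfsgLib.BoundedPres

open Equiv
open CfsgLib.PresentSL3 (sT cT dgT eT)
open CfsgLib.SteinbergSL (Sys gensAll card_le_SL)

/-- The images of the first two generators of a symmetric group. -/
theorem closure_two_swN (M : ℕ) :
    Subgroup.closure ({swN M 0, seqProd (swN M) 0 M} : Set (Perm (Fin (M + 1)))) = ⊤ := by
  set H := Subgroup.closure ({swN M 0, seqProd (swN M) 0 M} : Set (Perm (Fin (M + 1))))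
  have h0 : swN M 0 ∈ H := Subgroup.subset_closure (by simp)
  have hc : seqProd (swN M) 0 M ∈ H := Subgroup.subset_closure (by simp)
  have key : ∀ i, i < M → swN M i ∈ H := by
    intro i
    induction i with
    | zero => intro _; exact h0
    | succ i ih =>
      intro hi
      have := seqProd_conj (aRel_swN (N := M) (M := M) le_rfl) (a := 0) (k := M) (j := i) hi (by omega)
      rw [zero_add] at this
      rw [← this]
      exact H.mul_mem (H.mul_mem hc (ih (by omega))) (H.inv_mem hc)
  exact perm_eq_top_of_adjacent _ fun i => swN_eq i.2 ▸ key i i.2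

variable {F : Type*} [Field F]

/-- The diagonal entries of the block torus. -/
def blockDiagFun (n : ℕ) (a b : Fˣ) (x : Fin n) : F :=
  if (x : ℕ) = 0 then (a : F) else if (x : ℕ) = 1 then (b : F) else
    if (x : ℕ) = 2 then (((a * b)⁻¹ : Fˣ) : F) else 1

theorem coe_blockSL_dgT {n m : ℕ} (h : 3 + m = n) (a b : Fˣ) :
    ((blockSL n m h (dgT (a, b)) : Matrix.SpecialLinearGroup (Fin n) F) : Matrix (Fin n) (Fin n) F) =
      Matrix.diagonal (blockDiagFun n a b) := by
  set e := finSumFinEquiv.trans (finCongr h)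
  show (Matrix.fromBlocks ((dgT (a, b) : Matrix.SpecialLinearGroup (Fin 3) F) : Matrix (Fin 3) (Fin 3) F) 0 0 1).submatrix
      e.symm e.symm = _
  ext i j
  obtain ⟨i, rfl⟩ := e.surjective i
  obtain ⟨j, rfl⟩ := e.surjective j
  rw [Matrix.submatrix_apply, Equiv.symm_apply_apply, Equiv.symm_apply_apply, CfsgLib.PresentSL3.coe_dgT]
  rcases i with i | i <;> rcases j with j | j
  · fin_cases i <;> fin_cases j <;> simp [e, blockDiagFun, Matrix.diagonal_apply, Fin.ext_iff]
  · have : e (Sum.inl i) ≠ e (Sum.inr j) := e.injective.ne Sum.inl_ne_inr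
    simp [this]
  · have : e (Sum.inr i) ≠ e (Sum.inl j) := e.injective.ne Sum.inr_ne_inl
    simp [this]
  · have hv : ((e (Sum.inr i) : Fin n) : ℕ) = 3 + i := by simp [e]
    simp only [Matrix.fromBlocks_apply₂₂, Matrix.diagonal_apply, Matrix.one_apply, e.injective.eq_iff,
      Sum.inr.injEq, blockDiagFun, hv]
    split_ifs <;> first | rfl | omega

theorem permSL_diag {n : ℕ} (g : alternatingGroup (Fin n)) (D : Matrix.SpecialLinearGroup (Fin n) F)
    (d : Fin n → F) (hD : (D : Matrix (Fin n) (Fin n) F) = Matrix.diagonal d) :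
    (((permSL n g * D * (permSL n g)⁻¹ : Matrix.SpecialLinearGroup (Fin n) F)) : Matrix (Fin n) (Fin n) F) =
      Matrix.diagonal fun x => d ((g : Perm (Fin n))⁻¹ x) := by
  rw [← map_inv]
  show Equiv.Perm.permMatrix F (g : Perm (Fin n))⁻¹ * (D : Matrix (Fin n) (Fin n) F) *
    Equiv.Perm.permMatrix F ((g⁻¹ : alternatingGroup (Fin n)) : Perm (Fin n))⁻¹ = _
  rw [hD, Equiv.Perm.permMatrix, PEquiv.toMatrix_toPEquiv_mul, Equiv.Perm.permMatrix,
    PEquiv.mul_toMatrix_toPEquiv]
  ext a b
  simp only [Matrix.submatrix_apply, id, Matrix.diagonal_apply]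
  simp only [Perm.inv_def, InvMemClass.coe_inv, Equiv.symm_symm, EmbeddingLike.apply_eq_iff_eq]

theorem diag_commute_transvection {n : ℕ} (D : Matrix.SpecialLinearGroup (Fin n) F) (d : Fin n → F)
    (hD : (D : Matrix (Fin n) (Fin n) F) = Matrix.diagonal d) {i j : Fin n} (hij : i ≠ j) (h : d i = d j)
    (v : F) : Commute D (Matrix.SpecialLinearGroup.transvection hij v) := by
  apply Subtype.ext
  show (D : Matrix (Fin n) (Fin n) F) * Matrix.transvection i j v =
    Matrix.transvection i j v * (D : Matrix (Fin n) (Fin n) F)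
  rw [hD]
  ext a b
  simp only [Matrix.diagonal_mul, Matrix.mul_diagonal, Matrix.transvection, Matrix.add_apply,
    Matrix.one_apply, Matrix.single_apply, mul_add, add_mul]
  congr 1
  · split_ifs with hab
    · subst hab; rw [mul_one, one_mul]
    · simp
  · split_ifs with hab
    · obtain ⟨rfl, rfl⟩ := hab; rw [h, mul_comm]
    · simp

theorem diag_commute_diag {n : ℕ} (D E : Matrix.SpecialLinearGroup (Fin n) F) (d e : Fin n → F)
    (hD : (D : Matrix (Fin n) (Fin n) F) = Matrix.diagonal d)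
    (hE : (E : Matrix (Fin n) (Fin n) F) = Matrix.diagonal e) : Commute D E := by
  apply Subtype.ext
  show (D : Matrix (Fin n) (Fin n) F) * (E : Matrix (Fin n) (Fin n) F) =
    (E : Matrix (Fin n) (Fin n) F) * (D : Matrix (Fin n) (Fin n) F)
  rw [hD, hE, Matrix.diagonal_mul_diagonal, Matrix.diagonal_mul_diagonal]
  simp_rw [mul_comm]

theorem blockSL_cT {n m : ℕ} (h : 3 + m = n) (cA : alternatingGroup (Fin n))
    (hcA : (cA : Perm (Fin n)) = Equiv.swap (Fin.castLE (show 3 ≤ n by omega) 0) (Fin.castLE (show 3 ≤ n by omega) 1) *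
      Equiv.swap (Fin.castLE (show 3 ≤ n by omega) 1) (Fin.castLE (show 3 ≤ n by omega) 2)) :
    blockSL n m h (cT : Matrix.SpecialLinearGroup (Fin 3) F) = permSL n cA := by
  set e := finSumFinEquiv.trans (finCongr h)
  apply Subtype.ext
  show (Matrix.fromBlocks ((cT : Matrix.SpecialLinearGroup (Fin 3) F) : Matrix (Fin 3) (Fin 3) F) 0 0 1).submatrix
      e.symm e.symm = Equiv.Perm.permMatrix F (cA : Perm (Fin n))⁻¹
  ext i j
  obtain ⟨i, rfl⟩ := e.surjective i
  obtain ⟨j, rfl⟩ := e.surjective j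
  rw [Matrix.submatrix_apply, Equiv.symm_apply_apply, Equiv.symm_apply_apply, CfsgLib.PresentSL3.coe_cT,
    Equiv.Perm.permMatrix, PEquiv.toMatrix_apply, Equiv.toPEquiv_apply, hcA, mul_inv_rev,
    Equiv.swap_inv, Equiv.swap_inv]
  simp only [Option.mem_def, Option.some.injEq, Perm.mul_apply]
  rcases i with i | i <;> rcases j with j | j
  · fin_cases i <;> fin_cases j <;> simp [e, Equiv.swap_apply_def, Fin.ext_iff]
  · fin_cases i <;> simp [e, Equiv.swap_apply_def, Fin.ext_iff] <;> omega
  all_goals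
    have hne : ∀ a : Fin 3, e (Sum.inr i) ≠ Fin.castLE (show 3 ≤ n by omega) a := fun a => by
      simp [e, Fin.ext_iff]; omega
    rw [Equiv.swap_apply_of_ne_of_ne (hne 0) (hne 1), Equiv.swap_apply_of_ne_of_ne (hne 1) (hne 2)]
  · simp [e.injective.ne (Sum.inr_ne_inl (a := j) (b := i))]
  · simp [Matrix.one_apply, e.injective.eq_iff]

end CfsgLib.BoundedPres
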