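import Cfsg.Agent.Lib.BoundedPres.SLnCore

/-!
`SL_n(F)` has a presentation with seventy relations for `n ≥ 4`.
-/

set_option autoImplicit false

namespace CfsgLib.BoundedPres

open Equiv
open CfsgLib.PresentSL3 (sT cT dgT eT)

variable {F : Type*} [Field F]

section Target

variable {m : ℕ}

theorem blockSL_root {a b : Fin 3} (hab : a ≠ b) (v : F) :
    blockSL (3 + m) m rfl (Matrix.SpecialLinearGroup.transvection hab v) =
      Matrix.SpecialLinearGroup.transvection ((first3_inj m).ne hab) v :=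
  blockSL_transvection rfl hab v

theorem blockDiagFun_one (w : Fˣ) (x : Fin (3 + m)) (h0 : x ≠ first3 m 0) (h1 : x ≠ first3 m 1) :
    blockDiagFun (3 + m) w w⁻¹ x = 1 := by
  simp only [ne_eq, Fin.ext_iff, Fin.val_castLE, Fin.val_zero, Fin.val_one] at h0 h1
  simp [blockDiagFun, h0, h1]

/-- A permutation fixing the first pair commutes with the first root element and the torus element. -/
theorem stab_commute (w : Fˣ) (g : alternatingGroup (Fin (3 + m)))
    (g0 : (g : Perm (Fin (3 + m))) (first3 m 0) = first3 m 0)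
    (g1 : (g : Perm (Fin (3 + m))) (first3 m 1) = first3 m 1) :
    Commute (permSL (3 + m) g) (blockSL (3 + m) m rfl (uBlock (F := F))) ∧
      Commute (permSL (3 + m) g) (blockSL (3 + m) m rfl (dgT (w, w⁻¹))) := by
  constructor
  · have e := permSL_conj (F := F) g ((first3_inj m).ne (show (0 : Fin 3) ≠ 1 by decide)) 1
    simp only [g0, g1] at e
    rw [uBlock, blockSL_root]
    rw [mul_inv_eq_iff_eq_mul] at e
    exact e
  · have e : permSL (3 + m) g * blockSL (3 + m) m rfl (dgT (w, w⁻¹)) * (permSL (3 + m) g)⁻¹ =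
        blockSL (F := F) (3 + m) m rfl (dgT (w, w⁻¹)) := by
      apply Subtype.ext
      rw [permSL_diag g _ _ (coe_blockSL_dgT rfl w w⁻¹), coe_blockSL_dgT]
      congr 1
      funext x
      obtain ⟨y, rfl⟩ := (g : Perm (Fin (3 + m))).surjective x
      rw [Perm.inv_def, Equiv.symm_apply_apply]
      by_cases h0 : y = first3 m 0
      · rw [h0, g0]
      by_cases h1 : y = first3 m 1
      · rw [h1, g1]
      rw [blockDiagFun_one w y h0 h1, blockDiagFun_one]
      · rw [← g0]; exact (Equiv.injective _).ne h0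
      · rw [← g1]; exact (Equiv.injective _).ne h1
    rw [mul_inv_eq_iff_eq_mul] at e
    exact e

theorem rev_commute (hm : 1 ≤ m) (w : Fˣ) :
    Commute ((blockSL (3 + m) m rfl (sT (F := F)))⁻¹ * permSL (3 + m) (revA m hm))
      (blockSL (3 + m) m rfl uBlock) ∧
    Commute ((blockSL (3 + m) m rfl (sT (F := F)))⁻¹ * permSL (3 + m) (revA m hm))
      (blockSL (3 + m) m rfl (dgT (w, w⁻¹))) := by
  have hE := first3_inj m
  have hne := first3_ne_fourth (m := m) hm
  obtain ⟨r0, r1, -, -⟩ := dswap_apply (hab := hE.ne (show (0 : Fin 3) ≠ 1 by decide)) (hcd := hne 2)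
    (hE.ne (show (0 : Fin 3) ≠ 2 by decide)) (hne 0) (hE.ne (show (1 : Fin 3) ≠ 2 by decide)) (hne 1)
  have key : ∀ (s p y : Matrix.SpecialLinearGroup (Fin (3 + m)) F),
      p * y * p⁻¹ = s * y * s⁻¹ → Commute (s⁻¹ * p) y := by
    intro s p y h
    show s⁻¹ * p * y = y * (s⁻¹ * p)
    calc s⁻¹ * p * y = s⁻¹ * (p * y * p⁻¹) * p := by group
      _ = _ := by rw [h]; group
  constructor <;> apply key
  · have e := permSL_conj (F := F) (revA m hm) (hE.ne (show (0 : Fin 3) ≠ 1 by decide)) 1
    simp only [show (revA m hm : Perm (Fin (3 + m))) (first3 m 0) = first3 m 1 from r0,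
      show (revA m hm : Perm (Fin (3 + m))) (first3 m 1) = first3 m 0 from r1] at e
    rw [← map_inv (blockSL (3 + m) m rfl), ← map_mul, ← map_mul, uBlock, sT_conj, blockSL_root, blockSL_root, e]
  · rw [← map_inv (blockSL (3 + m) m rfl), ← map_mul, ← map_mul,
      inv_eq_of_mul_eq_one_right CfsgLib.PresentSL3.sT_sq, CfsgLib.PresentSL3.sT_dgT]
    apply Subtype.ext
    rw [permSL_diag (revA m hm) _ _ (coe_blockSL_dgT rfl w w⁻¹), coe_blockSL_dgT]
    congr 1
    funext x
    obtain ⟨y, rfl⟩ := (revA m hm : Perm (Fin (3 + m))).surjective x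
    rw [Perm.inv_def, Equiv.symm_apply_apply]
    by_cases h0 : y = first3 m 0
    · subst h0
      rw [show (revA m hm : Perm (Fin (3 + m))) (first3 m 0) = first3 m 1 from r0]
      simp [blockDiagFun]
    by_cases h1 : y = first3 m 1
    · subst h1
      rw [show (revA m hm : Perm (Fin (3 + m))) (first3 m 1) = first3 m 0 from r1]
      simp [blockDiagFun]
    rw [blockDiagFun_one w y h0 h1]
    have n0 : (revA m hm : Perm (Fin (3 + m))) y ≠ first3 m 0 := fun e =>
      h1 ((revA m hm : Perm (Fin (3 + m))).injective (e.trans r1.symm))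
    have n1 : (revA m hm : Perm (Fin (3 + m))) y ≠ first3 m 1 := fun e =>
      h0 ((revA m hm : Perm (Fin (3 + m))).injective (e.trans r0.symm))
    have := blockDiagFun_one w⁻¹ _ n0 n1
    rw [inv_inv] at this
    exact this.symm

/-- An involution moving the first pair off itself gives commuting conjugates. -/
theorem opp_commute (w : Fˣ) (g : alternatingGroup (Fin (3 + m)))
    (h : ∀ a ∈ [first3 m 0, first3 m 1], ∀ b ∈ [first3 m 0, first3 m 1], (g : Perm (Fin (3 + m))) a ≠ b) :
    Commute (blockSL (3 + m) m rfl (uBlock (F := F)))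
        (permSL (3 + m) g * blockSL (3 + m) m rfl uBlock * (permSL (3 + m) g)⁻¹) ∧
      Commute (blockSL (3 + m) m rfl (dgT (w, w⁻¹)))
        (permSL (3 + m) g * blockSL (3 + m) m rfl (uBlock (F := F)) * (permSL (3 + m) g)⁻¹) ∧
      Commute (blockSL (3 + m) m rfl (dgT (w, w⁻¹)))
        (permSL (F := F) (3 + m) g * blockSL (3 + m) m rfl (dgT (w, w⁻¹)) * (permSL (3 + m) g)⁻¹) := by
  have hE := first3_inj m
  have h00 := h (first3 m 0) (by simp) (first3 m 0) (by simp)
  have h01 := h (first3 m 0) (by simp) (first3 m 1) (by simp)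
  have h10 := h (first3 m 1) (by simp) (first3 m 0) (by simp)
  have h11 := h (first3 m 1) (by simp) (first3 m 1) (by simp)
  rw [uBlock, blockSL_root, permSL_conj]
  refine ⟨transvection_commute _ _ h10.symm h01.symm _ _, diag_commute_transvection _ _
    (coe_blockSL_dgT rfl w w⁻¹) _ ?_ _, diag_commute_diag _ _ _ _ (coe_blockSL_dgT rfl w w⁻¹)
      (permSL_diag g _ _ (coe_blockSL_dgT rfl w w⁻¹))⟩
  rw [blockDiagFun_one w _ h00 h01, blockDiagFun_one w _ h10 h11]

end Target

theorem lift_sum_inl {A B : Type} {T : Type*} [Group T] {v : A → T} {G : Type*} [Group G] (f : A ⊕ B → G)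
    (φ : T →* G) (h : ∀ x, φ (v x) = f (Sum.inl x)) (z : FreeGroup A) :
    FreeGroup.lift f (FreeGroup.lift (fun x => FreeGroup.of (Sum.inl x)) z) = φ (FreeGroup.lift v z) := by
  rw [hom_lift φ h]
  exact hom_lift (FreeGroup.lift f) (v := fun x => FreeGroup.of (Sum.inl x)) (fun x => by simp) z

theorem lift_sum_inr {A B : Type} {T : Type*} [Group T] {v : B → T} {G : Type*} [Group G] (f : A ⊕ B → G)
    (φ : T →* G) (h : ∀ x, φ (v x) = f (Sum.inr x)) (z : FreeGroup B) :
    FreeGroup.lift f (FreeGroup.lift (fun x => FreeGroup.of (Sum.inr x)) z) = φ (FreeGroup.lift v z) := by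
  rw [hom_lift φ h]
  exact hom_lift (FreeGroup.lift f) (v := fun x => FreeGroup.of (Sum.inr x)) (fun x => by simp) z

/-- `SL_n(F)` has a presentation with seventy relations for `n ≥ 4`. -/
theorem pres_SL [Fintype F] (n : ℕ) (hn : 4 ≤ n) : Pres (Matrix.SpecialLinearGroup (Fin n) F) 70 := by
  classical
  obtain ⟨m, rfl⟩ : ∃ m, n = 3 + m := ⟨n - 3, by omega⟩
  have hm : 1 ≤ m := by omega
  have hE := first3_inj m
  have hne := first3_ne_fourth (m := m) hm
  obtain ⟨w, hgen⟩ : ∃ w : Fˣ, ∀ x : Fˣ, x ∈ Subgroup.zpowers w := IsCyclic.exists_generator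
  obtain ⟨rels3, hc3, ⟨iso3⟩⟩ := CfsgLib.PresentSL3.presentation_sl_three (F := F)
  obtain ⟨X3, v3, L3, hl3, hv3, hg3, huniv3⟩ := (Pres.of_iso rels3 iso3).mono hc3
  obtain ⟨XA, vA, LA, hlA, hvA, hgA, hunivA⟩ := pres_alt (3 + m) hn
  obtain ⟨s, hsfix, hsgen⟩ := exists_stab_gens (m := m) hm
  choose w3 hw3 using fun g : Matrix.SpecialLinearGroup (Fin 3) F => exists_word hg3 g
  choose wA hwA using fun g : alternatingGroup (Fin (3 + m)) => exists_word hgA g
  let iX : FreeGroup X3 →* FreeGroup (X3 ⊕ XA) := FreeGroup.lift fun x => FreeGroup.of (Sum.inl x)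
  let iA : FreeGroup XA →* FreeGroup (X3 ⊕ XA) := FreeGroup.lift fun x => FreeGroup.of (Sum.inr x)
  let cm : FreeGroup (X3 ⊕ XA) → FreeGroup (X3 ⊕ XA) → FreeGroup (X3 ⊕ XA) := fun a b => a * b * a⁻¹ * b⁻¹
  let U : FreeGroup (X3 ⊕ XA) := iX (w3 uBlock)
  let H : FreeGroup (X3 ⊕ XA) := iX (w3 (dgT (w, w⁻¹)))
  let P : alternatingGroup (Fin (3 + m)) → FreeGroup (X3 ⊕ XA) := fun g => iA (wA g)
  let W0 : FreeGroup (X3 ⊕ XA) := (iX (w3 sT))⁻¹ * P (revA m hm)
  let disj : alternatingGroup (Fin (3 + m)) → List (FreeGroup (X3 ⊕ XA)) := fun g =>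
    [cm U (P g * U * (P g)⁻¹), cm H (P g * U * (P g)⁻¹), cm H (P g * H * (P g)⁻¹)]
  let L : List (FreeGroup (X3 ⊕ XA)) := L3.map iX ++ (LA.map iA ++
    ([iX (w3 cT) * (P (cycA m))⁻¹, cm W0 U, cm W0 H] ++
      ((List.finRange 4).map (fun i => cm (P (s i)) U) ++ ((List.finRange 4).map (fun i => cm (P (s i)) H) ++
        (disj (oppA m hm) ++ disj (oppA' m hm))))))
  have hlen : L.length ≤ 70 := by simp [L, disj]; omega
  refine Pres.mono ?_ hlen
  set v2 : X3 ⊕ XA → Matrix.SpecialLinearGroup (Fin (3 + m)) F :=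
    Sum.elim (fun x => blockSL (3 + m) m rfl (v3 x)) (fun x => permSL (3 + m) (vA x)) with hv2
  refine Pres.of_bound v2 L ?_ ?_ ?_
  · have hX := lift_sum_inl (v := v3) v2 (blockSL (3 + m) m rfl) (fun x => rfl)
    have hA := lift_sum_inr (v := vA) v2 (permSL (3 + m)) (fun x => rfl)
    have hX' : ∀ g, FreeGroup.lift v2 (iX (w3 g)) = blockSL (3 + m) m rfl g := fun g => by rw [hX, hw3]
    have hA' : ∀ g, FreeGroup.lift v2 (P g) = permSL (3 + m) g := fun g => by rw [hA, hwA]
    have hcm : ∀ a b, Commute (FreeGroup.lift v2 a) (FreeGroup.lift v2 b) → FreeGroup.lift v2 (cm a b) = 1 :=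
      fun a b h => by
        simp only [cm, map_mul, map_inv]
        rw [h.eq]; group
    intro z hz
    simp only [L, disj, List.mem_append, List.mem_cons, List.not_mem_nil, or_false, List.mem_map] at hz
    rcases hz with ⟨y, hy, rfl⟩ | ⟨y, hy, rfl⟩ | (rfl | rfl | rfl) | ⟨i, -, rfl⟩ | ⟨i, -, rfl⟩ |
        (rfl | rfl | rfl) | (rfl | rfl | rfl)
    · rw [hX, hv3 y hy, map_one]
    · rw [hA, hvA y hy, map_one]
    · rw [map_mul, map_inv, hX', hA', mul_inv_eq_one]
      exact blockSL_cT rfl (cycA m) rfl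
    all_goals apply hcm
    all_goals simp only [W0, U, H, map_mul, map_inv, hX', hA']
    · exact (rev_commute hm w).1
    · exact (rev_commute hm w).2
    · exact (stab_commute w (s i) (hsfix i).1 (hsfix i).2).1
    · exact (stab_commute w (s i) (hsfix i).1 (hsfix i).2).2
    all_goals
      have o1 : ∀ a ∈ [first3 m 0, first3 m 1], ∀ b ∈ [first3 m 0, first3 m 1],
          (oppA m hm : Perm (Fin (3 + m))) a ≠ b := by
        obtain ⟨e0, -, e1, -⟩ := dswap_apply (hab := hE.ne (show (0 : Fin 3) ≠ 2 by decide)) (hcd := hne 1)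
          (hE.ne (show (0 : Fin 3) ≠ 1 by decide)) (hne 0) (hE.ne (show (2 : Fin 3) ≠ 1 by decide)) (hne 2)
        simp [oppA, e0, e1, hE.eq_iff, (hne 0).symm, (hne 1).symm]
      have o2 : ∀ a ∈ [first3 m 0, first3 m 1], ∀ b ∈ [first3 m 0, first3 m 1],
          (oppA' m hm : Perm (Fin (3 + m))) a ≠ b := by
        obtain ⟨e0, -, e1, -⟩ := dswap_apply (hab := hne 0) (hcd := hE.ne (show (1 : Fin 3) ≠ 2 by decide))
          (hE.ne (show (0 : Fin 3) ≠ 1 by decide)) (hE.ne (show (0 : Fin 3) ≠ 2 by decide)) (hne 1).symm (hne 2).symm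
        simp [oppA', e0, e1, hE.eq_iff, (hne 0).symm, (hne 1).symm]
    · exact (opp_commute w _ o1).1
    · exact (opp_commute w _ o1).2.1
    · exact (opp_commute w _ o1).2.2
    · exact (opp_commute w _ o2).1
    · exact (opp_commute w _ o2).2.1
    · exact (opp_commute w _ o2).2.2
  · let R := Subgroup.closure (Set.range v2)
    have hB' : ∀ g, blockSL (3 + m) m rfl g ∈ R := fun g => by
      show _ ∈ Subgroup.closure (Set.range v2)
      rw [← hw3 g, ← lift_sum_inl (v := v3) v2 (blockSL (3 + m) m rfl) (fun x => rfl), ← FreeGroup.range_lift_eq_closure]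
      exact ⟨_, rfl⟩
    have hA' : ∀ g, permSL (3 + m) g ∈ R := fun g => by
      show _ ∈ Subgroup.closure (Set.range v2)
      rw [← hwA g, ← lift_sum_inr (v := vA) v2 (permSL (3 + m)) (fun x => rfl), ← FreeGroup.range_lift_eq_closure]
      exact ⟨_, rfl⟩
    refine CfsgLib.Linear.SL_eq_top_of_transvection_mem _ fun i j hij c => ?_
    obtain ⟨g, h0, h1⟩ := exists_pair_map (m := m) hm hij
    have e := permSL_conj (F := F) g (hE.ne (show (0 : Fin 3) ≠ 1 by decide)) c
    simp only [h0, h1] at e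
    rw [← e, ← blockSL_root (show (0 : Fin 3) ≠ 1 by decide)]
    exact R.mul_mem (R.mul_mem (hA' g) (hB' _)) (R.inv_mem (hA' g))
  · intro G _ f hf hk
    obtain ⟨ι, hι⟩ := huniv3 G (fun x => f (Sum.inl x)) fun z hz => by
      have h := hk _ (List.mem_append_left _ (List.mem_map_of_mem hz))
      rw [← hom_lift (FreeGroup.lift f) (v := fun x => FreeGroup.of (Sum.inl x)) (fun x => by simp) z]
      exact h
    obtain ⟨ψ, hψ⟩ := hunivA G (fun x => f (Sum.inr x)) fun z hz => by
      have h := hk _ (List.mem_append_right _ (List.mem_append_left _ (List.mem_map_of_mem hz)))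
      rw [← hom_lift (FreeGroup.lift f) (v := fun x => FreeGroup.of (Sum.inr x)) (fun x => by simp) z]
      exact h
    have hX' : ∀ g, FreeGroup.lift f (iX (w3 g)) = ι g := fun g => by rw [lift_sum_inl (v := v3) f ι hι, hw3]
    have hA' : ∀ g, FreeGroup.lift f (P g) = ψ g := fun g => by rw [lift_sum_inr (v := vA) f ψ hψ, hwA]
    have hcm : ∀ a b, cm a b ∈ L → Commute (FreeGroup.lift f a) (FreeGroup.lift f b) := by
      intro a b hab
      have := hk _ hab
      simp only [cm, map_mul, map_inv, mul_inv_eq_one, mul_inv_eq_iff_eq_mul, one_mul] at this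
      exact this
    have rc : ι cT = ψ (cycA m) := by
      have := hk (iX (w3 cT) * (P (cycA m))⁻¹) (by simp [L])
      rwa [map_mul, map_inv, hX', hA', mul_inv_eq_one] at this
    refine card_le_of_block ι ψ hm hgen s hsgen rc ?_ ?_ (fun i => ⟨?_, ?_⟩) ?_ ?_
    · have h := hcm W0 U (by simp [L])
      simpa only [W0, U, map_mul, map_inv, hX', hA'] using h
    · have h := hcm W0 H (by simp [L])
      simpa only [W0, H, map_mul, map_inv, hX', hA'] using h
    · have h := hcm (P (s i)) U (by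
        simp only [L, List.mem_append, List.mem_map]
        exact Or.inr (Or.inr (Or.inr (Or.inl ⟨i, List.mem_finRange i, rfl⟩))))
      simpa only [U, hX', hA'] using h
    · have h := hcm (P (s i)) H (by
        simp only [L, List.mem_append, List.mem_map]
        exact Or.inr (Or.inr (Or.inr (Or.inr (Or.inl ⟨i, List.mem_finRange i, rfl⟩)))))
      simpa only [H, hX', hA'] using h
    · intro g hg
      have hmem : ∀ z ∈ disj g, z ∈ L := by
        intro z hz
        simp only [List.mem_cons, List.not_mem_nil, or_false] at hg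
        simp only [L, List.mem_append]
        rcases hg with rfl | rfl
        exacts [Or.inr (Or.inr (Or.inr (Or.inr (Or.inr (Or.inl hz))))),
          Or.inr (Or.inr (Or.inr (Or.inr (Or.inr (Or.inr hz)))))]
      have h1 := hcm U (P g * U * (P g)⁻¹) (hmem _ (by simp [disj]))
      have h2 := hcm H (P g * U * (P g)⁻¹) (hmem _ (by simp [disj]))
      have h3 := hcm H (P g * H * (P g)⁻¹) (hmem _ (by simp [disj]))
      simp only [U, H, map_mul, map_inv, hX', hA'] at h1 h2 h3
      exact ⟨h1, h2, h3⟩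
    · rw [eq_top_iff, ← hf, Subgroup.closure_le]
      rintro _ ⟨y | y, rfl⟩
      · exact Subgroup.mem_sup_left ⟨v3 y, hι y⟩
      · exact Subgroup.mem_sup_right ⟨vA y, hψ y⟩

end CfsgLib.BoundedPres
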