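import Mathlib

/-!
Root systems of type C in abstract groups: the root elements with their standard action, Weyl elements,
and the normal unipotent subgroups of the parabolic subgroups.
-/

set_option autoImplicit false

namespace CfsgLib.SpBound

open Pointwise

variable {ι F G : Type*} [DecidableEq ι] [Field F] [Group G]

/-- The Weyl element of a root. -/
def nE (x : ι → ι → F → G) (α β : ι) (s : F) : G := x α β s * x β α (-s⁻¹) * x α β s

/-- The group of Weyl elements. -/
def monGrp (x : ι → ι → F → G) : Subgroup G :=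
  Subgroup.closure {g | ∃ α β s, α ≠ β ∧ s ≠ 0 ∧ g = nE x α β s}

/-- The Weyl elements supported in `I`. -/
def monI (x : ι → ι → F → G) (I : Finset ι) : Subgroup G :=
  Subgroup.closure {g | ∃ α β s, α ≠ β ∧ s ≠ 0 ∧ α ∈ I ∧ β ∈ I ∧ g = nE x α β s}

/-- The root elements supported in `I`. -/
def grpI (x : ι → ι → F → G) (I : Finset ι) : Subgroup G :=
  Subgroup.closure {g | ∃ α β t, α ≠ β ∧ α ∈ I ∧ β ∈ I ∧ g = x α β t}

/-- The root elements supported in `I` and fixing the vector of index `o`. -/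
def fixI (opp : ι → ι) (x : ι → ι → F → G) (I : Finset ι) (o : ι) : Subgroup G :=
  Subgroup.closure {g | ∃ α β t, α ≠ β ∧ α ∈ I ∧ β ∈ I ∧ β ≠ o ∧ α ≠ opp o ∧ g = x α β t}

/-- The root elements adding multiples of the coordinate `α` to others. -/
def colI (x : ι → ι → F → G) (J : Finset ι) (α : ι) : Subgroup G :=
  Subgroup.closure {g | ∃ β t, β ≠ α ∧ β ∈ J ∧ g = x β α t}

/-- The relations of type C. -/
structure Sys (opp : ι → ι) (w : ι → F) (ρ : G →* Module.End F (ι → F)) (x : ι → ι → F → G) : Prop where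
  opp_opp : ∀ α, opp (opp α) = α
  opp_ne : ∀ α, opp α ≠ α
  w_sq : ∀ α, w α * w α = 1
  w_opp : ∀ α, w (opp α) = -w α
  proj : ∀ α β, α ≠ β → ∀ (t : F) (v : ι → F), ρ (x α β t) v = v + Pi.single α (t * v β) +
    (if β = opp α then 0 else Pi.single (opp β) (-(w α * w β) * t * v (opp α)))
  add : ∀ α β, α ≠ β → ∀ t u, x α β t * x α β u = x α β (t + u)
  sym : ∀ α β, α ≠ β → β ≠ opp α → ∀ t, ∃ t', x α β t = x (opp β) (opp α) t'
  comm : ∀ α β γ δ, α ≠ β → γ ≠ δ → β ≠ γ → δ ≠ α → β ≠ opp δ → α ≠ opp γ → ∀ t u,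
    Commute (x α β t) (x γ δ u)
  comp : ∀ α β γ, α ≠ β → β ≠ γ → α ≠ γ → ∀ t u, ∃ a b d, (γ ≠ opp β → b = 0) ∧
    (β ≠ opp α → d = 0) ∧
    x α β t * x β γ u = x α γ a * x α (opp α) b * x (opp γ) γ d * (x β γ u * x α β t)
  conjN : ∀ α β s, α ≠ β → s ≠ 0 → ∀ γ δ t, γ ≠ δ → ∃ γ' δ' t', γ' ≠ δ' ∧
    nE x α β s * x γ δ t * (nE x α β s)⁻¹ = x γ' δ' t'
  injN : ∀ g ∈ monGrp x, ρ g = 1 → g = 1

/-- The index set is closed under opposition. -/
def Closed (opp : ι → ι) (I : Finset ι) : Prop := ∀ α ∈ I, opp α ∈ I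

/-- Monomial action compatible with the opposition. -/
def Mono (opp : ι → ι) (w : ι → F) (ρ : G →* Module.End F (ι → F)) (g : G) : Prop := ∀ α, ∃ γ, ∃ a : F, a ≠ 0 ∧
  ρ g (Pi.single α 1) = Pi.single γ a ∧ ρ g (Pi.single (opp α) 1) = Pi.single (opp γ) (w α * w γ * a⁻¹)

/-- Supported in `I`. -/
def Supp (I : Finset ι) (v : ι → F) : Prop := ∀ α, α ∉ I → v α = 0

theorem x_mem_col {x : ι → ι → F → G} {J : Finset ι} {α β : ι} (h : β ≠ α) (hβ : β ∈ J) (t : F) : x β α t ∈ colI x J α :=
  Subgroup.subset_closure ⟨β, t, h, hβ, rfl⟩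

theorem col_mono {x : ι → ι → F → G} {J J' : Finset ι} (h : J ⊆ J') (α : ι) : colI x J α ≤ colI x J' α :=
  Subgroup.closure_mono fun _ ⟨β, t, hb, hβ, e⟩ => ⟨β, t, hb, h hβ, e⟩

namespace Sys

variable {opp : ι → ι} {w : ι → F} {ρ : G →* Module.End F (ι → F)} {x : ι → ι → F → G}
  (S : Sys opp w ρ x)
include S

theorem opp_inj {α β : ι} (h : opp α = opp β) : α = β := by rw [← S.opp_opp α, h, S.opp_opp]

theorem opp_eq_iff {α β : ι} : opp α = β ↔ α = opp β :=
  ⟨fun h => by rw [← h, S.opp_opp], fun h => by rw [h, S.opp_opp]⟩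

theorem x_zero {α β : ι} (h : α ≠ β) : x α β 0 = 1 := by
  have e := S.add α β h 0 0
  rwa [add_zero, mul_eq_left] at e

theorem x_inv {α β : ι} (h : α ≠ β) (t : F) : (x α β t)⁻¹ = x α β (-t) := by
  rw [inv_eq_iff_mul_eq_one, S.add α β h, add_neg_cancel, S.x_zero h]

theorem w_ne (α : ι) : w α ≠ 0 := fun h => by
  have := S.w_sq α
  simp [h] at this

theorem rho_cancel {g : G} {v : ι → F} : ρ g (ρ g⁻¹ v) = v := by
  rw [← Module.End.mul_apply, ← map_mul, mul_inv_cancel, map_one, Module.End.one_apply]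

theorem rho_cancel' {g : G} {v : ι → F} : ρ g⁻¹ (ρ g v) = v := by
  rw [← Module.End.mul_apply, ← map_mul, inv_mul_cancel, map_one, Module.End.one_apply]

theorem proj_apply {α β : ι} (h : α ≠ β) (t : F) (v : ι → F) {γ : ι} (h1 : γ ≠ α) (h2 : γ ≠ opp β) :
    ρ (x α β t) v γ = v γ := by
  rw [S.proj α β h]
  by_cases hb : β = opp α <;> simp [hb, h1, h2]

theorem proj_fix {α β : ι} (h : α ≠ β) (t : F) {v : ι → F} (h1 : v β = 0) (h2 : v (opp α) = 0) :
    ρ (x α β t) v = v := by
  rw [S.proj α β h, h1, h2]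
  simp

theorem proj_single {α β : ι} (h : α ≠ β) (t : F) {γ : ι} (h1 : γ ≠ β) (h2 : γ ≠ opp α) (a : F) :
    ρ (x α β t) (Pi.single γ a) = Pi.single γ a :=
  S.proj_fix h t (by simp [h1.symm]) (by simp [Pi.single_apply, Ne.symm h2])

theorem proj_col {α β : ι} (h : β ≠ α) (t a : F) :
    ρ (x β α t) (Pi.single α a) = Pi.single α a + Pi.single β (t * a) := by
  rw [S.proj β α h]
  by_cases hb : α = opp β
  · simp [hb]
  · have : opp β ≠ α := fun e => hb e.symm
    simp [hb, this]

/-! ### Weyl elements -/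

theorem n_apply {α β : ι} (h : α ≠ β) {s : F} (hs : s ≠ 0) (v : ι → F) :
    ρ (nE x α β s) v =
      if β = opp α then v + Pi.single α (-v α + s * v β) + Pi.single β (-s⁻¹ * v α - v β)
      else v + Pi.single α (-v α + s * v β) + Pi.single β (-s⁻¹ * v α - v β)
        + Pi.single (opp β) (-(w α * w β) * s * v (opp α) - v (opp β))
        + Pi.single (opp α) (w α * w β * s⁻¹ * v (opp β) - v (opp α)) := by
  have h1 := S.opp_ne α
  have h2 := S.opp_ne β
  rw [nE, map_mul, map_mul, Module.End.mul_apply, Module.End.mul_apply]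
  split_ifs with hb
  · subst hb
    have e : α = opp (opp α) := (S.opp_opp α).symm
    rw [S.proj α _ h, if_pos rfl, add_zero, S.proj (opp α) α h.symm, if_pos e, add_zero,
      S.proj α _ h, if_pos rfl, add_zero]
    funext γ
    by_cases ga : γ = α
    · subst ga
      simp [h, h.symm]
      field_simp
      ring
    by_cases gb : γ = opp α
    · subst gb
      simp [h.symm]
      field_simp
      ring
    simp [ga, gb]
  · have hb' : α ≠ opp β := fun e => hb (by rw [e, S.opp_opp])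
    have h3 : opp α ≠ opp β := fun e => h (S.opp_inj e)
    rw [S.proj α β h, if_neg hb, S.proj β α h.symm, if_neg hb', S.proj α β h, if_neg hb]
    have wa := S.w_sq α
    have wb := S.w_sq β
    funext γ
    by_cases ga : γ = α
    · subst ga
      simp [h, h.symm, Ne.symm hb, hb', hb'.symm, Ne.symm h1, h1, h2, h3]
      field_simp
      ring
    by_cases gb : γ = β
    · subst gb
      simp [h.symm, Ne.symm hb, hb, hb'.symm, hb', Ne.symm h1, h1, h2, Ne.symm h2, h3]
      field_simp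
      ring
    by_cases gc : γ = opp β
    · subst gc
      simp [h, h.symm, Ne.symm hb, hb, hb', hb'.symm, Ne.symm h1, h1, h2, Ne.symm h2, h3, h3.symm]
      field_simp
      linear_combination (v (opp β) - w α * w β * s * v (opp α)) * (-w β ^ 2) * wa + (v (opp β) - w α * w β * s * v (opp α)) * (-1) * wb
    by_cases gd : γ = opp α
    · subst gd
      simp [h, h.symm, Ne.symm hb, hb, hb', hb'.symm, Ne.symm h1, h1, h2, Ne.symm h2, h3, h3.symm]
      field_simp
      linear_combination -(v (opp α) * s * w β ^ 2) * wa - v (opp α) * s * wb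
    simp [ga, gb, gc, gd]

theorem monI_le_grpI (I : Finset ι) : monI x I ≤ grpI x I := by
  rw [monI, Subgroup.closure_le]
  rintro _ ⟨α, β, s, h, -, ha, hb, rfl⟩
  exact mul_mem (mul_mem (Subgroup.subset_closure ⟨α, β, s, h, ha, hb, rfl⟩)
    (Subgroup.subset_closure ⟨β, α, _, h.symm, hb, ha, rfl⟩))
    (Subgroup.subset_closure ⟨α, β, s, h, ha, hb, rfl⟩)

theorem monI_le_monGrp (I : Finset ι) : monI x I ≤ monGrp x :=
  Subgroup.closure_mono fun _ ⟨α, β, s, h, hs, _, _, e⟩ => ⟨α, β, s, h, hs, e⟩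

/-- An element of `grpI` fixes the basis vectors outside. -/
theorem fix_out {I : Finset ι} (hI : Closed opp I) {g : G} (hg : g ∈ grpI x I) :
    ∀ γ, γ ∉ I → ∀ a : F, ρ g (Pi.single γ a) = Pi.single γ a := by
  induction hg using Subgroup.closure_induction with
  | mem y hy =>
    obtain ⟨α, β, t, h, ha, hb, rfl⟩ := hy
    intro γ hγ a
    exact S.proj_single h t (fun e => hγ (by rw [e]; exact hb)) (fun e => hγ (by rw [e]; exact hI α ha)) a
  | one => intro γ _ a; simp
  | mul p q _ _ hp hq =>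
    intro γ hγ a
    rw [map_mul, Module.End.mul_apply, hq γ hγ a, hp γ hγ a]
  | inv p _ hp =>
    intro γ hγ a
    conv_lhs => rw [← hp γ hγ a]
    exact S.rho_cancel'

theorem mono_n {α β : ι} (h : α ≠ β) {s : F} (hs : s ≠ 0) : Mono opp w ρ (nE x α β s) := by
  intro γ
  have h1 := S.opp_ne α
  have h1' := Ne.symm h1
  have h2 := S.opp_ne β
  have h2' := Ne.symm h2
  have wa := S.w_sq α
  have wb := S.w_sq β
  have h' := h.symm
  by_cases hb : β = opp α
  · subst hb
    have happ := fun v => (S.n_apply h hs v).trans (if_pos rfl)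
    by_cases ga : γ = α
    · subst ga
      refine ⟨opp γ, -s⁻¹, by simp [hs], ?_, ?_⟩
      · rw [happ]; simp [h1, h1', Pi.single_neg] <;> abel
      · rw [happ]; simp [h1, h1', S.opp_opp, S.w_opp, S.w_sq, Pi.single_neg] <;> abel
    by_cases gb : γ = opp α
    · subst gb
      refine ⟨α, s, hs, ?_, ?_⟩
      · rw [happ]; simp [h1, h1', Pi.single_neg] <;> abel
      · rw [happ, S.opp_opp]; simp [h1, h1', S.w_opp, S.w_sq, Pi.single_neg] <;> abel
    have g1 : opp γ ≠ α := fun e => gb (S.opp_eq_iff.1 e)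
    have g2 : opp γ ≠ opp α := fun e => ga (S.opp_inj e)
    refine ⟨γ, 1, one_ne_zero, ?_, ?_⟩
    · rw [happ]; simp [Ne.symm ga, Ne.symm gb, Pi.single_neg] <;> abel
    · rw [happ]; simp [Ne.symm g1, Ne.symm g2, S.w_sq, Pi.single_neg] <;> abel
  · have hb' : α ≠ opp β := fun e => hb (by rw [e, S.opp_opp])
    have h3 : opp α ≠ opp β := fun e => h (S.opp_inj e)
    have h3' := h3.symm
    have hb1 := Ne.symm hb
    have hb1' := hb'.symm
    have happ := fun v => (S.n_apply h hs v).trans (if_neg hb)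
    have e1 : ∀ v : F, -w α * -w β * v = w α * w β * v := fun v => by ring
    by_cases ga : γ = α
    · subst ga
      refine ⟨β, -s⁻¹, by simp [hs], ?_, ?_⟩
      · rw [happ]; simp [h, h', hb, hb1, hb', hb1', h1, h1', h2, h2', h3, h3', Pi.single_neg] <;> abel
      · rw [happ]; simp [h, h', hb, hb1, hb', hb1', h1, h1', h2, h2', h3, h3', Pi.single_neg] <;> abel
    by_cases gb : γ = β
    · subst gb
      refine ⟨α, s, hs, ?_, ?_⟩
      · rw [happ]; simp [h, h', hb, hb1, hb', hb1', h1, h1', h2, h2', h3, h3', Pi.single_neg] <;> abel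
      · rw [happ]; simp [h, h', hb, hb1, hb', hb1', h1, h1', h2, h2', h3, h3', mul_comm (w γ) (w α), Pi.single_neg] <;> abel
    by_cases gc : γ = opp α
    · subst gc
      refine ⟨opp β, -(w α * w β) * s, by simp [hs, S.w_ne], ?_, ?_⟩
      · rw [happ]; simp [h, h', hb, hb1, hb', hb1', h1, h1', h2, h2', h3, h3', Pi.single_neg] <;> abel
      · have e : -w α * -w β * (-(w α * w β) * s)⁻¹ = -s⁻¹ := by
          rw [mul_inv, inv_neg]
          field_simp [S.w_ne]
        rw [happ, S.opp_opp, S.opp_opp, S.w_opp, S.w_opp, e]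
        simp [h, h', hb, hb1, hb', hb1', h1, h1', h2, h2', h3, h3', Pi.single_neg] <;> abel
    by_cases gd : γ = opp β
    · subst gd
      refine ⟨opp α, w α * w β * s⁻¹, by simp [hs, S.w_ne], ?_, ?_⟩
      · rw [happ]; simp [h, h', hb, hb1, hb', hb1', h1, h1', h2, h2', h3, h3', Pi.single_neg] <;> abel
      · have e : -w β * -w α * (w α * w β * s⁻¹)⁻¹ = s := by
          rw [mul_inv, inv_inv]
          field_simp [S.w_ne]
        rw [happ, S.opp_opp, S.opp_opp, S.w_opp, S.w_opp, e]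
        simp [h, h', hb, hb1, hb', hb1', h1, h1', h2, h2', h3, h3', Pi.single_neg] <;> abel
    have g1 : opp γ ≠ α := fun e => gc (S.opp_eq_iff.1 e)
    have g2 : opp γ ≠ opp α := fun e => ga (S.opp_inj e)
    have g3 : opp γ ≠ β := fun e => gd (S.opp_eq_iff.1 e)
    have g4 : opp γ ≠ opp β := fun e => gb (S.opp_inj e)
    refine ⟨γ, 1, one_ne_zero, ?_, ?_⟩
    · rw [happ]; simp [Ne.symm ga, Ne.symm gb, Ne.symm gc, Ne.symm gd, Pi.single_neg] <;> abel
    · rw [happ]; simp [Ne.symm g1, Ne.symm g2, Ne.symm g3, Ne.symm g4, S.w_sq, Pi.single_neg] <;> abel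

theorem rho_single (g : G) (α : ι) (a : F) : ρ g (Pi.single α a) = a • ρ g (Pi.single α 1) := by
  rw [← map_smul, ← Pi.single_smul', smul_eq_mul, mul_one]

theorem mono_mul {g h : G} (hg : Mono opp w ρ g) (hh : Mono opp w ρ h) : Mono opp w ρ (g * h) := by
  intro α
  obtain ⟨γ, a, ha, e1, e2⟩ := hh α
  obtain ⟨δ, b, hb, f1, f2⟩ := hg γ
  refine ⟨δ, a * b, mul_ne_zero ha hb, ?_, ?_⟩
  · rw [map_mul, Module.End.mul_apply, e1, S.rho_single, f1, ← Pi.single_smul', smul_eq_mul]
  · rw [map_mul, Module.End.mul_apply, e2, S.rho_single, f2, ← Pi.single_smul', smul_eq_mul]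
    congr 1
    have := S.w_sq γ
    field_simp
    linear_combination (w α * w δ) * this

theorem n_inv {α β : ι} (h : α ≠ β) (s : F) : (nE x α β s)⁻¹ = nE x α β (-s) := by
  rw [nE, nE, mul_inv_rev, mul_inv_rev, S.x_inv h, S.x_inv h.symm, inv_neg, neg_neg, mul_assoc]

theorem mono_mem {g : G} (hg : g ∈ monGrp x) : Mono opp w ρ g := by
  induction hg using Subgroup.closure_induction'' with
  | mem y hy => obtain ⟨α, β, s, h, hs, rfl⟩ := hy; exact S.mono_n h hs
  | inv_mem y hy =>
    obtain ⟨α, β, s, h, hs, rfl⟩ := hy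
    rw [S.n_inv h]; exact S.mono_n h (neg_ne_zero.2 hs)
  | one => exact fun α => ⟨α, 1, one_ne_zero, by simp, by simp [S.w_sq]⟩
  | mul p q _ _ hp hq => exact S.mono_mul hp hq

theorem conj_mem {g : G} (hg : g ∈ monGrp x) : ∀ γ δ t, γ ≠ δ → ∃ γ' δ' t', γ' ≠ δ' ∧
    g * x γ δ t * g⁻¹ = x γ' δ' t' := by
  induction hg using Subgroup.closure_induction'' with
  | mem y hy =>
    obtain ⟨α, β, s, h, hs, rfl⟩ := hy
    exact fun γ δ t hγ => S.conjN α β s h hs γ δ t hγ
  | inv_mem y hy =>
    obtain ⟨α, β, s, h, hs, rfl⟩ := hy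
    rw [S.n_inv h]
    exact fun γ δ t hγ => S.conjN α β _ h (neg_ne_zero.2 hs) γ δ t hγ
  | one => exact fun γ δ t hγ => ⟨γ, δ, t, hγ, by simp⟩
  | mul p q _ _ hp hq =>
    intro γ δ t hγ
    obtain ⟨γ', δ', t', h', e⟩ := hq γ δ t hγ
    obtain ⟨γ'', δ'', t'', h'', e'⟩ := hp γ' δ' t' h'
    exact ⟨γ'', δ'', t'', h'', by rw [← e', ← e]; group⟩

/-- Weyl elements moving one basis vector to a given multiple of another. -/
theorem exists_mon {I : Finset ι} (hI : Closed opp I) {o α : ι} (ho : o ∈ I) (hα : α ∈ I) {a : F}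
    (ha : a ≠ 0) : ∃ g ∈ monI x I, ρ g (Pi.single o 1) = Pi.single α a := by
  have step : ∀ p q : ι, p ≠ q → ∀ b : F, b ≠ 0 →
      ρ (nE x p q (-b⁻¹)) (Pi.single p 1) = Pi.single q b := by
    intro p q hpq b hb
    rw [S.n_apply hpq (neg_ne_zero.2 (inv_ne_zero hb))]
    have h1 := S.opp_ne p
    have h2 := S.opp_ne q
    split_ifs with hq
    · subst hq
      funext z
      by_cases z1 : z = p <;> by_cases z2 : z = opp p <;> simp_all [inv_neg, inv_inv]
    · have hq' : p ≠ opp q := fun e => hq (by rw [e, S.opp_opp])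
      funext z
      by_cases z1 : z = p <;> by_cases z2 : z = q <;> by_cases z3 : z = opp p <;>
          by_cases z4 : z = opp q <;> simp_all [inv_neg, inv_inv]
  by_cases h : o = α
  · subst h
    refine ⟨nE x (opp o) o (-a⁻¹) * nE x o (opp o) (-(1 : F)⁻¹), mul_mem
      (Subgroup.subset_closure ⟨opp o, o, _, S.opp_ne o, by simp [ha], hI o ho, ho, rfl⟩)
      (Subgroup.subset_closure ⟨o, opp o, _, (S.opp_ne o).symm, by simp, ho, hI o ho, rfl⟩), ?_⟩
    rw [map_mul, Module.End.mul_apply, step o (opp o) (S.opp_ne o).symm 1 one_ne_zero,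
      step (opp o) o (S.opp_ne o) a ha]
  · exact ⟨nE x o α (-a⁻¹), Subgroup.subset_closure ⟨o, α, _, h, by simp [ha], ho, hα, rfl⟩,
      step o α h a ha⟩

/-- A monomial element fixing everything outside `I` is a Weyl element supported in `I`. -/
theorem mem_monI [Fintype ι] : ∀ (k : ℕ) (I : Finset ι), I.card = k → Closed opp I → ∀ g ∈ monGrp x,
    (∀ γ, γ ∉ I → ρ g (Pi.single γ 1) = Pi.single γ 1) → g ∈ monI x I := by
  intro k
  induction k using Nat.strong_induction_on with
  | _ k ih =>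
  intro I hk hI g hg hfix
  rcases I.eq_empty_or_nonempty with rfl | ⟨o, ho⟩
  · have : g = 1 := by
      refine S.injN g hg (LinearMap.pi_ext fun γ a => ?_)
      rw [S.rho_single, hfix γ (Finset.notMem_empty γ), ← Pi.single_smul', smul_eq_mul, mul_one]
      rfl
    rw [this]; exact one_mem _
  obtain ⟨γ, a, ha, e1, e2⟩ := S.mono_mem hg o
  have hγ : γ ∈ I := by
    by_contra hγ
    have e : ρ g (Pi.single o 1) = ρ g (Pi.single γ a) := by
      rw [e1, S.rho_single g γ, hfix γ hγ, ← Pi.single_smul', smul_eq_mul, mul_one]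
    have e' := congrArg (ρ g⁻¹) e
    rw [S.rho_cancel', S.rho_cancel'] at e'
    have := congrFun e' o
    have hne : o ≠ γ := fun e => hγ (e ▸ ho)
    simp [hne] at this
  obtain ⟨g0, hg0, hg0e⟩ := S.exists_mon hI ho hγ ha
  have hh : g0⁻¹ * g ∈ monGrp x := mul_mem (inv_mem (S.monI_le_monGrp I hg0)) hg
  have hfo : ρ (g0⁻¹ * g) (Pi.single o 1) = Pi.single o 1 := by
    rw [map_mul, Module.End.mul_apply, e1, ← hg0e, S.rho_cancel']
  have hfo' : ρ (g0⁻¹ * g) (Pi.single (opp o) 1) = Pi.single (opp o) 1 := by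
    obtain ⟨γ', a', -, f1, f2⟩ := S.mono_mem hh o
    rw [hfo] at f1
    have hγ' : γ' = o := by
      by_contra hne
      have := congrFun f1 o
      simp [Ne.symm hne] at this
    subst hγ'
    have ha' : a' = 1 := by
      have := congrFun f1 γ'
      simpa using this.symm
    rw [f2, ha', inv_one, mul_one, S.w_sq]
  set I' := (I.erase o).erase (opp o) with hI'
  have hI'c : Closed opp I' := by
    intro α hα
    simp only [hI', Finset.mem_erase] at hα ⊢
    refine ⟨fun e => hα.2.1 (S.opp_inj e), fun e => hα.1 ?_, hI α hα.2.2⟩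
    exact S.opp_eq_iff.1 e
  have hlt : I'.card < k := by
    rw [← hk]
    exact (Finset.card_le_card (Finset.erase_subset _ _)).trans_lt (Finset.card_erase_lt_of_mem ho)
  have := ih _ hlt I' rfl hI'c _ hh (fun δ hδ => by
    by_cases h1 : δ = o
    · rw [h1]; exact hfo
    by_cases h2 : δ = opp o
    · rw [h2]; exact hfo'
    have hδI : δ ∉ I := fun e => hδ (by simp [hI', h1, h2, e])
    rw [map_mul, Module.End.mul_apply, hfix δ hδI,
      S.fix_out hI (inv_mem (S.monI_le_grpI I hg0)) δ hδI])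
  have hmono : monI x I' ≤ monI x I := Subgroup.closure_mono
    fun _ ⟨α, β, s, h, hs, hα, hβ, e⟩ =>
      ⟨α, β, s, h, hs, Finset.mem_of_mem_erase (Finset.mem_of_mem_erase hα),
        Finset.mem_of_mem_erase (Finset.mem_of_mem_erase hβ), e⟩
  simpa using mul_mem hg0 (hmono this)

/-! ### The column groups -/

/-- Column elements conjugate each other modulo the long root. -/
theorem col_conj {J : Finset ι} {α β β' : ι} (hJ : opp α ∈ J) (h : β ≠ α) (h' : β' ≠ α)
    (hβ' : β' ∈ J) (t u : F) : x β α t * x β' α u * (x β α t)⁻¹ ∈ colI x J α := by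
  have ho := S.opp_ne α
  by_cases hb : β' = opp β
  · by_cases hl : β' = opp α
    · exact absurd (S.opp_inj (hl.symm.trans hb)).symm h
    have hl' : α ≠ opp β' := fun e => hl (by rw [e, S.opp_opp])
    obtain ⟨u', hu'⟩ := S.sym β' α h' hl' u
    have hβo : opp α ≠ β := fun e => h' (by rw [hb, ← e, S.opp_opp])
    have hb2 : opp β' = β := by rw [hb, S.opp_opp]
    rw [hb2] at hu'
    obtain ⟨a, b, d, -, -, e⟩ := S.comp (opp α) β α hβo h ho u' t
    rw [S.opp_opp] at e
    have key : x β α t * x (opp α) β u' * (x β α t)⁻¹ =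
        (x (opp α) α a * x (opp α) α b * x (opp α) α d)⁻¹ * x (opp α) β u' := by
      calc x β α t * x (opp α) β u' * (x β α t)⁻¹
          = (x (opp α) α a * x (opp α) α b * x (opp α) α d)⁻¹ *
            (x (opp α) α a * x (opp α) α b * x (opp α) α d * (x β α t * x (opp α) β u')) *
            (x β α t)⁻¹ := by group
        _ = _ := by rw [← e]; group
    rw [hu', key, ← hu']
    exact mul_mem (inv_mem (mul_mem (mul_mem (x_mem_col ho hJ a) (x_mem_col ho hJ b))
      (x_mem_col ho hJ d))) (x_mem_col h' hβ' u)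
  · have hc : Commute (x β α t) (x β' α u) :=
      S.comm β α β' α h h' h'.symm h.symm (fun e => ho e.symm) (fun e => hb (by rw [e, S.opp_opp])) t u
    rw [hc.eq, mul_inv_cancel_right]
    exact x_mem_col h' hβ' u

omit S in
theorem conj_closure_mem {s : Set G} {H : Subgroup G} {g : G} (h : ∀ y ∈ s, g * y * g⁻¹ ∈ H) {a : G}
    (ha : a ∈ Subgroup.closure s) : g * a * g⁻¹ ∈ H := by
  induction ha using Subgroup.closure_induction with
  | mem y hy => exact h y hy
  | one => simpa using H.one_mem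
  | mul a b _ _ iha ihb => rw [← conj_mul]; exact mul_mem iha ihb
  | inv a _ iha => rw [← conj_inv]; exact inv_mem iha

/-- The column group is small. -/
theorem card_col [Fintype F] (α : ι) (J : Finset ι) :
    Finite (colI x (insert (opp α) (J.erase α)) α) ∧
      Nat.card (colI x (insert (opp α) (J.erase α)) α) ≤
        Fintype.card F ^ (insert (opp α) (J.erase α)).card := by
  classical
  have ho := S.opp_ne α
  let φ : ∀ β, β ≠ α → Multiplicative F →* G := fun β h => MonoidHom.mk'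
    (fun t => x β α (Multiplicative.toAdd t)) fun t u => (S.add β α h _ _).symm
  have hrange : ∀ β (h : β ≠ α), Finite (φ β h).range ∧ Nat.card (φ β h).range ≤ Fintype.card F := by
    intro β h
    refine ⟨Finite.of_surjective _ (φ β h).rangeRestrict_surjective, ?_⟩
    refine (Nat.card_le_card_of_surjective _ (φ β h).rangeRestrict_surjective).trans (le_of_eq ?_)
    rw [Nat.card_congr Multiplicative.toAdd, Nat.card_eq_fintype_card]
  suffices key : ∀ K : Finset ι, opp α ∉ K → α ∉ K →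
      Finite (colI x (insert (opp α) K) α) ∧
        Nat.card (colI x (insert (opp α) K) α) ≤ Fintype.card F ^ (K.card + 1) by
    obtain ⟨K, hK, hK1, hK2⟩ : ∃ K, insert (opp α) (J.erase α) = insert (opp α) K ∧ opp α ∉ K ∧ α ∉ K :=
      ⟨(J.erase α).erase (opp α), by ext z; simp; tauto, by simp, by simp⟩
    rw [hK, Finset.card_insert_of_notMem hK1]
    exact key K hK1 hK2
  intro K
  induction K using Finset.induction with
  | empty =>
    intro _ _
    have hle : colI x (insert (opp α) ∅) α ≤ (φ (opp α) ho).range := by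
      rw [colI, Subgroup.closure_le]
      rintro _ ⟨β, t, -, hβ, rfl⟩
      simp only [insert_empty_eq, Finset.mem_singleton] at hβ
      subst hβ
      exact ⟨Multiplicative.ofAdd t, rfl⟩
    haveI := (hrange _ ho).1
    refine ⟨Finite.of_injective _ (Subgroup.inclusion_injective hle), ?_⟩
    simpa using (Subgroup.card_le_of_le hle).trans (hrange _ ho).2
  | @insert β K hβK ih =>
    intro h1 h2
    simp only [Finset.mem_insert, not_or] at h1 h2
    obtain ⟨hf, hc⟩ := ih h1.2 h2.2
    have hβα : β ≠ α := fun e => h2.1 e.symm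
    set A := colI x (insert (opp α) K) α with hA
    have hn : (φ β hβα).range ≤ Subgroup.normalizer (A : Set G) := by
      rintro _ ⟨t, rfl⟩
      have key : ∀ t : F, ∀ y ∈ A, x β α t * y * (x β α t)⁻¹ ∈ A := fun t y hy => by
        refine conj_closure_mem ?_ hy
        rintro _ ⟨β', u, hb', hβ', rfl⟩
        exact S.col_conj (Finset.mem_insert_self _ _) hβα hb' hβ' t u
      refine Subgroup.mem_normalizer_iff.2 fun y => ⟨key _ y, fun hy => ?_⟩
      have := key (-(Multiplicative.toAdd t)) _ hy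
      rw [← S.x_inv hβα] at this
      simpa [φ, mul_assoc] using this
    have hsub : (colI x (insert (opp α) (insert β K)) α : Set G) ⊆
        (A : Set G) * ((φ β hβα).range : Set G) := by
      rw [← Subgroup.coe_mul_of_right_le_normalizer_left _ _ hn]
      refine SetLike.coe_subset_coe.2 ((Subgroup.closure_le _).2 ?_)
      rintro _ ⟨β', t, hb', hβ', rfl⟩
      simp only [Finset.mem_insert] at hβ'
      rcases hβ' with h | h | h
      · exact Subgroup.mem_sup_left (x_mem_col hb' (by simp [h]) t)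
      · subst h; exact Subgroup.mem_sup_right ⟨Multiplicative.ofAdd t, rfl⟩
      · exact Subgroup.mem_sup_left (x_mem_col hb' (by simp [h]) t)
    haveI := hf
    haveI := (hrange β hβα).1
    have hfin : ((A : Set G) * ((φ β hβα).range : Set G)).Finite := (Set.toFinite _).mul (Set.toFinite _)
    refine ⟨(hfin.subset hsub).to_subtype, ?_⟩
    refine (Nat.card_mono hfin hsub).trans (Set.natCard_mul_le.trans ?_)
    rw [Finset.card_insert_of_notMem hβK, pow_succ _ (K.card + 1)]
    exact Nat.mul_le_mul hc (hrange β hβα).2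

theorem col_le_grpI {I : Finset ι} {α : ι} (hα : α ∈ I) : colI x I α ≤ grpI x I :=
  Subgroup.closure_mono fun _ ⟨β, t, h, hβ, e⟩ => ⟨β, α, t, h, hβ, hα, e⟩

/-- Root elements avoiding the coordinate `α` normalise its column group. -/
theorem levi_col {I : Finset ι} (hI : Closed opp I) {α γ δ : ι} (hα : α ∈ I) (hγ : γ ∈ I) (hδ : δ ∈ I)
    (hγδ : γ ≠ δ) (g1 : γ ≠ α) (g2 : γ ≠ opp α) (d1 : δ ≠ α) (d2 : δ ≠ opp α) (t : F) {u : G}
    (hu : u ∈ colI x I α) : x γ δ t * u * (x γ δ t)⁻¹ ∈ colI x I α := by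
  have ho := S.opp_ne α
  refine conj_closure_mem ?_ hu
  rintro _ ⟨β, s, hβα, hβ, rfl⟩
  by_cases h1 : δ = β
  · subst h1
    obtain ⟨a, b, d, hb, -, e⟩ := S.comp γ δ α hγδ hβα g1 t s
    obtain rfl := hb (fun e => d2 (by rw [e, S.opp_opp]))
    rw [S.x_zero (S.opp_ne γ).symm, mul_one] at e
    rw [e, ← mul_assoc, mul_inv_cancel_right]
    exact mul_mem (mul_mem (x_mem_col g1 hγ a) (x_mem_col ho (hI α hα) d)) (x_mem_col hβα hδ s)
  by_cases h2 : γ = opp β
  · have hl : α ≠ opp β := fun e => g1 (by rw [e, h2])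
    obtain ⟨s', hs'⟩ := S.sym β α hβα hl s
    rw [← h2] at hs'
    obtain ⟨a, b, d, -, hd, e⟩ := S.comp (opp α) γ δ g2.symm hγδ d2.symm s' t
    obtain rfl := hd (fun e => g1 (by rw [e, S.opp_opp]))
    rw [S.x_zero (S.opp_ne δ), mul_one, S.opp_opp] at e
    have hdl : δ ≠ opp (opp α) := by rw [S.opp_opp]; exact d1
    obtain ⟨a', ha'⟩ := S.sym (opp α) δ d2.symm hdl a
    rw [S.opp_opp] at ha'
    have key : x γ δ t * x β α s * (x γ δ t)⁻¹ =
        (x (opp α) δ a * x (opp α) α b)⁻¹ * x β α s := by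
      rw [hs']
      calc x γ δ t * x (opp α) γ s' * (x γ δ t)⁻¹
          = (x (opp α) δ a * x (opp α) α b)⁻¹ *
            (x (opp α) δ a * x (opp α) α b * (x γ δ t * x (opp α) γ s')) * (x γ δ t)⁻¹ := by group
        _ = _ := by rw [← e]; group
    rw [key, ha']
    exact mul_mem (inv_mem (mul_mem (x_mem_col (fun e => d2 (S.opp_eq_iff.1 e)) (hI δ hδ) a')
      (x_mem_col ho (hI α hα) b))) (x_mem_col hβα hβ s)
  have hc : Commute (x γ δ t) (x β α s) :=
    S.comm γ δ β α hγδ hβα h1 g1.symm d2 h2 t s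
  rw [hc.eq, mul_inv_cancel_right]
  exact x_mem_col hβα hβ s

end Sys

end CfsgLib.SpBound
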