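import Cfsg.Agent.Lib.BoundedPres.SpBasic
import Mathlib.Algebra.Group.Pointwise.Set.Card

/-!
A group with root elements of type C is no larger than the symplectic group: charts for the cosets of
the stabiliser of a basis vector.
-/

set_option autoImplicit false

namespace CfsgLib.SpBound

open Pointwise

variable {ι F G : Type*} [DecidableEq ι] [Fintype ι] [Field F] [Fintype F] [Group G]

/-- The order of the symplectic group of rank `k` over a field with `q` elements. -/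
def spOrder (q : ℕ) : ℕ → ℕ
  | 0 => 1
  | k + 1 => (q ^ (2 * (k + 1)) - 1) * (q ^ (2 * k + 1) * spOrder q k)

omit [Fintype F] in
theorem supp_single {I : Finset ι} {α : ι} (hα : α ∈ I) (a : F) :
    Supp I (Pi.single α a : ι → F) := fun γ hγ => by
  have : γ ≠ α := fun e => hγ (e ▸ hα)
  simp [this]

/-- The vectors supported in `I` with prescribed coordinate `α`, as functions. -/
def sliceEquiv (I : Finset ι) (α : ι) (hα : α ∈ I) (a : F) :
    {v : ι → F // Supp I v ∧ v α = a} ≃ (↥(I.erase α) → F) where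
  toFun v i := v.1 i
  invFun f := ⟨fun i => if i = α then a else if h : i ∈ I.erase α then f ⟨i, h⟩ else 0,
    fun i hi => by
      have h1 : i ≠ α := fun e => hi (e ▸ hα)
      simp [h1, hi], by simp⟩
  left_inv v := Subtype.ext <| funext fun i => by
    by_cases h1 : i = α
    · simp [h1, v.2.2]
    by_cases h2 : i ∈ I
    · simp [h1, h2]
    · simp [h1, h2, v.2.1 i h2]
  right_inv f := funext fun i => by
    have h := Finset.ne_of_mem_erase i.2
    have h' := Finset.mem_of_mem_erase i.2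
    simp [h, h']

theorem card_nonzero (I : Finset ι) :
    Nat.card {v : ι → F // Supp I v ∧ v ≠ 0} = Fintype.card F ^ I.card - 1 := by
  classical
  have e : {v : ι → F // Supp I v} ≃ (↥I → F) :=
    { toFun := fun v i => v.1 i
      invFun := fun f => ⟨fun i => if h : i ∈ I then f ⟨i, h⟩ else 0, fun i hi => by simp [hi]⟩
      left_inv := fun v => Subtype.ext <| funext fun i => by
        by_cases h : i ∈ I <;> simp [h, v.2 i]
      right_inv := fun f => funext fun i => by simp [i.2] }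
  have h0 : Supp I (0 : ι → F) := fun _ _ => rfl
  let e' : {v : ι → F // Supp I v ∧ v ≠ 0} ≃ {v : {v : ι → F // Supp I v} // v ≠ ⟨0, h0⟩} :=
    { toFun := fun v => ⟨⟨v.1, v.2.1⟩, fun h => v.2.2 (congrArg Subtype.val h)⟩
      invFun := fun v => ⟨v.1.1, v.1.2, fun h => v.2 (Subtype.ext h)⟩
      left_inv := fun _ => rfl
      right_inv := fun _ => rfl }
  rw [Nat.card_congr e', Nat.card_eq_fintype_card, Fintype.card_subtype_compl, Fintype.card_subtype_eq,
    Fintype.card_congr e, Fintype.card_fun, Fintype.card_coe]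

/-- A point of the orbit in the chart of `α`. -/
def InChart (opp : ι → ι) (ρ : G →* Module.End F (ι → F)) (x : ι → ι → F → G) (I : Finset ι) (o α : ι) (v : ι → F) (q : G ⧸ fixI opp x I o) : Prop :=
  ∃ u ∈ colI x I α, ∃ k ∈ monI x I, ρ k (Pi.single o 1) = Pi.single α (v α) ∧
    ρ u (Pi.single α (v α)) = v ∧ q = ((u * k : G) : G ⧸ fixI opp x I o)

/-- The charts agree at `v`. -/
def Agree (opp : ι → ι) (ρ : G →* Module.End F (ι → F)) (x : ι → ι → F → G) (I : Finset ι) (o α β : ι) (v : ι → F) : Prop :=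
  ∀ q q' : G ⧸ fixI opp x I o, InChart opp ρ x I o α v q → InChart opp ρ x I o β v q' → q = q'

/-- The orbit relation. -/
def Pt (opp : ι → ι) (ρ : G →* Module.End F (ι → F)) (x : ι → ι → F → G) (I : Finset ι) (o : ι) (v : ι → F) (q : G ⧸ fixI opp x I o) : Prop :=
  ∃ α ∈ I, v α ≠ 0 ∧ InChart opp ρ x I o α v q

namespace Sys

variable {opp : ι → ι} {w : ι → F} {ρ : G →* Module.End F (ι → F)} {x : ι → ι → F → G}
  (S : Sys opp w ρ x)
include S

section Fixed

variable {I : Finset ι} (hI : Closed opp I)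
include hI

omit [Fintype ι] [Fintype F] in
theorem grp_supp {g : G} (hg : g ∈ grpI x I) : ∀ v : ι → F, Supp I v → Supp I (ρ g v) := by
  induction hg using Subgroup.closure_induction'' with
  | mem y hy =>
    obtain ⟨α, β, t, h, ha, hb, rfl⟩ := hy
    intro v hv γ hγ
    rw [S.proj_apply h t v (fun (e : γ = α) => hγ (e ▸ ha)) (fun (e : γ = opp β) => hγ (e ▸ hI β hb))]
    exact hv γ hγ
  | inv_mem y hy =>
    obtain ⟨α, β, t, h, ha, hb, rfl⟩ := hy
    rw [S.x_inv h]
    intro v hv γ hγ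
    rw [S.proj_apply h _ v (fun (e : γ = α) => hγ (e ▸ ha)) (fun (e : γ = opp β) => hγ (e ▸ hI β hb))]
    exact hv γ hγ
  | one => intro v hv; simpa using hv
  | mul p q _ _ hp hq => intro v hv; rw [map_mul, Module.End.mul_apply]; exact hp _ (hq v hv)

omit [Fintype ι] [Fintype F] hI in
theorem col_fix_coord {α : ι} {u : G} (hu : u ∈ colI x I α) : ∀ v : ι → F, ρ u v α = v α := by
  induction hu using Subgroup.closure_induction'' with
  | mem y hy =>
    obtain ⟨β, t, h, -, rfl⟩ := hy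
    exact fun v => S.proj_apply h t v h.symm (S.opp_ne α).symm
  | inv_mem y hy =>
    obtain ⟨β, t, h, -, rfl⟩ := hy
    rw [S.x_inv h]
    exact fun v => S.proj_apply h _ v h.symm (S.opp_ne α).symm
  | one => intro v; simp
  | mul p q _ _ hp hq => intro v; rw [map_mul, Module.End.mul_apply, hp, hq]

omit [Fintype ι] [Fintype F] in
theorem col_reach_aux {α : ι} (hα : α ∈ I) {a : F} (ha : a ≠ 0) :
    ∀ J : Finset ι, J ⊆ I → α ∉ J → opp α ∉ J → ∀ v : ι → F, v α = a →
      (∀ i, i ≠ α → i ≠ opp α → i ∉ J → v i = 0) →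
      ∃ u ∈ colI x I α, ρ u v = Pi.single α a := by
  have ho := S.opp_ne α
  intro J
  induction J using Finset.induction with
  | empty =>
    intro _ _ _ v hv hz
    refine ⟨x (opp α) α (-(v (opp α) / a)), x_mem_col ho (hI α hα) _, ?_⟩
    rw [S.proj (opp α) α ho, if_pos (S.opp_opp α).symm, add_zero, hv]
    funext i
    by_cases h1 : i = α
    · subst h1; simp [ho.symm, hv]
    by_cases h2 : i = opp α
    · subst h2; simp [ho, div_mul_cancel₀ _ ha]
    simp [h1, h2, hz i h1 h2 (Finset.notMem_empty i)]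
  | @insert γ J hγJ ih =>
    intro hJI hαJ hoJ v hv hz
    simp only [Finset.mem_insert, not_or] at hαJ hoJ
    have hγα : γ ≠ α := Ne.symm hαJ.1
    have hγo : γ ≠ opp α := Ne.symm hoJ.1
    have hl : α ≠ opp γ := fun e => hγo (by rw [e, S.opp_opp])
    set t := -(v γ / a) with ht
    have hproj : ρ (x γ α t) v = v + Pi.single γ (t * v α) +
        Pi.single (opp α) (-(w γ * w α) * t * v (opp γ)) := by
      rw [S.proj γ α hγα, if_neg hl]
    obtain ⟨u, hu, e⟩ := ih (fun z hz => hJI (Finset.mem_insert_of_mem hz)) hαJ.2 hoJ.2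
      (ρ (x γ α t) v) (by rw [hproj]; simp [hγα.symm, ho.symm, hv]) (fun i h1 h2 h3 => by
        rw [hproj]
        by_cases h4 : i = γ
        · subst h4; simp [h2, hv, ht, div_mul_cancel₀ _ ha]
        · simp [h4, h2, hz i h1 h2 (by simp [h4, h3])])
    refine ⟨u * x γ α t, mul_mem hu (x_mem_col hγα (hJI (Finset.mem_insert_self γ J)) t), ?_⟩
    rw [map_mul, Module.End.mul_apply, e]

omit [Fintype ι] [Fintype F] in
theorem col_reach {α : ι} (hα : α ∈ I) {v : ι → F} (hv : Supp I v) (hvα : v α ≠ 0) :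
    ∃ u ∈ colI x I α, ρ u (Pi.single α (v α)) = v := by
  obtain ⟨u, hu, e⟩ := S.col_reach_aux hI hα hvα ((I.erase α).erase (opp α))
    (fun z hz => Finset.mem_of_mem_erase (Finset.mem_of_mem_erase hz)) (by simp) (by simp) v rfl
    (fun i h1 h2 h3 => hv i (fun h => h3 (by simp [h1, h2, h])))
  refine ⟨u⁻¹, inv_mem hu, ?_⟩
  rw [← e, S.rho_cancel']

theorem card_colI {α : ι} (hα : α ∈ I) :
    Finite (colI x I α) ∧ Nat.card (colI x I α) ≤ Fintype.card F ^ (I.card - 1) := by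
  have h := S.card_col α I
  have hins : insert (opp α) (I.erase α) = I.erase α :=
    Finset.insert_eq_of_mem (Finset.mem_erase.2 ⟨S.opp_ne α, hI α hα⟩)
  rw [hins, Finset.card_erase_of_mem hα] at h
  have he : colI x (I.erase α) α = colI x I α :=
    le_antisymm (col_mono (Finset.erase_subset _ _) α) ((Subgroup.closure_le _).2 (by
      rintro _ ⟨β, t, hb, hβ, rfl⟩
      exact x_mem_col hb (Finset.mem_erase.2 ⟨hb, hβ⟩) t))
  rwa [he] at h

theorem col_unique {α : ι} (hα : α ∈ I) {a : F} (ha : a ≠ 0) {u u' : G} (hu : u ∈ colI x I α)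
    (hu' : u' ∈ colI x I α) (he : ρ u (Pi.single α a) = ρ u' (Pi.single α a)) : u = u' := by
  classical
  obtain ⟨hfin, hcard⟩ := S.card_colI hI hα
  haveI := hfin
  let φ : colI x I α → {v : ι → F // Supp I v ∧ v α = a} := fun g =>
    ⟨ρ (g : G) (Pi.single α a), S.grp_supp hI (S.col_le_grpI hα g.2) _ (supp_single hα a),
      by rw [S.col_fix_coord g.2]; simp⟩
  have hsurj : Function.Surjective φ := fun ⟨v, hv, hva⟩ => by
    obtain ⟨g, hg, e⟩ := S.col_reach hI hα hv (by rw [hva]; exact ha)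
    rw [hva] at e
    exact ⟨⟨g, hg⟩, Subtype.ext e⟩
  have hc : Nat.card {v : ι → F // Supp I v ∧ v α = a} = Fintype.card F ^ (I.card - 1) := by
    rw [Nat.card_congr (sliceEquiv I α hα a), Nat.card_eq_fintype_card, Fintype.card_fun,
      Fintype.card_coe, Finset.card_erase_of_mem hα]
  have hbij := (Nat.bijective_iff_surjective_and_card φ).2
    ⟨hsurj, le_antisymm (hc ▸ hcard) (Nat.card_le_card_of_surjective φ hsurj)⟩
  exact congrArg Subtype.val (@hbij.1 ⟨u, hu⟩ ⟨u', hu'⟩ (Subtype.ext he))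

omit [Fintype ι] [Fintype F] in
theorem x_mem_fix {o γ δ : ι} (ho : o ∈ I) (h : γ ≠ δ) (t : F)
    (hfix : ρ (x γ δ t) (Pi.single o 1) = Pi.single o 1)
    (hout : ∀ μ, μ ∉ I → ρ (x γ δ t) (Pi.single μ 1) = Pi.single μ 1) : x γ δ t ∈ fixI opp x I o := by
  by_cases ht : t = 0
  · subst ht; rw [S.x_zero h]; exact one_mem _
  have h1 : ∀ μ, μ = δ → ρ (x γ δ t) (Pi.single μ 1) ≠ Pi.single μ 1 := by
    rintro μ rfl e
    rw [S.proj_col h] at e
    have := congrFun e γ
    simp [h, ht] at this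
  have h2 : ∀ μ, μ = opp γ → ρ (x γ δ t) (Pi.single μ 1) ≠ Pi.single μ 1 := by
    rintro μ rfl e
    by_cases hl : δ = opp γ
    · exact h1 _ hl.symm e
    rw [S.proj γ δ h, if_neg hl] at e
    have := congrFun e (opp δ)
    have hne : opp δ ≠ opp γ := fun q => h (S.opp_inj q).symm
    have hne' : opp δ ≠ γ := fun q => hl (by rw [← q, S.opp_opp])
    simp [hne, hne', hne.symm, S.w_ne, ht, Ne.symm hl] at this
  have hδ : δ ∈ I := by_contra fun hδ => h1 δ rfl (hout δ hδ)
  have hγ : γ ∈ I := by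
    by_contra hγ
    exact h2 _ rfl (hout _ fun q => hγ (by simpa [S.opp_opp] using hI _ q))
  refine Subgroup.subset_closure ⟨γ, δ, t, h, hγ, hδ, fun e => h1 o e.symm hfix, fun e => h2 o ?_ hfix, rfl⟩
  rw [e, S.opp_opp]

omit [Fintype F] in
theorem mon_stab_mem_fix {o : ι} (ho : o ∈ I) {g : G} (hg : g ∈ monI x I)
    (hfix : ρ g (Pi.single o 1) = Pi.single o 1) : g ∈ fixI opp x I o := by
  have hgN := S.monI_le_monGrp I hg
  obtain ⟨γ, a, -, e1, e2⟩ := S.mono_mem hgN o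
  rw [hfix] at e1
  have hγ : γ = o := by
    by_contra hne
    have := congrFun e1 o
    simp [Ne.symm hne] at this
  subst hγ
  have ha : a = 1 := by
    have := congrFun e1 γ
    simpa using this.symm
  rw [ha, inv_one, mul_one, S.w_sq] at e2
  set I' := (I.erase γ).erase (opp γ) with hI'
  have hI'c : Closed opp I' := by
    intro α hα
    simp only [hI', Finset.mem_erase] at hα ⊢
    exact ⟨fun e => hα.2.1 (S.opp_inj e), fun e => hα.1 (S.opp_eq_iff.1 e), hI α hα.2.2⟩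
  have := S.mem_monI _ I' rfl hI'c g hgN fun δ hδ => by
    by_cases h1 : δ = γ
    · rw [h1]; exact hfix
    by_cases h2 : δ = opp γ
    · rw [h2]; exact e2
    exact S.fix_out hI (S.monI_le_grpI I hg) δ (fun e => hδ (by simp [hI', h1, h2, e])) 1
  have hle : grpI x I' ≤ fixI opp x I γ := by
    rw [grpI, Subgroup.closure_le]
    rintro _ ⟨α, β, t, h, hα, hβ, rfl⟩
    simp only [hI', Finset.mem_erase] at hα hβ
    exact Subgroup.subset_closure ⟨α, β, t, h, hα.2.2, hβ.2.2, hβ.2.1, hα.1, rfl⟩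
  exact hle (S.monI_le_grpI I' this)

omit [Fintype F] in
theorem mon_coset {o : ι} (ho : o ∈ I) {g g' : G} (hg : g ∈ monI x I) (hg' : g' ∈ monI x I)
    (he : ρ g (Pi.single o 1) = ρ g' (Pi.single o 1)) :
    (g : G ⧸ fixI opp x I o) = (g' : G ⧸ fixI opp x I o) := by
  rw [QuotientGroup.eq]
  refine S.mon_stab_mem_fix hI ho (mul_mem (inv_mem hg) hg') ?_
  rw [map_mul, Module.End.mul_apply, ← he, S.rho_cancel']

omit [Fintype ι] [Fintype F] in
theorem x_mul_mon {o α γ δ : ι} {a : F} (ho : o ∈ I) (hγ : γ ∈ I) (hδ : δ ∈ I) (h : γ ≠ δ)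
    (hd : δ ≠ α) (hg : γ ≠ opp α) (t : F) {k : G} (hk : k ∈ monI x I)
    (hke : ρ k (Pi.single o 1) = Pi.single α a) :
    ((x γ δ t * k : G) : G ⧸ fixI opp x I o) = (k : G ⧸ fixI opp x I o) := by
  rw [eq_comm, QuotientGroup.eq]
  obtain ⟨γ', δ', t', h', e⟩ := S.conj_mem (inv_mem (S.monI_le_monGrp I hk)) γ δ t h
  rw [inv_inv] at e
  have e' : k⁻¹ * (x γ δ t * k) = x γ' δ' t' := by rw [← mul_assoc]; exact e
  rw [e']
  have hfix : ρ (x γ δ t) (Pi.single α a) = Pi.single α a :=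
    S.proj_single h t hd.symm (fun e => hg (by rw [e, S.opp_opp])) a
  refine S.x_mem_fix hI ho h' t' ?_ fun μ hμ => ?_
  · rw [← e', map_mul, map_mul, Module.End.mul_apply, Module.End.mul_apply, hke, hfix, ← hke,
      S.rho_cancel']
  · have hkm := S.monI_le_grpI I hk
    rw [← e', map_mul, map_mul, Module.End.mul_apply, Module.End.mul_apply, S.fix_out hI hkm μ hμ,
      S.fix_out hI (Subgroup.subset_closure ⟨γ, δ, t, h, hγ, hδ, rfl⟩) μ hμ,
      S.fix_out hI (inv_mem hkm) μ hμ]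

omit [Fintype F] [Fintype ι] in
theorem chart_exists {o α : ι} (ho : o ∈ I) (hα : α ∈ I) {v : ι → F} (hv : Supp I v) (hvα : v α ≠ 0) :
    ∃ q, InChart opp ρ x I o α v q := by
  obtain ⟨u, hu, e⟩ := S.col_reach hI hα hv hvα
  obtain ⟨k, hk, hke⟩ := S.exists_mon hI ho hα hvα
  exact ⟨_, u, hu, k, hk, hke, e, rfl⟩

theorem chart_unique {o α : ι} (ho : o ∈ I) (hα : α ∈ I) {v : ι → F} (hvα : v α ≠ 0)
    {q q' : G ⧸ fixI opp x I o} (hq : InChart opp ρ x I o α v q) (hq' : InChart opp ρ x I o α v q') : q = q' := by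
  obtain ⟨u, hu, k, hk, hke, hue, rfl⟩ := hq
  obtain ⟨u', hu', k', hk', hke', hue', rfl⟩ := hq'
  obtain rfl := S.col_unique hI hα hvα hu hu' (hue.trans hue'.symm)
  rw [QuotientGroup.eq, show (u * k)⁻¹ * (u * k') = k⁻¹ * k' by group, ← QuotientGroup.eq]
  exact S.mon_coset hI ho hk hk' (hke.trans hke'.symm)

omit [Fintype ι] [Fintype F] in
/-- A root element keeping the coordinate `α` moves a chart to itself. -/
theorem chart_equiv {o α γ δ : ι} (ho : o ∈ I) (hα : α ∈ I) (hγ : γ ∈ I) (hδ : δ ∈ I) (h : γ ≠ δ)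
    (hg : γ ≠ α) (hd : δ ≠ opp α) (t : F) {v : ι → F} {q : G ⧸ fixI opp x I o}
    (hq : InChart opp ρ x I o α v q) : InChart opp ρ x I o α (ρ (x γ δ t) v) (x γ δ t • q) := by
  obtain ⟨u, hu, k, hk, hke, hue, rfl⟩ := hq
  have hco : ρ (x γ δ t) v α = v α :=
    S.proj_apply h t v hg.symm (fun e => hd (by rw [e, S.opp_opp]))
  have ecol : ∀ z ∈ colI x I α, InChart opp ρ x I o α (ρ z v) (z • ((u * k : G) : G ⧸ fixI opp x I o)) := by
    intro z hz
    refine ⟨z * u, mul_mem hz hu, k, hk, ?_, ?_, ?_⟩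
    · rw [S.col_fix_coord hz]; exact hke
    · rw [S.col_fix_coord hz, map_mul, Module.End.mul_apply, hue]
    · rw [MulAction.Quotient.smul_coe, smul_eq_mul, mul_assoc]
  by_cases h1 : δ = α
  · exact ecol _ (h1 ▸ x_mem_col (h1 ▸ h) hγ t)
  by_cases h2 : γ = opp α
  · have hl : δ ≠ opp γ := by rw [h2, S.opp_opp]; exact h1
    obtain ⟨t', ht'⟩ := S.sym γ δ h hl t
    rw [h2, S.opp_opp] at ht'
    refine h2 ▸ ecol _ ?_
    rw [ht']
    exact x_mem_col (fun e => hd (S.opp_eq_iff.1 e)) (hI δ hδ) t'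
  refine ⟨x γ δ t * u * (x γ δ t)⁻¹, S.levi_col hI hα hγ hδ h hg h2 h1 hd t hu, k, hk, ?_, ?_, ?_⟩
  · rw [hco]; exact hke
  · rw [hco, map_mul, map_mul, Module.End.mul_apply, Module.End.mul_apply]
    have hfix : ρ (x γ δ t) (Pi.single α (v α)) = Pi.single α (v α) :=
      S.proj_single h t (Ne.symm h1) (fun e => h2 (by rw [e, S.opp_opp])) _
    conv_lhs => rw [← hfix, S.rho_cancel', hue]
  · rw [MulAction.Quotient.smul_coe, smul_eq_mul,
      show x γ δ t * (u * k) = x γ δ t * u * (x γ δ t)⁻¹ * (x γ δ t * k) by group,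
      ← smul_eq_mul (x γ δ t * u * (x γ δ t)⁻¹), ← MulAction.Quotient.smul_coe,
      S.x_mul_mon hI ho hγ hδ h h1 h2 t hk hke, MulAction.Quotient.smul_coe, smul_eq_mul]

omit [Fintype ι] [Fintype F] in
theorem agree_back {o α β γ δ : ι} (ho : o ∈ I) (hα : α ∈ I) (hβ : β ∈ I) (hγ : γ ∈ I) (hδ : δ ∈ I)
    (h : γ ≠ δ) (g1 : γ ≠ α) (d1 : δ ≠ opp α) (g2 : γ ≠ β) (d2 : δ ≠ opp β) (t : F) {v : ι → F}
    (hA : Agree opp ρ x I o α β (ρ (x γ δ t) v)) : Agree opp ρ x I o α β v := by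
  intro q q' hq hq'
  exact MulAction.injective (x γ δ t) (hA _ _ (S.chart_equiv hI ho hα hγ hδ h g1 d1 t hq)
    (S.chart_equiv hI ho hβ hγ hδ h g2 d2 t hq'))

theorem agree_pair {o α β : ι} (ho : o ∈ I) (hα : α ∈ I) (hβ : β ∈ I) (hαβ : α ≠ β) {a b : F}
    (ha : a ≠ 0) (hb : b ≠ 0) : Agree opp ρ x I o α β (Pi.single α a + Pi.single β b) := by
  intro q q' hq hq'
  set v : ι → F := Pi.single α a + Pi.single β b with hv
  have hvα : v α = a := by simp [hv, hαβ]
  have hvβ : v β = b := by simp [hv, hαβ.symm]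
  obtain ⟨k, hk, hke⟩ := S.exists_mon hI ho hα ha
  set s : F := -(a / b) with hs
  have hs0 : s ≠ 0 := by simp [hs, ha, hb]
  have hnmem : nE x α β s ∈ monI x I := Subgroup.subset_closure ⟨α, β, s, hαβ, hs0, hα, hβ, rfl⟩
  have hc1 : InChart opp ρ x I o α v ((x β α (b / a) * k : G) : G ⧸ fixI opp x I o) := by
    refine ⟨x β α (b / a), x_mem_col hαβ.symm hβ _, k, hk, ?_, ?_, rfl⟩
    · rw [hvα]; exact hke
    · rw [hvα, S.proj_col hαβ.symm, div_mul_cancel₀ _ ha]
  have hc2 : InChart opp ρ x I o β v ((x α β (a / b) * (nE x α β s * k) : G) : G ⧸ fixI opp x I o) := by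
    refine ⟨x α β (a / b), x_mem_col hαβ hα _, nE x α β s * k, mul_mem hnmem hk, ?_, ?_, rfl⟩
    · rw [hvβ, map_mul, Module.End.mul_apply, hke, S.rho_single,
        S.n_apply hαβ hs0]
      have h1 := S.opp_ne α
      have h2 := S.opp_ne β
      split_ifs with hl
      · subst hl
        simp [hαβ.symm, hαβ, hs, Pi.single_neg, smul_add, ← Pi.single_smul', mul_div_cancel₀ _ ha,
          mul_comm a]
      · have hl' : α ≠ opp β := fun e => hl (by rw [e, S.opp_opp])
        have h3 : opp α ≠ opp β := fun e => hαβ (S.opp_inj e)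
        simp [hαβ, hαβ.symm, hl, Ne.symm hl, hl', hl'.symm, h1, h1.symm, h2, h2.symm, h3, h3.symm, hs,
          Pi.single_neg, smul_add, ← Pi.single_smul', mul_comm a]
        rw [div_mul_cancel₀ _ ha]
    · rw [hvβ, S.proj_col hαβ, div_mul_cancel₀ _ hb, hv, add_comm]
  have hmul : ((x α β (a / b) * k : G) : G ⧸ fixI opp x I o) = (k : G ⧸ fixI opp x I o) :=
    S.x_mul_mon hI ho hα hβ hαβ hαβ.symm (S.opp_ne α).symm _ hk hke
  have e : x β α (b / a) = x α β (a / b) * nE x α β s * x α β (a / b) := by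
    have e1 : -s⁻¹ = b / a := by rw [hs, inv_neg, inv_div, neg_neg]
    rw [nE, e1, hs, ← S.x_inv hαβ]
    group
  rw [S.chart_unique hI ho hα (by rw [hvα]; exact ha) hq hc1,
    S.chart_unique hI ho hβ (by rw [hvβ]; exact hb) hq' hc2, e,
    mul_assoc (x α β (a / b) * nE x α β s), ← smul_eq_mul (x α β (a / b) * nE x α β s),
    ← MulAction.Quotient.smul_coe, hmul, MulAction.Quotient.smul_coe, smul_eq_mul, mul_assoc]

theorem agree_far {o α β : ι} (ho : o ∈ I) (hα : α ∈ I) (hβ : β ∈ I) (hαβ : α ≠ β) (hβo : β ≠ opp α) :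
    ∀ J : Finset ι, J ⊆ I → α ∉ J → opp α ∉ J → β ∉ J → opp β ∉ J → ∀ v : ι → F, v α ≠ 0 → v β ≠ 0 →
      (∀ i, i ≠ α → i ≠ opp α → i ≠ β → i ≠ opp β → i ∉ J → v i = 0) → Agree opp ρ x I o α β v := by
  have h1 := S.opp_ne α
  have h2 := S.opp_ne β
  have hαo : α ≠ opp β := fun e => hβo (by rw [e, S.opp_opp])
  have h3 : opp α ≠ opp β := fun e => hαβ (S.opp_inj e)
  intro J
  induction J using Finset.induction with
  | empty =>
    intro _ _ _ _ _ v hvα hvβ hz
    set t1 := -(v (opp β) / v β) with ht1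
    set t2 := -(v (opp α) / v α) with ht2
    refine S.agree_back hI ho hα hβ (hI β hβ) hβ h2 hαo.symm hβo h2 h2.symm t1 ?_
    refine S.agree_back hI ho hα hβ (hI α hα) hα h1 h1 h1.symm (Ne.symm hβo) hαo t2 ?_
    have e : ρ (x (opp α) α t2) (ρ (x (opp β) β t1) v) = Pi.single α (v α) + Pi.single β (v β) := by
      rw [S.proj _ _ h1, if_pos (S.opp_opp α).symm, add_zero, S.proj _ _ h2, if_pos (S.opp_opp β).symm,
        add_zero]
      funext i
      by_cases i1 : i = α
      · subst i1; simp [h1.symm, hαo, hαβ]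
      by_cases i2 : i = β
      · subst i2; simp [h2.symm, hβo, hαβ.symm]
      by_cases i3 : i = opp β
      · subst i3; simp [i1, i2, h3.symm, ht1, div_mul_cancel₀ _ hvβ]
      by_cases i4 : i = opp α
      · subst i4; simp [i1, i2, i3, hαo, ht2, div_mul_cancel₀ _ hvα]
      simp [i1, i2, i3, i4, hz i i1 i4 i2 i3 (Finset.notMem_empty i)]
    rw [e]
    exact S.agree_pair hI ho hα hβ hαβ hvα hvβ
  | @insert γ J hγJ ih =>
    intro hJI hαJ hαJ' hβJ hβJ' v hvα hvβ hz
    simp only [Finset.mem_insert, not_or] at hαJ hαJ' hβJ hβJ'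
    have g1 : γ ≠ α := Ne.symm hαJ.1
    have g2 : γ ≠ opp α := Ne.symm hαJ'.1
    have hl : α ≠ opp γ := fun e => g2 (by rw [e, S.opp_opp])
    set t := -(v γ / v α) with ht
    have hproj : ρ (x γ α t) v = v + Pi.single γ (t * v α) +
        Pi.single (opp α) (-(w γ * w α) * t * v (opp γ)) := by
      rw [S.proj γ α g1, if_neg hl]
    refine S.agree_back hI ho hα hβ (hJI (Finset.mem_insert_self γ J)) hα g1 g1 h1.symm
      (Ne.symm hβJ.1) hαo t ?_
    refine ih (fun z hz => hJI (Finset.mem_insert_of_mem hz)) hαJ.2 hαJ'.2 hβJ.2 hβJ'.2 _ ?_ ?_ ?_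
    · rw [hproj]; simpa [Ne.symm g1, h1.symm] using hvα
    · rw [hproj]; simpa [hβJ.1, hβo] using hvβ
    · intro i i1 i2 i3 i4 i5
      rw [hproj]
      by_cases i6 : i = γ
      · subst i6; simp [i2, ht, div_mul_cancel₀ _ hvα]
      · simp [i2, i6, hz i i1 i2 i3 i4 (by simp [i5, i6])]

theorem agree_all {o α β : ι} (ho : o ∈ I) (hα : α ∈ I) (hβ : β ∈ I) {v : ι → F} (hv : Supp I v)
    (hvα : v α ≠ 0) (hvβ : v β ≠ 0) : Agree opp ρ x I o α β v := by
  by_cases hαβ : α = β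
  · subst hαβ; exact fun q q' hq hq' => S.chart_unique hI ho hα hvα hq hq'
  have far : ∀ α β : ι, α ∈ I → β ∈ I → α ≠ β → β ≠ opp α → v α ≠ 0 → v β ≠ 0 →
      Agree opp ρ x I o α β v := fun α β hα hβ hab hbo ha hb =>
    S.agree_far hI ho hα hβ hab hbo ((((I.erase α).erase (opp α)).erase β).erase (opp β))
      (fun z hz => by simp only [Finset.mem_erase] at hz; exact hz.2.2.2.2)
      (by simp) (by simp) (by simp) (by simp) v ha hb
      (fun i i1 i2 i3 i4 i5 => hv i fun h => i5 (by simp [i1, i2, i3, i4, h]))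
  by_cases hβo : β ≠ opp α
  · exact far α β hα hβ hαβ hβo hvα hvβ
  push Not at hβo
  subst hβo
  by_cases hex : ∃ γ, γ ≠ α ∧ γ ≠ opp α ∧ v γ ≠ 0
  · obtain ⟨γ, g1, g2, hvγ⟩ := hex
    have hγ : γ ∈ I := by_contra fun h => hvγ (hv γ h)
    intro q q' hq hq'
    obtain ⟨r, hr⟩ := S.chart_exists hI ho hγ hv hvγ
    rw [far α γ hα hγ g1.symm g2 hvα hvγ q r hq hr,
      far γ (opp α) hγ hβ g2 (fun e => g1 (S.opp_inj e).symm) hvγ hvβ r q' hr hq']
  · push Not at hex
    have e : v = Pi.single α (v α) + Pi.single (opp α) (v (opp α)) := by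
      funext i
      by_cases i1 : i = α
      · subst i1; simp [hαβ]
      by_cases i2 : i = opp α
      · subst i2; simp [i1]
      simp [i1, i2, hex i i1 i2]
    rw [e]
    exact S.agree_pair hI ho hα hβ hαβ hvα hvβ

omit [Fintype ι] [Fintype F] in
theorem pt_exists {o : ι} (ho : o ∈ I) {v : ι → F} (hv : Supp I v) (hv0 : v ≠ 0) :
    ∃ q, Pt opp ρ x I o v q := by
  obtain ⟨α, hα⟩ := Function.ne_iff.1 hv0
  have hαI : α ∈ I := by_contra fun h => hα (hv α h)
  obtain ⟨q, hq⟩ := S.chart_exists hI ho hαI hv hα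
  exact ⟨q, α, hαI, hα, hq⟩

theorem pt_unique {o : ι} (ho : o ∈ I) {v : ι → F} (hv : Supp I v) {q q' : G ⧸ fixI opp x I o}
    (hq : Pt opp ρ x I o v q) (hq' : Pt opp ρ x I o v q') : q = q' := by
  obtain ⟨α, hα, hvα, hc⟩ := hq
  obtain ⟨β, hβ, hvβ, hc'⟩ := hq'
  exact S.agree_all hI ho hα hβ hv hvα hvβ q q' hc hc'

theorem pt_special {o γ δ : ι} (ho : o ∈ I) (hγ : γ ∈ I) (hδ : δ ∈ I) (h : γ ≠ δ) {v : ι → F}
    (hv : Supp I v) (hvγ : v γ ≠ 0) (hz : ∀ i, i ≠ γ → i ≠ opp δ → v i = 0) (t : F)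
    {q : G ⧸ fixI opp x I o} (hq : Pt opp ρ x I o v q) : Pt opp ρ x I o (ρ (x γ δ t) v) (x γ δ t • q) := by
  have hvfix : ρ (x γ δ t) v = v :=
    S.proj_fix h t (hz δ h.symm (S.opp_ne δ).symm)
      (hz (opp γ) (S.opp_ne γ) fun e => h (S.opp_inj e))
  obtain ⟨k, hk, hke⟩ := S.exists_mon hI ho hγ hvγ
  have hxk := S.x_mul_mon hI ho hγ hδ h h.symm (S.opp_ne γ).symm t hk hke
  by_cases hl : δ = opp γ
  · have e : v = Pi.single γ (v γ) := by
      funext i
      by_cases i1 : i = γ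
      · subst i1; simp
      · simp [i1, hz i i1 (by rw [hl, S.opp_opp]; exact i1)]
    have hc : InChart opp ρ x I o γ v ((1 * k : G) : G ⧸ fixI opp x I o) :=
      ⟨1, one_mem _, k, hk, hke, by rw [map_one, Module.End.one_apply, ← e], rfl⟩
    rw [hvfix]
    refine ⟨γ, hγ, hvγ, ?_⟩
    rw [S.pt_unique hI ho hv hq ⟨γ, hγ, hvγ, hc⟩, one_mul, MulAction.Quotient.smul_coe, smul_eq_mul, hxk,
      ← one_mul k]
    exact hc
  set z := x (opp δ) γ (v (opp δ) / v γ) with hzdef
  have hd : opp δ ≠ γ := fun e => hl (S.opp_eq_iff.1 e)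
  have hod := S.opp_ne δ
  have e : ρ z (Pi.single γ (v γ)) = v := by
    rw [hzdef, S.proj_col hd, div_mul_cancel₀ _ hvγ]
    funext i
    by_cases i1 : i = γ
    · subst i1; simp [Ne.symm hd]
    by_cases i2 : i = opp δ
    · subst i2; simp [i1]
    simp [i1, i2, hz i i1 i2]
  have hc : InChart opp ρ x I o γ v ((z * k : G) : G ⧸ fixI opp x I o) :=
    ⟨z, x_mem_col hd (hI δ hδ) _, k, hk, hke, e, rfl⟩
  rw [hvfix]
  refine ⟨γ, hγ, hvγ, ?_⟩
  rw [S.pt_unique hI ho hv hq ⟨γ, hγ, hvγ, hc⟩, MulAction.Quotient.smul_coe, smul_eq_mul]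
  obtain ⟨a, b, d, -, -, ec⟩ := S.comp (opp δ) γ δ hd h hod (v (opp δ) / v γ) t
  rw [S.opp_opp] at ec
  set A := x (opp δ) δ a * x (opp δ) δ b * x (opp δ) δ d with hA
  have hcomA : Commute A z := by
    have : ∀ c : F, Commute (x (opp δ) δ c) z := fun c =>
      S.comm (opp δ) δ (opp δ) γ hod hd hod.symm hd.symm (fun e => hl e)
        (by rw [S.opp_opp]; exact hod) c _
    exact ((this a).mul_left (this b)).mul_left (this d)
  have hAk : ((A⁻¹ * k : G) : G ⧸ fixI opp x I o) = (k : G ⧸ fixI opp x I o) := by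
    have key : ∀ c, ((x (opp δ) δ c * k : G) : G ⧸ fixI opp x I o) = (k : G ⧸ fixI opp x I o) := fun c =>
      S.x_mul_mon hI ho (hI δ hδ) hδ hod h.symm (fun e => h (S.opp_inj e).symm) c hk hke
    have key' : ∀ (c : F) (g : G), ((g * x (opp δ) δ c * k : G) : G ⧸ fixI opp x I o) =
        ((g * k : G) : G ⧸ fixI opp x I o) := fun c g => by
      rw [mul_assoc, ← smul_eq_mul g, ← MulAction.Quotient.smul_coe, key, MulAction.Quotient.smul_coe, smul_eq_mul]
    rw [hA, mul_inv_rev, mul_inv_rev, S.x_inv hod, S.x_inv hod, S.x_inv hod, ← mul_assoc, key', key', key]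
  have hfinal : ((x γ δ t * (z * k) : G) : G ⧸ fixI opp x I o) = ((z * k : G) : G ⧸ fixI opp x I o) := by
    have e3 : x γ δ t * z = z * A⁻¹ * x γ δ t := by
      rw [← hcomA.inv_left.eq, mul_assoc A⁻¹, hzdef, ec, hA]; group
    rw [← mul_assoc, e3, mul_assoc (z * A⁻¹), ← smul_eq_mul (z * A⁻¹), ← MulAction.Quotient.smul_coe,
      hxk, MulAction.Quotient.smul_coe, smul_eq_mul, mul_assoc, ← smul_eq_mul z,
      ← MulAction.Quotient.smul_coe, hAk, MulAction.Quotient.smul_coe, smul_eq_mul]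
  rw [hfinal]
  exact hc

theorem pt_equiv {o γ δ : ι} (ho : o ∈ I) (hγ : γ ∈ I) (hδ : δ ∈ I) (h : γ ≠ δ) (t : F) {v : ι → F}
    (hv : Supp I v) {q : G ⧸ fixI opp x I o} (hq : Pt opp ρ x I o v q) :
    Pt opp ρ x I o (ρ (x γ δ t) v) (x γ δ t • q) := by
  by_cases hex : ∃ α, α ≠ γ ∧ α ≠ opp δ ∧ v α ≠ 0
  · obtain ⟨α, a1, a2, hvα⟩ := hex
    have hα : α ∈ I := by_contra fun h' => hvα (hv α h')
    obtain ⟨r, hr⟩ := S.chart_exists hI ho hα hv hvα
    rw [S.pt_unique hI ho hv hq ⟨α, hα, hvα, hr⟩]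
    refine ⟨α, hα, ?_, S.chart_equiv hI ho hα hγ hδ h a1.symm (fun e => a2 (by rw [e, S.opp_opp])) t hr⟩
    rw [S.proj_apply h t v a1 a2]
    exact hvα
  push Not at hex
  by_cases hvγ : v γ ≠ 0
  · exact S.pt_special hI ho hγ hδ h hv hvγ (fun i i1 i2 => hex i i1 i2) t hq
  push Not at hvγ
  obtain ⟨α, hvα⟩ : ∃ α, v α ≠ 0 := by
    obtain ⟨β, -, hβ, -⟩ := hq; exact ⟨β, hβ⟩
  have hα : α = opp δ := by
    by_contra a2
    exact hvα (hex α (fun e => hvα (e ▸ hvγ)) a2)
  subst hα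
  have hl : δ ≠ opp γ := fun e => hvα (by rw [e, S.opp_opp]; exact hvγ)
  obtain ⟨t', ht'⟩ := S.sym γ δ h hl t
  rw [ht']
  refine S.pt_special hI ho (hI δ hδ) (hI γ hγ) (fun e => h (S.opp_inj e).symm) hv hvα (fun i i1 i2 => ?_) t' hq
  rw [S.opp_opp] at i2
  exact hex i i2 i1

theorem orbit_bound {o : ι} (ho : o ∈ I) :
    ∀ g ∈ grpI x I, ∃ v : ι → F, Supp I v ∧ v ≠ 0 ∧ Pt opp ρ x I o v (g : G ⧸ fixI opp x I o) := by
  have base : Pt opp ρ x I o (Pi.single o 1) ((1 : G) : G ⧸ fixI opp x I o) :=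
    ⟨o, ho, by simp, 1, one_mem _, 1, one_mem _, by simp, by simp, by rw [one_mul]⟩
  have hmain : ∀ g ∈ grpI x I, ∀ v q, Supp I v → Pt opp ρ x I o v q → Pt opp ρ x I o (ρ g v) (g • q) := by
    intro g hg
    induction hg using Subgroup.closure_induction'' with
    | mem y hy =>
      obtain ⟨α, β, t, h, hα, hβ, rfl⟩ := hy
      exact fun v q hv hq => S.pt_equiv hI ho hα hβ h t hv hq
    | inv_mem y hy =>
      obtain ⟨α, β, t, h, hα, hβ, rfl⟩ := hy
      rw [S.x_inv h]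
      exact fun v q hv hq => S.pt_equiv hI ho hα hβ h _ hv hq
    | one => intro v q _ hq; simpa using hq
    | mul a b _ hb iha ihb =>
      intro v q hv hq
      rw [map_mul, Module.End.mul_apply, mul_smul]
      exact iha _ _ (S.grp_supp hI hb v hv) (ihb v q hv hq)
  intro g hg
  refine ⟨ρ g (Pi.single o 1), S.grp_supp hI hg _ (supp_single ho 1), fun e => ?_, ?_⟩
  · have := congrArg (ρ g⁻¹) e
    rw [S.rho_cancel', map_zero] at this
    simpa using congrFun this o
  · have := hmain g hg _ _ (supp_single ho 1) base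
    rwa [MulAction.Quotient.smul_coe, smul_eq_mul, mul_one] at this

theorem fix_le {o : ι} (ho : o ∈ I) :
    fixI opp x I o ≤ colI x I (opp o) ⊔ grpI x ((I.erase o).erase (opp o)) := by
  rw [fixI, Subgroup.closure_le]
  rintro _ ⟨α, β, t, h, hα, hβ, hβo, hαo, rfl⟩
  by_cases h1 : β = opp o
  · exact Subgroup.mem_sup_left (h1 ▸ x_mem_col (h1 ▸ h) hα t)
  by_cases h2 : α = o
  · have hl : β ≠ opp α := by rw [h2]; exact h1
    obtain ⟨t', ht'⟩ := S.sym α β h hl t
    rw [ht', h2]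
    exact Subgroup.mem_sup_left (x_mem_col (fun e => hβo (S.opp_inj e)) (hI β hβ) t')
  exact Subgroup.mem_sup_right (Subgroup.subset_closure
    ⟨α, β, t, h, by simp [h2, hαo, hα], by simp [h1, hβo, hβ], rfl⟩)

end Fixed

/-- The bound. -/
theorem card_bound : ∀ (k : ℕ) (I : Finset ι), I.card = 2 * k → Closed opp I →
    Finite (grpI x I) ∧ Nat.card (grpI x I) ≤ spOrder (Fintype.card F) k := by
  classical
  intro k
  induction k with
  | zero =>
    intro I hk _
    have hbot : grpI x I = ⊥ := by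
      rw [grpI, Subgroup.closure_eq_bot_iff]
      rintro _ ⟨α, β, t, -, hα, -, rfl⟩
      simp [Finset.card_eq_zero.1 (by simpa using hk)] at hα
    rw [hbot]
    exact ⟨inferInstance, by simp [spOrder]⟩
  | succ k ih =>
    intro I hk hI
    obtain ⟨o, ho⟩ : I.Nonempty := Finset.card_pos.1 (by omega)
    set I' := (I.erase o).erase (opp o) with hI'
    have hI'c : Closed opp I' := by
      intro α hα
      simp only [hI', Finset.mem_erase] at hα ⊢
      exact ⟨fun e => hα.2.1 (S.opp_inj e), fun e => hα.1 (S.opp_eq_iff.1 e), hI α hα.2.2⟩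
    have hk' : I'.card = 2 * k := by
      rw [hI', Finset.card_erase_of_mem (Finset.mem_erase.2 ⟨S.opp_ne o, hI o ho⟩),
        Finset.card_erase_of_mem ho]
      omega
    obtain ⟨hLf, hLc⟩ := ih I' hk' hI'c
    obtain ⟨hUf, hUc⟩ := S.card_colI hI (α := opp o) (hI o ho)
    haveI := hLf
    haveI := hUf
    set H := fixI opp x I o
    set U := colI x I (opp o)
    set L := grpI x I'
    have hn : L ≤ Subgroup.normalizer (U : Set G) := by
      have key : ∀ (γ δ : ι) (t : F), γ ≠ δ → γ ∈ I' → δ ∈ I' → ∀ u ∈ U,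
          x γ δ t * u * (x γ δ t)⁻¹ ∈ U := by
        intro γ δ t h hγ hδ u hu
        simp only [hI', Finset.mem_erase] at hγ hδ
        refine S.levi_col hI (hI o ho) hγ.2.2 hδ.2.2 h hγ.1 ?_ hδ.1 ?_ t hu
        · rw [S.opp_opp]; exact hγ.2.1
        · rw [S.opp_opp]; exact hδ.2.1
      rw [show L = grpI x I' from rfl, grpI, Subgroup.closure_le]
      rintro _ ⟨γ, δ, t, h, hγ, hδ, rfl⟩
      refine Subgroup.mem_normalizer_iff.2 fun u => ⟨key γ δ t h hγ hδ u, fun hu => ?_⟩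
      have := key γ δ (-t) h hγ hδ _ hu
      rw [← S.x_inv h] at this
      simpa [mul_assoc] using this
    have hH : (H : Set G) ⊆ (U : Set G) * (L : Set G) := by
      rw [← Subgroup.coe_mul_of_right_le_normalizer_left _ _ hn]
      exact SetLike.coe_subset_coe.2 (S.fix_le hI ho)
    have hfH : ((U : Set G) * (L : Set G)).Finite := (Set.toFinite _).mul (Set.toFinite _)
    let rep : {v : ι → F // Supp I v ∧ v ≠ 0} → G := fun v =>
      (Classical.choose (S.pt_exists hI ho v.2.1 v.2.2)).out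
    have hsub : (grpI x I : Set G) ⊆ Set.range rep * ((U : Set G) * (L : Set G)) := by
      intro g hg
      obtain ⟨v, hv, hv0, hp⟩ := S.orbit_bound hI ho g hg
      have e : (Classical.choose (S.pt_exists hI ho hv hv0)) = (g : G ⧸ H) :=
        S.pt_unique hI ho hv (Classical.choose_spec (S.pt_exists hI ho hv hv0)) hp
      refine ⟨rep ⟨v, hv, hv0⟩, ⟨_, rfl⟩, (rep ⟨v, hv, hv0⟩)⁻¹ * g, hH ?_, by simp⟩
      refine QuotientGroup.eq.1 ?_
      show ((Classical.choose (S.pt_exists hI ho hv hv0)).out : G ⧸ H) = _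
      rw [QuotientGroup.out_eq', e]
    have hfin : (Set.range rep * ((U : Set G) * (L : Set G))).Finite := (Set.finite_range _).mul hfH
    refine ⟨(hfin.subset hsub).to_subtype, (Nat.card_mono hfin hsub).trans (Set.natCard_mul_le.trans ?_)⟩
    rw [spOrder]
    refine Nat.mul_le_mul ?_ (Set.natCard_mul_le.trans (Nat.mul_le_mul ?_ hLc))
    · refine (Finite.card_range_le rep).trans (le_of_eq ?_)
      rw [card_nonzero, hk]
    · refine hUc.trans (le_of_eq ?_)
      congr 1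
      omega

end Sys

end CfsgLib.SpBound
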