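import Cfsg.Agent.Lib.BoundedPres.SpRoots

/-!
The commutator relations of the root elements of a group satisfying the relations of the presentation.
-/

set_option autoImplicit false

namespace CfsgLib.SpPres

open Matrix Cfsg CfsgLib.Linear.Symp CfsgLib.Linear.SympReg CfsgLib.Linear.Dickson
open scoped MatrixGroups

variable {F : Type*} [Field F] {m : ℕ}

theorem base_ne {α β : Idx m} (h : α ≠ β) (hb : β ≠ op α) : base α ≠ base β := fun e =>
  (eq_or_eq_op e.symm).elim (fun e => h e.symm) hb

theorem op_op (α : Idx m) : op (op α) = α := Sum.swap_swap α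

theorem op_eq {α β : Idx m} : op α = β ↔ α = op β :=
  ⟨fun h => by rw [← h, op_op], fun h => by rw [h, op_op]⟩

theorem op_inj {α β : Idx m} (h : op α = op β) : α = β := Sum.swap_leftInverse.injective h

theorem perm_images (σ : Equiv.Perm (Fin m)) (i : Fin m) :
    monSp (SemidirectProduct.inr σ : MonP F m) • (bas (.inl i) : Idx m → F) = (1 : F) • bas (.inl (σ i)) := by
  rw [monSp_smul]
  funext z
  rcases z with z | z <;> by_cases h : z = σ i <;>
    simp [SemidirectProduct.left_inr, SemidirectProduct.right_inr, h, Equiv.symm_apply_eq]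

theorem ad_dg_swap_images (hm : 2 ≤ m) (a b : Fˣ) :
    monSp (pair2 hm (ad a) (dg b) (sw hm)) • (bas (.inl (o0 hm)) : Idx m → F) = (b : F) • bas (.inl (o1 hm)) ∧
      monSp (pair2 hm (ad a) (dg b) (sw hm)) • (bas (.inl (o1 hm)) : Idx m → F) = (a : F) • bas (.inr (o0 hm)) := by
  have hne := o0_ne_o1 hm
  constructor <;>
  · rw [monSp_smul]
    funext z
    rcases z with z | z <;> by_cases z0 : z = o0 hm <;> by_cases z1 : z = o1 hm <;>
      simp_all [pair2, dg, ad, Equiv.swap_apply_of_ne_of_ne]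

theorem dg_dg_swap_images (hm : 2 ≤ m) (a b : Fˣ) :
    monSp (pair2 hm (dg a) (dg b) (sw hm)) • (bas (.inl (o0 hm)) : Idx m → F) = (b : F) • bas (.inl (o1 hm)) ∧
      monSp (pair2 hm (dg a) (dg b) (sw hm)) • (bas (.inl (o1 hm)) : Idx m → F) = (a : F) • bas (.inl (o0 hm)) := by
  have hne := o0_ne_o1 hm
  constructor <;>
  · rw [monSp_smul]
    funext z
    rcases z with z | z <;> by_cases z0 : z = o0 hm <;> by_cases z1 : z = o1 hm <;>
      simp_all [pair2, dg, Equiv.swap_apply_of_ne_of_ne]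

section Comm

variable {G : Type*} [Group G] {hm : 2 ≤ m} {φ : G →* symplecticGroup (Fin m) F}
  {Φ : SL(2, F) →* G} {π : Equiv.Perm (Fin m) →* G} {y : G} {w : Fˣ}
variable [Fintype F] (R : Hyp hm φ Φ π y w)
include R

theorem xG_perm {σ : Equiv.Perm (Fin m)} {i j : Fin m} (hi : σ (o0 hm) = i) (hj : σ (o1 hm) = j) :
    conjy y (π σ) = xG R (.inl i) (.inl j) 1 := by
  have h0 := perm_images (F := F) σ (o0 hm)
  have h1 := perm_images (F := F) σ (o1 hm)
  rw [hi] at h0
  rw [hj] at h1
  have := xG_of_images R (by simp [op]) h0 h1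
  rw [lift_inr, inv_one, mul_one] at this
  exact this

/-- Monomial elements with prescribed images of the first three indices. -/
theorem exists_mono3 (h3 : 3 ≤ m) {α β γ : Idx m} (hab : base α ≠ base β) (hac : base α ≠ base γ)
    (hbc : base β ≠ base γ) {a b c : F} (ha : a ≠ 0) (hb : b ≠ 0) (hc : c ≠ 0) :
    ∃ p : MonP F m, monSp p • (bas (.inl (o0 hm)) : Idx m → F) = a • bas α ∧
      monSp p • (bas (.inl (o1 hm)) : Idx m → F) = b • bas β ∧
      monSp p • (bas (.inl (Fin.castLE h3 2)) : Idx m → F) = c • bas γ := by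
  obtain ⟨p, hp⟩ := exists_mono h3 ![α, β, γ] (by
    intro i j e
    fin_cases i <;> fin_cases j <;> simp_all) ![a, b, c] (fun j => by fin_cases j <;> simp [ha, hb, hc])
  exact ⟨p, hp 0, hp 1, hp 2⟩

/-- A short root element commutes with long root elements of the other planes. -/
theorem commute_out {α β γ : Idx m} (hab : base α ≠ base β) (hac : base α ≠ base γ)
    (hbc : base β ≠ base γ) (t u : F) : Commute (xG R α β t) (xG R γ (op γ) u) := by
  have h : α ≠ β := fun e => hab (by rw [e])
  have hb : β ≠ op α := fun e => hab (by rw [e, base_op])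
  have h3 : 3 ≤ m := by
    by_contra hlt
    have h1 := (base α).2
    have h2 := (base β).2
    have h3 := (base γ).2
    simp only [ne_eq, Fin.ext_iff] at hab hac hbc
    omega
  by_cases ht : t = 0
  · subst ht; rw [xG_zero R h]; exact Commute.one_left _
  obtain ⟨p, e1, e2, e3⟩ := exists_mono3 R h3 hab hac hbc ht one_ne_zero one_ne_zero
  have e3' := (mono_fwd p e3).2.2
  set k : F := wt (Sum.inl (Fin.castLE h3 2) : Idx m) * wt γ * 1⁻¹ with hk
  have hk0 : k ≠ 0 := by simp [hk, wt_ne]
  have hbase : Commute y (xG R (.inl (Fin.castLE h3 2)) (op (.inl (Fin.castLE h3 2))) (u * k)) := by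
    rw [xG_long]
    exact (R.rels.out h3 _).symm
  have := hbase.map (MulAut.conj (lift R p))
  simp only [MulAut.conj_apply] at this
  rw [xG_of_images R hb e1 e2, inv_one, mul_one, xG_conj R p (op_ne _).symm e3 e3'] at this
  rwa [show u * k * 1 * k⁻¹ = u by rw [mul_one, mul_assoc, mul_inv_cancel₀ hk0, mul_one]] at this

/-- Short root elements sharing the first index commute. -/
theorem commute_share {α β γ : Idx m} (hab : base α ≠ base β) (hac : base α ≠ base γ)
    (hbc : base β ≠ base γ) (t u : F) : Commute (xG R α β t) (xG R α γ u) := by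
  have h : α ≠ β := fun e => hab (by rw [e])
  have h' : α ≠ γ := fun e => hac (by rw [e])
  have hb : β ≠ op α := fun e => hab (by rw [e, base_op])
  have hb' : γ ≠ op α := fun e => hac (by rw [e, base_op])
  have h3 : 3 ≤ m := by
    by_contra hlt
    have h1 := (base α).2
    have h2 := (base β).2
    have h3 := (base γ).2
    simp only [ne_eq, Fin.ext_iff] at hab hac hbc
    omega
  by_cases ht : t = 0
  · subst ht; rw [xG_zero R h]; exact Commute.one_left _
  by_cases hu : u = 0
  · subst hu; rw [xG_zero R h']; exact Commute.one_right _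
  obtain ⟨p, e1, e2, e3⟩ := exists_mono3 R h3 hab hac hbc one_ne_zero (inv_ne_zero ht) (inv_ne_zero hu)
  have hs : Equiv.swap (o1 hm) (Fin.castLE h3 2) (o0 hm) = o0 hm :=
    Equiv.swap_apply_of_ne_of_ne (o0_ne_o1 hm) (by simp [Fin.ext_iff])
  have hbase := R.rels.share h3
  rw [xG_perm R hs (Equiv.swap_apply_left _ _)] at hbase
  have := hbase.map (MulAut.conj (lift R p))
  simp only [MulAut.conj_apply] at this
  rw [xG_of_images R hb e1 e2, xG_conj R p (by simp [Fin.ext_iff]) e1 e3] at this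
  simpa using this

theorem commute_far {α β γ δ : Idx m} (hab : base α ≠ base β) (hac : base α ≠ base γ)
    (had : base α ≠ base δ) (hbc : base β ≠ base γ) (hbd : base β ≠ base δ) (hcd : base γ ≠ base δ)
    (t u : F) : Commute (xG R α β t) (xG R γ δ u) := by
  have h : α ≠ β := fun e => hab (by rw [e])
  have h' : γ ≠ δ := fun e => hcd (by rw [e])
  have hb : β ≠ op α := fun e => hab (by rw [e, base_op])
  have h4 : 4 ≤ m := by
    by_contra hlt
    have h1 := (base α).2
    have h2 := (base β).2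
    have h3 := (base γ).2
    have h4 := (base δ).2
    simp only [ne_eq, Fin.ext_iff] at hab hac had hbc hbd hcd
    omega
  by_cases ht : t = 0
  · subst ht; rw [xG_zero R h]; exact Commute.one_left _
  by_cases hu : u = 0
  · subst hu; rw [xG_zero R h']; exact Commute.one_right _
  obtain ⟨p, hp⟩ := exists_mono h4 ![α, β, γ, δ] (by
    intro i j e
    fin_cases i <;> fin_cases j <;> simp_all) ![t, 1, u, 1]
    (fun j => by fin_cases j <;> simp [ht, hu])
  have hbase := R.rels.far h4
  rw [xG_perm R (i := Fin.castLE h4 2) (j := Fin.castLE h4 3)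
    (by simp [Equiv.swap_apply_def, Fin.ext_iff]) (by simp [Equiv.swap_apply_def, Fin.ext_iff])] at hbase
  have := hbase.map (MulAut.conj (lift R p))
  simp only [MulAut.conj_apply] at this
  have e0 : monSp p • (bas (.inl (o0 hm)) : Idx m → F) = t • bas α := hp 0
  have e1 : monSp p • (bas (.inl (o1 hm)) : Idx m → F) = (1 : F) • bas β := hp 1
  have e2 : monSp p • (bas (.inl (Fin.castLE h4 2)) : Idx m → F) = u • bas γ := hp 2
  have e3 : monSp p • (bas (.inl (Fin.castLE h4 3)) : Idx m → F) = (1 : F) • bas δ := hp 3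
  rw [xG_of_images R hb e0 e1, xG_conj R p (by simp [Fin.ext_iff]) e2 e3] at this
  simpa using this

theorem long_short {α γ δ : Idx m} (hγδ : γ ≠ δ) (hl : δ ≠ op γ) (h1 : δ ≠ α) (h2 : α ≠ op γ) (t u : F) :
    Commute (xG R α (op α) t) (xG R γ δ u) := by
  by_cases e1 : γ = α
  · subst e1; exact (commute_first R hγδ hl u t).symm
  by_cases e2 : δ = op α
  · rw [xG_sym R hγδ hl u]
    subst e2
    rw [op_op]
    exact (commute_first R (fun e => h2 (by rw [e])) (fun e => e1 (op_inj e)) _ t).symm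
  refine (commute_out R (base_ne hγδ hl) (fun e => ?_) (fun e => ?_) u t).symm
  · rcases eq_or_eq_op e with h | h
    · exact e1 h
    · exact h2 (by rw [h, op_op])
  · rcases eq_or_eq_op e with h | h
    · exact h1 h
    · exact e2 h

theorem xG_comm {α β γ δ : Idx m} (h : α ≠ β) (h' : γ ≠ δ) (c1 : β ≠ γ) (c2 : δ ≠ α) (c3 : β ≠ op δ)
    (c4 : α ≠ op γ) (t u : F) : Commute (xG R α β t) (xG R γ δ u) := by
  by_cases hb : β = op α
  · by_cases hd : δ = op γ
    · subst hb; subst hd
      by_cases e : base α = base γ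
      · rcases eq_or_eq_op e with rfl | e'
        · show _ * _ = _ * _
          rw [plane_add R, plane_add R, add_comm]
        · exact absurd e' c4
      · rw [xG_long, xG_long]; exact plane_commute R e _ _
    · subst hb
      exact long_short R h' hd c2 c4 t u
  by_cases hd : δ = op γ
  · subst hd
    refine (long_short R h hb c1 ?_ u t).symm
    exact fun e => c4 (by rw [e, op_op])
  have hab := base_ne h hb
  have hcd := base_ne h' hd
  -- sharing the first index
  have first : ∀ {α β δ : Idx m}, α ≠ β → β ≠ op α → α ≠ δ → δ ≠ op α → β ≠ op δ → ∀ t u,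
      Commute (xG R α β t) (xG R α δ u) := by
    intro α β δ h hb h' hd c3 t u
    by_cases e : β = δ
    · subst e
      show _ * _ = _ * _
      rw [xG_add R h, xG_add R h, add_comm]
    exact commute_share R (base_ne h hb) (base_ne h' hd)
      (base_ne e fun q => c3 (by rw [q, op_op])) t u
  by_cases e1 : α = γ
  · subst e1; exact first h hb h' hd c3 t u
  by_cases e2 : α = op δ
  · subst e2
    rw [xG_sym R h' hd u]
    exact first h hb (fun e => h' (op_inj e).symm) (fun e => hd (by rw [op_op] at e; exact e.symm))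
      (fun e => c1 (by rw [e, op_op])) t _
  have hα : op β ≠ op α := fun e => h (op_inj e).symm
  have hα' : op α ≠ op (op β) := by rw [op_op]; exact Ne.symm hb
  by_cases e3 : β = δ
  · subst e3
    rw [xG_sym R h hb t, xG_sym R h' hd u]
    refine first hα hα' (fun e => h' (op_inj e).symm) (fun e => hd ?_) ?_ _ _
    · rw [op_op] at e; rw [← op_op β, e]
      rw [← e, op_op]
    · rw [op_op]; exact fun e => c4 (op_eq.1 e).symm.symm
  by_cases e4 : β = op γ
  · rw [xG_sym R h hb t]
    subst e4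
    simp only [op_op] at hα hα' ⊢
    refine first (fun e => h (by rw [e, op_op])) ?_ h' hd ?_ _ u
    · exact fun e => e1 (op_inj e)
    · exact fun e => c2 (op_inj e).symm
  refine commute_far R hab ?_ ?_ ?_ ?_ hcd t u <;> intro e <;> rcases eq_or_eq_op e with q | q
  exacts [e1 q, c4 q, c2 q.symm, e2 q, c1 q, e4 q, e3 q, c3 q]

/-- The relation giving long root elements from two short ones, for all parameters. -/
theorem base_shortL (u : F) : ∃ d, y * xG R (.inl (o1 hm)) (.inr (o0 hm)) u =
    xG R (.inl (o0 hm)) (.inr (o0 hm)) d * (xG R (.inl (o1 hm)) (.inr (o0 hm)) u * y) := by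
  have hne := o0_ne_o1 hm
  set a0 : Idx m := .inl (o0 hm)
  set a1 : Idx m := .inl (o1 hm)
  have hx : a1 ≠ op a0 := by simp [a0, a1, op]
  have hLx : ∀ d u, Commute (xG R a0 (op a0) d) (xG R a1 (op a0) u) := fun d u =>
    xG_comm R (op_ne _).symm hx (by simp [a0, a1, op]) (op_ne _) (by simp [a0, op])
      (by simp [a0, a1, op]) d u
  refine all_of_squares R {u | ∃ d, y * xG R a1 (op a0) u = xG R a0 (op a0) d * (xG R a1 (op a0) u * y)}
    ?_ ?_ ?_ ?_ ?_ u
  · exact ⟨0, by rw [xG_zero R hx, xG_zero R (op_ne _).symm]; simp⟩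
  · refine ⟨2, ?_⟩
    have h := R.rels.shortL
    have e : conjy y (word2 hm Φ π (ad 1) (dg 1) (sw hm)) = xG R a1 (op a0) 1 := by
      rw [conjy, ← lift_pair2 R, xG_of_images R (by simp [a0, a1, op, hne]) (ad_dg_swap_images hm 1 1).1
        (ad_dg_swap_images hm 1 1).2]
      simp
      rfl
    rw [e] at h
    rw [show op a0 = Sum.inr (o0 hm) from rfl] at h ⊢
    rw [phi_up R]
    exact h
  · rintro a ⟨d, hd⟩ b ⟨d', hd'⟩
    refine ⟨d + d', ?_⟩
    rw [← xG_add R hx, ← plane_add R, ← mul_assoc y, hd]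
    calc xG R a0 (op a0) d * (xG R a1 (op a0) a * y) * xG R a1 (op a0) b
        = xG R a0 (op a0) d * xG R a1 (op a0) a * (y * xG R a1 (op a0) b) := by group
      _ = xG R a0 (op a0) d * (xG R a1 (op a0) a * xG R a0 (op a0) d') * (xG R a1 (op a0) b * y) := by
        rw [hd']; group
      _ = _ := by rw [(hLx d' a).symm.eq]; group
  · rintro a ⟨d, hd⟩
    refine ⟨-d, ?_⟩
    rw [← xG_inv R hx, ← plane_inv R]
    calc y * (xG R a1 (op a0) a)⁻¹
        = (xG R a1 (op a0) a)⁻¹ * (xG R a0 (op a0) d)⁻¹ *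
          (xG R a0 (op a0) d * (xG R a1 (op a0) a * y)) * (xG R a1 (op a0) a)⁻¹ := by group
      _ = (xG R a1 (op a0) a)⁻¹ * (xG R a0 (op a0) d)⁻¹ * (y * xG R a1 (op a0) a) * (xG R a1 (op a0) a)⁻¹ := by
        rw [hd]
      _ = _ := by rw [((hLx d a).inv_inv).symm.eq]; group
  · rintro c hc a ⟨d, hd⟩
    obtain ⟨p, e0, e1⟩ := exists_mono2 R (α := a0) (β := a1) (by simp [a0, a1, base, hne]) hc hc
    have e0' := (mono_fwd p e0).2.2
    rw [wt_sq, one_mul] at e0'
    have hy : lift R p * y * (lift R p)⁻¹ = y := by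
      rw [xG_of_images R (by simp [a0, a1, op]) e0 e1, mul_inv_cancel₀ hc, xG_base]
    refine ⟨d * c * (c⁻¹)⁻¹, ?_⟩
    have E := congrArg (MulAut.conj (lift R p)) hd
    simp only [map_mul, MulAut.conj_apply] at E
    rw [hy, xG_conj R p hx e1 e0', xG_conj R p (op_ne _).symm e0 e0'] at E
    rwa [show c * c * a = a * c * (c⁻¹)⁻¹ by rw [inv_inv]; ring]

theorem comp_short {α β : Idx m} (h : α ≠ β) (hb : β ≠ op α) (t u : F) : ∃ d,
    xG R α β t * xG R β (op α) u = xG R α (op α) d * (xG R β (op α) u * xG R α β t) := by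
  by_cases ht : t = 0
  · subst ht
    exact ⟨0, by rw [xG_zero R h, xG_zero R (op_ne _).symm]; simp⟩
  obtain ⟨p, e0, e1⟩ := exists_mono2 R (base_ne h hb) ht one_ne_zero
  have e0' := (mono_fwd p e0).2.2
  rw [show op (Sum.inl (o0 hm) : Idx m) = .inr (o0 hm) from rfl] at e0'
  set k : F := wt (Sum.inl (o0 hm) : Idx m) * wt α * t⁻¹ with hk
  have hk0 : k ≠ 0 := by simp [hk, wt_ne, ht]
  obtain ⟨d, hd⟩ := base_shortL R (u * k)
  refine ⟨d * t * k⁻¹, ?_⟩
  have E := congrArg (MulAut.conj (lift R p)) hd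
  simp only [map_mul, MulAut.conj_apply] at E
  rw [xG_of_images R hb e0 e1, inv_one, mul_one, xG_conj R p (by simp) e1 e0',
    xG_conj R p (by simp) e0 e0'] at E
  rwa [show u * k * 1 * k⁻¹ = u by rw [mul_one, mul_assoc, mul_inv_cancel₀ hk0, mul_one]] at E

theorem comp_long {α β : Idx m} (h : α ≠ β) (hb : β ≠ op α) (t u : F) : ∃ a b,
    xG R α β t * xG R β (op β) u =
      xG R α (op β) a * xG R α (op α) b * (xG R β (op β) u * xG R α β t) := by
  have h' : α ≠ op β := fun e => hb (by rw [e, op_op])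
  by_cases ht : t = 0
  · subst ht
    exact ⟨0, 0, by rw [xG_zero R h, xG_zero R h', xG_zero R (op_ne _).symm]; simp⟩
  obtain ⟨p, e0, e1⟩ := exists_mono2 R (base_ne h hb) ht one_ne_zero
  have e0' := (mono_fwd p e0).2.2
  have e1' := (mono_fwd p e1).2.2
  rw [show op (Sum.inl (o0 hm) : Idx m) = .inr (o0 hm) from rfl] at e0'
  rw [show op (Sum.inl (o1 hm) : Idx m) = .inr (o1 hm) from rfl] at e1'
  set k : F := wt (Sum.inl (o1 hm) : Idx m) * wt β * 1⁻¹ with hk
  have hk0 : k ≠ 0 := by simp [hk, wt_ne]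
  have hbase := base_long_rel R (u * k)
  have E := congrArg (MulAut.conj (lift R p)) hbase
  simp only [map_mul, MulAut.conj_apply] at E
  rw [xG_of_images R hb e0 e1, inv_one, mul_one, xG_conj R p (by simp) e1 e1',
    xG_conj R p (by simp) e0 e1', xG_conj R p (by simp) e0 e0',
    show u * k * 1 * k⁻¹ = u by rw [mul_one, mul_assoc, mul_inv_cancel₀ hk0, mul_one]] at E
  exact ⟨_, _, E⟩

theorem comp_chain {α β γ : Idx m} (hab : base α ≠ base β) (hac : base α ≠ base γ)
    (hbc : base β ≠ base γ) (t u : F) :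
    xG R α β t * xG R β γ u = xG R α γ (t * u) * (xG R β γ u * xG R α β t) := by
  have h : α ≠ β := fun e => hab (by rw [e])
  have h' : β ≠ γ := fun e => hbc (by rw [e])
  have h'' : α ≠ γ := fun e => hac (by rw [e])
  have hb : β ≠ op α := fun e => hab (by rw [e, base_op])
  have h3 : 3 ≤ m := by
    by_contra hlt
    have h1 := (base α).2
    have h2 := (base β).2
    have h3 := (base γ).2
    simp only [ne_eq, Fin.ext_iff] at hab hac hbc
    omega
  by_cases ht : t = 0
  · subst ht; rw [xG_zero R h, zero_mul, xG_zero R h'']; simp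
  by_cases hu : u = 0
  · subst hu; rw [xG_zero R h', mul_zero, xG_zero R h'']; simp
  obtain ⟨p, e0, e1, e2⟩ := exists_mono3 R h3 hab hac hbc ht one_ne_zero (inv_ne_zero hu)
  have hs : Equiv.swap (o1 hm) (Fin.castLE h3 2) (o0 hm) = o0 hm :=
    Equiv.swap_apply_of_ne_of_ne (o0_ne_o1 hm) (by simp [Fin.ext_iff])
  have hbase := R.rels.chain h3
  rw [xG_perm R (i := o1 hm) (j := Fin.castLE h3 2) (by rw [Equiv.Perm.mul_apply, hs, Equiv.swap_apply_left])
    (by rw [Equiv.Perm.mul_apply, Equiv.swap_apply_left]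
        exact Equiv.swap_apply_of_ne_of_ne (by simp [Fin.ext_iff]) (by simp [Fin.ext_iff])),
    xG_perm R hs (Equiv.swap_apply_left _ _)] at hbase
  have E := congrArg (MulAut.conj (lift R p)) hbase
  simp only [map_mul, MulAut.conj_apply] at E
  rw [xG_of_images R hb e0 e1, xG_conj R p (by simp [Fin.ext_iff]) e1 e2,
    xG_conj R p (by simp [Fin.ext_iff]) e0 e2] at E
  simpa using E

theorem xG_comp {α β γ : Idx m} (h : α ≠ β) (h' : β ≠ γ) (h'' : α ≠ γ) (t u : F) :
    ∃ a b d, (γ ≠ op β → b = 0) ∧ (β ≠ op α → d = 0) ∧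
      xG R α β t * xG R β γ u =
        xG R α γ a * xG R α (op α) b * xG R (op γ) γ d * (xG R β γ u * xG R α β t) := by
  have zl : xG R (op γ) γ 0 = 1 := xG_zero R (op_ne γ)
  have zb : xG R α (op α) 0 = 1 := xG_zero R (op_ne α).symm
  by_cases hb : β = op α
  · subst hb
    have hl : γ ≠ op (op α) := by rw [op_op]; exact Ne.symm h''
    have g1 : op γ ≠ α := fun e => h' (op_eq.1 e.symm.symm).symm
    have g2 : α ≠ op (op γ) := by rw [op_op]; exact h''
    obtain ⟨a, b, e⟩ := comp_long R g1 g2 (-(wt (op α) * wt γ) * u) t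
    have hγ : xG R (op α) γ u = xG R (op γ) α (-(wt (op α) * wt γ) * u) := by
      rw [xG_sym R h' hl u, op_op]
    rw [← hγ, op_op] at e
    have hA : xG R (op γ) (op α) a = xG R α γ (-(wt (op γ) * wt (op α)) * a) := by
      rw [xG_sym R (fun e => h'' (op_inj e).symm) (fun e => (show α ≠ op γ from fun q => g1 q.symm)
        (by rw [← op_op α, e, op_op])) a, op_op, op_op]
    rw [hA] at e
    have hAB : Commute (xG R α γ (-(wt (op γ) * wt (op α)) * a)) (xG R (op γ) γ b) := by
      refine xG_comm R h'' (op_ne γ) ?_ (Ne.symm h'') (fun e => op_ne γ e.symm) g2 _ _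
      exact (op_ne γ).symm
    refine ⟨-(-(wt (op γ) * wt (op α)) * a), 0, -b, fun _ => rfl, fun q => absurd rfl q, ?_⟩
    rw [zb, mul_one, ← xG_inv R h'', ← xG_inv R (op_ne γ), e, (hAB.inv_inv).eq]
    group
  by_cases hg : γ = op β
  · subst hg
    obtain ⟨a, b, e⟩ := comp_long R h hb t u
    refine ⟨a, b, 0, fun q => absurd rfl q, fun _ => rfl, ?_⟩
    rw [zl, mul_one]
    exact e
  by_cases hga : γ = op α
  · subst hga
    obtain ⟨d, e⟩ := comp_short R h hb t u
    refine ⟨d, 0, 0, fun _ => rfl, fun _ => rfl, ?_⟩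
    rw [zl, zb, mul_one, mul_one]
    exact e
  refine ⟨t * u, 0, 0, fun _ => rfl, fun _ => rfl, ?_⟩
  rw [zl, zb, mul_one, mul_one]
  exact comp_chain R (base_ne h hb) (base_ne h'' hga) (base_ne h' hg) t u

end Comm

end CfsgLib.SpPres
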