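import Cfsg.Agent.Lib.BoundedPres.SpPres
import Cfsg.Prelude.Def_Classical

/-!
Presentations of `Sp_{2m}(F)` and `PSp_{2m}(F)` with few generators and relations.
-/

set_option autoImplicit false

namespace CfsgLib.SpPres

open Matrix Cfsg CfsgLib.Linear.Symp CfsgLib.BoundedPres
open scoped MatrixGroups

theorem presOn_sym_two {k : ℕ} {r : ℕ} (h : Pres (Equiv.Perm (Fin (k + 1))) r) :
    PresOn (Fin 2) (Equiv.Perm (Fin (k + 1))) (r + 2) := by
  obtain ⟨rels, hc, ⟨e⟩⟩ := h.two_generators _ _ (closure_two_swN k)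
  exact PresOn.of_iso rels hc e

theorem presOn_sym_small (k : ℕ) :
    PresOn (Fin 2) (Equiv.Perm (Fin (k + 1))) (k * k + 2) := presOn_sym_two (pres_sym_coxeter k)

theorem presOn_sym (m : ℕ) (hm : 4 ≤ m) : PresOn (Fin 2) (Equiv.Perm (Fin m)) 20 := by
  obtain ⟨k, rfl⟩ : ∃ k, m = k + 1 := ⟨m - 1, by omega⟩
  exact presOn_sym_two (pres_sym (k + 1) hm)

variable {F : Type*} [Field F] [Fintype F] {m : ℕ}

theorem center_closure : ∃ z, Subgroup.center (symplecticGroup (Fin m) F) = Subgroup.normalClosure {z} := by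
  let z : symplecticGroup (Fin m) F := ⟨(-1 : F) • 1, mem_of_form_mulVec fun u v => by
    simp only [smul_mulVec, one_mulVec, form_smul_left, form_smul_right]; ring⟩
  have hz : ∀ x : Fin m ⊕ Fin m → F, z • x = (-1 : F) • x := fun x => by
    rw [smul_def, smul_mulVec, one_mulVec]
  refine ⟨z, le_antisymm (fun g hg => ?_) (Subgroup.normalClosure_le_normal fun x hx => ?_)⟩
  · obtain ⟨a, ha, hga⟩ := mem_center_iff.1 hg
    rcases sq_eq_one_iff.1 ha with rfl | rfl
    · have : g = 1 := group_ext fun x => by rw [hga, one_smul, one_smul]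
      rw [this]; exact one_mem _
    · have : g = z := group_ext fun x => by rw [hga, hz]
      rw [this]; exact Subgroup.subset_normalClosure rfl
  · rw [Set.mem_singleton_iff] at hx
    rw [hx]
    exact mem_center_iff.2 ⟨-1, by norm_num, hz⟩

theorem presOn_PSp {X : Type} {r : ℕ} (h : PresOn X (symplecticGroup (Fin m) F) r) :
    PresOn X (Cfsg.PSp m F) (r + 1) := by
  obtain ⟨z, hz⟩ := center_closure (F := F) (m := m)
  exact h.quotient _ z hz

/-- Presentations on `k + 6` generators. -/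
theorem exists_Sp_presentation (hm : 2 ≤ m) {r : ℕ} (hS : PresOn (Fin 2) (Equiv.Perm (Fin m)) r) (k : ℕ)
    {N : ℕ} (hN : 30 + r + k ≤ N) :
    (∃ rels : Finset (FreeGroup (Fin (6 + k))), rels.card ≤ N ∧
      Nonempty (PresentedGroup (↑rels : Set (FreeGroup (Fin (6 + k)))) ≃* symplecticGroup (Fin m) F)) ∧
    (∃ rels : Finset (FreeGroup (Fin (6 + k))), rels.card ≤ N + 1 ∧
      Nonempty (PresentedGroup (↑rels : Set (FreeGroup (Fin (6 + k)))) ≃* Cfsg.PSp m F)) := by
  let e : (Fin 3 ⊕ (Fin 2 ⊕ Unit)) ⊕ Fin k ≃ Fin (6 + k) :=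
    (Equiv.sumCongr ((Equiv.sumCongr (Equiv.refl (Fin 3))
      ((Equiv.sumCongr (Equiv.refl (Fin 2)) finOneEquiv.symm).trans finSumFinEquiv)).trans finSumFinEquiv)
      (Equiv.refl (Fin k))).trans finSumFinEquiv
  have h := (((presOn_Sp (F := F) hm hS).pad (Fin k)).reindex e).mono
    (show 30 + r + Fintype.card (Fin k) ≤ N by rw [Fintype.card_fin]; exact hN)
  exact ⟨h.exists_iso, (presOn_PSp h).exists_iso⟩

theorem presOn_sym_any (hm : 2 ≤ m) : PresOn (Fin 2) (Equiv.Perm (Fin m)) 20 := by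
  by_cases h : 4 ≤ m
  · exact presOn_sym m h
  obtain ⟨k, rfl⟩ : ∃ k, m = k + 1 := ⟨m - 1, by omega⟩
  refine (presOn_sym_small k).mono ?_
  have : k ≤ 2 := by omega
  calc k * k + 2 ≤ 2 * 2 + 2 := Nat.add_le_add_right (Nat.mul_le_mul this this) 2
    _ ≤ 20 := by norm_num

end CfsgLib.SpPres
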