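import Cfsg.Agent.Lib.BoundedPres.SpComm
import Cfsg.Agent.Lib.BoundedPres.SpBound
import Cfsg.Agent.Lib.Linear.SympCard
import Cfsg.Agent.Lib.Linear.Transvection

/-!
A group satisfying the relations of the presentation is no larger than the symplectic group.
-/

set_option autoImplicit false

namespace CfsgLib.SpPres

open Matrix Cfsg CfsgLib.Linear.Symp CfsgLib.Linear.SympReg CfsgLib.Linear.Dickson CfsgLib.SpBound
open scoped MatrixGroups

variable {F : Type*} [Field F] {m : ℕ}

theorem spOrder_eq (q : ℕ) : ∀ k, spOrder q k = q ^ (k ^ 2) * ∏ i ∈ Finset.range k, (q ^ (2 * (i + 1)) - 1) := by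
  intro k
  induction k with
  | zero => simp [spOrder]
  | succ k ih =>
    rw [spOrder, ih, Finset.prod_range_succ, show (k + 1) ^ 2 = 2 * k + 1 + k ^ 2 by ring, pow_add]
    ring

theorem long_nE_mem (α : Idx m) (s : F) (hs : s ≠ 0) :
    longSL α s * longSL (op α) (-s⁻¹) * longSL α s ∈ Mon2 F := by
  show (_ ∧ _) ∨ (_ ∧ _)
  refine Or.inr ?_
  cases α <;>
    simp [longSL, op, up_val, lo_val, Matrix.mul_apply, Fin.sum_univ_two, hs]

section Group

variable {G : Type*} [Group G] {hm : 2 ≤ m} {φ : G →* symplecticGroup (Fin m) F}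
  {Φ : SL(2, F) →* G} {π : Equiv.Perm (Fin m) →* G} {y : G} {w : Fˣ}
variable [Fintype F] (R : Hyp hm φ Φ π y w)

/-- The action on vectors. -/
noncomputable def rho (φ : G →* symplecticGroup (Fin m) F) : G →* Module.End F (Idx m → F) :=
  (Matrix.toLinAlgEquiv' (R := F) (n := Idx m)).toAlgHom.toRingHom.toMonoidHom.comp
    ((symplecticGroup (Fin m) F).subtype.comp φ)

omit [Fintype F] in
theorem rho_apply (g : G) (v : Idx m → F) : rho φ g v = φ g • v := by
  simp [rho, smul_def]

omit [Fintype F] in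
theorem phi_eq_one {g : G} (h : rho φ g = 1) : φ g = 1 :=
  group_ext fun v => by
    rw [← rho_apply, h, one_smul]
    rfl

include R

/-- The Weyl elements are monomial. -/
theorem nE_mem {α β : Idx m} (h : α ≠ β) {s : F} (hs : s ≠ 0) :
    nE (xG R) α β s ∈ (lift R).range := by
  by_cases hb : β = op α
  · subst hb
    refine ⟨SemidirectProduct.inl (Pi.mulSingle (base α) ⟨_, long_nE_mem α s hs⟩), ?_⟩
    rw [lift_inl, planes_single, nE, xG_long]
    have e : xG R (op α) α (-s⁻¹) = plane hm Φ π (base α) (longSL (op α) (-s⁻¹)) := by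
      have := xG_long R (op α) (-s⁻¹)
      rwa [op_op, base_op] at this
    rw [e, ← map_mul, ← map_mul]
  obtain ⟨p, e0, e1⟩ := exists_mono2 R (base_ne h hb) hs (one_ne_zero (α := F))
  refine ⟨p * pair2 hm (dg 1) (dg (-1)) (sw hm) * p⁻¹, ?_⟩
  have hne := o0_ne_o1 hm
  have f := dg_dg_swap_images (F := F) hm 1 (-1)
  have hz : conjy y (word2 hm Φ π (dg 1) (dg (-1)) (sw hm)) = xG R (.inl (o1 hm)) (.inl (o0 hm)) (-1) := by
    rw [conjy, ← lift_pair2 R, xG_of_images R (by simp [op]) f.1 f.2]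
    simp
  have hw := R.rels.weyl
  rw [hz, ← lift_pair2 R] at hw
  rw [map_mul, map_mul, map_inv, ← hw, nE]
  calc lift R p * (y * xG R (.inl (o1 hm)) (.inl (o0 hm)) (-1) * y) * (lift R p)⁻¹
      = (lift R p * y * (lift R p)⁻¹) * (lift R p * xG R (.inl (o1 hm)) (.inl (o0 hm)) (-1) * (lift R p)⁻¹) *
        (lift R p * y * (lift R p)⁻¹) := by group
    _ = _ := by
      rw [xG_of_images R hb e0 e1, xG_conj R p (by simp [hne.symm]) e1 e0]
      simp

theorem monGrp_le : monGrp (xG R) ≤ (lift R).range := by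
  rw [monGrp, Subgroup.closure_le]
  rintro _ ⟨α, β, s, h, hs, rfl⟩
  exact nE_mem R h hs

theorem sys : SpBound.Sys (op (m := m)) (wt (F := F)) (rho φ) (xG R) where
  opp_opp := op_op
  opp_ne := op_ne
  w_sq := wt_sq
  w_opp := wt_op
  proj α β h t v := by rw [rho_apply, phi_xG R h, X_smul h]
  add α β h t u := xG_add R h t u
  sym α β h hb t := ⟨_, xG_sym R h hb t⟩
  comm α β γ δ h h' c1 c2 c3 c4 t u := xG_comm R h h' c1 c2 c3 c4 t u
  comp α β γ h h' h'' t u := xG_comp R h h' h'' t u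
  conjN α β s h hs γ δ t hγ := by
    obtain ⟨p, hp⟩ := nE_mem R h hs
    obtain ⟨γ', δ', a, b, -, -, hne, -, e1, e2⟩ := images p hγ
    exact ⟨γ', δ', _, hne, by rw [← hp]; exact xG_conj R p hγ e1 e2 t⟩
  injN g hg h1 := by
    obtain ⟨p, rfl⟩ := monGrp_le R hg
    have := phi_eq_one h1
    rw [phi_lift, ← map_one (monSp (F := F) (m := m))] at this
    rw [monSp_injective this, map_one]

theorem grp_top (hgen : Φ.range ⊔ π.range ⊔ Subgroup.zpowers y = ⊤) :
    grpI (xG R) (Finset.univ : Finset (Idx m)) = ⊤ := by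
  classical
  set K := grpI (xG R) (Finset.univ : Finset (Idx m))
  have hx : ∀ {α β : Idx m}, α ≠ β → ∀ t, xG R α β t ∈ K := fun h t =>
    Subgroup.subset_closure ⟨_, _, t, h, Finset.mem_univ _, Finset.mem_univ _, rfl⟩
  have hy : y ∈ K := by rw [← xG_base R]; exact hx (by simp [o0_ne_o1 hm]) 1
  have hΦ : ∀ g, Φ g ∈ K := by
    have h : K.comap Φ = ⊤ := by
      refine CfsgLib.Linear.SL_eq_top_of_transvection_mem _ fun i j hij c => ?_
      show Φ _ ∈ K
      fin_cases i <;> fin_cases j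
      · exact absurd rfl hij
      · have := hx (op_ne (.inl (o0 hm) : Idx m)).symm c
        rw [xG_long] at this
        rw [← plane_zero (hm := hm) (π := π)]
        exact this
      · have := hx (op_ne (.inr (o0 hm) : Idx m)).symm c
        rw [xG_long] at this
        rw [← plane_zero (hm := hm) (π := π)]
        exact this
      · exact absurd rfl hij
    intro g
    exact (Subgroup.eq_top_iff' _).1 h g
  have hnorm : ∀ σ : Equiv.Perm (Fin m), ∀ k ∈ K, π σ * k * (π σ)⁻¹ ∈ K := by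
    intro σ k hk
    induction hk using Subgroup.closure_induction with
    | mem z hz =>
      obtain ⟨α, β, t, h, -, -, rfl⟩ := hz
      obtain ⟨α', β', a, b, -, -, hne, -, e1, e2⟩ := images (SemidirectProduct.inr σ : MonP F m) h
      rw [← lift_inr R σ, xG_conj R _ h e1 e2]
      exact hx hne _
    | one => simpa using K.one_mem
    | mul a b _ _ ha hb =>
      rw [show π σ * (a * b) * (π σ)⁻¹ = (π σ * a * (π σ)⁻¹) * (π σ * b * (π σ)⁻¹) by group]
      exact mul_mem ha hb
    | inv a _ ha =>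
      rw [show π σ * a⁻¹ * (π σ)⁻¹ = (π σ * a * (π σ)⁻¹)⁻¹ by group]
      exact inv_mem ha
  have hsw : π (sw hm) ∈ K := by
    have hN : word2 hm Φ π (dg 1) (dg (-1)) (sw hm) ∈ K := by
      rw [← R.rels.weyl]
      refine mul_mem (mul_mem hy ?_) hy
      rw [conjy, ← lift_pair2 R,
        xG_of_images R (by simp [op]) (dg_dg_swap_images hm 1 (-1)).1 (dg_dg_swap_images hm 1 (-1)).2]
      exact hx (by simp [o0_ne_o1 hm, (o0_ne_o1 hm).symm]) _
    have hsec : sec hm Φ π ((dg (-1 : Fˣ) : Mon2 F) : SL(2, F)) ∈ K := hnorm _ _ (hΦ _)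
    rw [word2] at hN
    have := mul_mem (inv_mem (mul_mem (hΦ ((dg (1 : Fˣ) : Mon2 F) : SL(2, F))) hsec)) hN
    rwa [inv_mul_cancel_left] at this
  have hπ : ∀ σ, π σ ∈ K := by
    intro σ
    induction σ using Equiv.Perm.swap_induction_on with
    | one => rw [map_one]; exact one_mem K
    | swap_mul τ i j hij hτ =>
      rw [map_mul]
      refine mul_mem ?_ hτ
      obtain ⟨ν, h0, h1⟩ := exists_perm2 hm hij
      have e : Equiv.swap i j = ν * sw hm * ν⁻¹ := by
        rw [← Equiv.swap_apply_apply, h0, h1]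
      rw [e, map_mul, map_mul, map_inv]
      exact hnorm ν _ hsw
  rw [eq_top_iff, ← hgen]
  refine sup_le (sup_le ?_ ?_) (Subgroup.zpowers_le.2 hy)
  · rintro _ ⟨g, rfl⟩; exact hΦ g
  · rintro _ ⟨σ, rfl⟩; exact hπ σ

/-- The order bound. -/
theorem card_le (hgen : Φ.range ⊔ π.range ⊔ Subgroup.zpowers y = ⊤) :
    Finite G ∧ Nat.card G ≤ Nat.card (symplecticGroup (Fin m) F) := by
  classical
  obtain ⟨hf, hc⟩ := (sys R).card_bound m Finset.univ (by simp; ring) (fun _ _ => Finset.mem_univ _)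
  rw [grp_top R hgen] at hf hc
  haveI := hf
  refine ⟨Finite.of_equiv _ Subgroup.topEquiv.toEquiv, ?_⟩
  rw [← Nat.card_congr (Subgroup.topEquiv (G := G)).toEquiv, card_symplectic, ← spOrder_eq]
  exact hc

end Group

end CfsgLib.SpPres
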