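import Cfsg.Agent.Lib.BoundedPres.SpModel
import Mathlib.GroupTheory.NoncommPiCoprod

/-!
Lifting monomial elements and root elements of the symplectic group to a group satisfying a few relations.
-/

set_option autoImplicit false

namespace CfsgLib.SpPres

open Matrix Cfsg CfsgLib.Linear.Symp CfsgLib.Linear.SympReg CfsgLib.Linear.Dickson
open scoped MatrixGroups

variable {F : Type*} [Field F] {m : ℕ}

/-- The first index. -/
abbrev o0 (hm : 2 ≤ m) : Fin m := Fin.castLE hm 0

/-- The second index. -/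
abbrev o1 (hm : 2 ≤ m) : Fin m := Fin.castLE hm 1

theorem o0_ne_o1 (hm : 2 ≤ m) : o0 hm ≠ o1 hm := by simp [Fin.ext_iff]

/-- The exchange of the first two indices. -/
abbrev sw (hm : 2 ≤ m) : Equiv.Perm (Fin m) := Equiv.swap (o0 hm) (o1 hm)

/-- The base short root element. -/
abbrev y0 (hm : 2 ≤ m) : symplecticGroup (Fin m) F := X (.inl (o0 hm)) (.inl (o1 hm)) 1

section Words

variable {G : Type*} [Group G] (hm : 2 ≤ m) (Φ : SL(2, F) →* G) (π : Equiv.Perm (Fin m) →* G) (y : G)

/-- The second plane. -/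
def sec (g : SL(2, F)) : G := π (sw hm) * Φ g * (π (sw hm))⁻¹

/-- The word of a monomial element supported on two planes. -/
def word2 (a b : Mon2 F) (σ : Equiv.Perm (Fin m)) : G := Φ a * sec hm Φ π b * π σ

/-- A conjugate of the short root element. -/
def conjy (g : G) : G := g * y * g⁻¹

/-- The relations of the presentation. -/
structure Rels (w : Fˣ) : Prop where
  stab0 : ∀ σ : Equiv.Perm (Fin m), σ (o0 hm) = o0 hm → ∀ g, Commute (π σ) (Φ g)
  disj : ∀ g h, Commute (Φ g) (sec hm Φ π h)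
  stab01 : ∀ σ : Equiv.Perm (Fin m), σ (o0 hm) = o0 hm → σ (o1 hm) = o1 hm → Commute (π σ) y
  out : ∀ h3 : 3 ≤ m, ∀ g, Commute
    (π (Equiv.swap (o0 hm) (Fin.castLE h3 2)) * Φ g * (π (Equiv.swap (o0 hm) (Fin.castLE h3 2)))⁻¹) y
  rev : Commute (word2 hm Φ π (ad (-1)) (ad 1) (sw hm)) y
  tor : Commute (word2 hm Φ π (dg w) (dg w) 1) y
  longI : ∀ c : Fˣ, c = 1 ∨ c = w → y * sec hm Φ π (up (c : F)) =
    conjy y (word2 hm Φ π (dg c) (ad 1) 1) * Φ (up (c : F)) * (sec hm Φ π (up (c : F)) * y)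
  longC : Commute y (Φ (up 1))
  shortL : y * conjy y (word2 hm Φ π (ad 1) (dg 1) (sw hm)) =
    Φ (up 2) * (conjy y (word2 hm Φ π (ad 1) (dg 1) (sw hm)) * y)
  chain : ∀ h3 : 3 ≤ m,
    y * conjy y (π (sw hm * Equiv.swap (o1 hm) (Fin.castLE h3 2))) =
      conjy y (π (Equiv.swap (o1 hm) (Fin.castLE h3 2))) *
        (conjy y (π (sw hm * Equiv.swap (o1 hm) (Fin.castLE h3 2))) * y)
  share : ∀ h3 : 3 ≤ m, Commute y (conjy y (π (Equiv.swap (o1 hm) (Fin.castLE h3 2))))
  far : ∀ h4 : 4 ≤ m, Commute y (conjy y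
    (π (Equiv.swap (o0 hm) (Fin.castLE h4 2) * Equiv.swap (o1 hm) (Fin.castLE h4 3))))
  weyl : y * conjy y (word2 hm Φ π (dg 1) (dg (-1)) (sw hm)) * y = word2 hm Φ π (dg 1) (dg (-1)) (sw hm)

end Words

section Lift

variable {G : Type*} [Group G] {hm : 2 ≤ m} {φ : G →* symplecticGroup (Fin m) F}
  {Φ : SL(2, F) →* G} {π : Equiv.Perm (Fin m) →* G} {y : G} {w : Fˣ}

theorem allHom_update (hm : 2 ≤ m) (a b : SL(2, F)) :
    planeHom (o0 hm) a * planeHom (o1 hm) b =
      allHom (Pi.mulSingle (o0 hm) a * Pi.mulSingle (o1 hm) b) := by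
  rw [map_mul, allHom_single, allHom_single]

variable (hm)

/-- A monomial element supported on two planes. -/
def pair2 (a b : Mon2 F) (σ : Equiv.Perm (Fin m)) : MonP F m :=
  ⟨Pi.mulSingle (o0 hm) a * Pi.mulSingle (o1 hm) b, σ⟩

theorem permSp_planeHom (σ : Equiv.Perm (Fin m)) (i : Fin m) (g : SL(2, F)) :
    permSp σ * planeHom i g * (permSp σ)⁻¹ = planeHom (σ i) g := by
  rw [← allHom_single, permSp_allHom, ← allHom_single]
  congr 1
  funext j
  simp [Pi.mulSingle_apply, Equiv.symm_apply_eq]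

theorem monSp_pair2 (a b : Mon2 F) (σ : Equiv.Perm (Fin m)) :
    monSp (pair2 hm a b σ) = planeHom (o0 hm) (a : SL(2, F)) * planeHom (o1 hm) (b : SL(2, F)) * permSp σ := by
  rw [monSp_apply, allHom_update]
  congr 2
  funext i
  by_cases h0 : i = o0 hm
  · subst h0; simp [pair2, o0_ne_o1 hm]
  by_cases h1 : i = o1 hm
  · subst h1; simp [pair2, (o0_ne_o1 hm).symm]
  simp [pair2, h0, h1]

/-- The lift of a family of monomial elements to `G`. -/
structure Hyp (φ : G →* symplecticGroup (Fin m) F) (Φ : SL(2, F) →* G) (π : Equiv.Perm (Fin m) →* G)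
    (y : G) (w : Fˣ) : Prop where
  hΦ : ∀ g, φ (Φ g) = planeHom (o0 hm) g
  hπ : ∀ σ, φ (π σ) = permSp σ
  hy : φ y = y0 hm
  gen : ∀ x : Fˣ, x ∈ Subgroup.zpowers w
  rels : Rels hm Φ π y w

variable {hm}
variable (R : Hyp hm φ Φ π y w)

theorem exists_perm2 (hm : 2 ≤ m) {i j : Fin m} (h : i ≠ j) :
    ∃ σ : Equiv.Perm (Fin m), σ (o0 hm) = i ∧ σ (o1 hm) = j := by
  refine ⟨Equiv.swap (Equiv.swap (o0 hm) i (o1 hm)) j * Equiv.swap (o0 hm) i, ?_, ?_⟩
  · simp only [Equiv.Perm.mul_apply, Equiv.swap_apply_left]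
    refine Equiv.swap_apply_of_ne_of_ne (fun e => ?_) h
    have := congrArg (Equiv.swap (o0 hm) i) e
    rw [Equiv.swap_apply_right, Equiv.swap_apply_self] at this
    exact o0_ne_o1 hm this
  · simp

/-- The rank one subgroups. -/
def plane (hm : 2 ≤ m) (Φ : SL(2, F) →* G) (π : Equiv.Perm (Fin m) →* G) (i : Fin m) : SL(2, F) →* G :=
  (MulAut.conj (π (Equiv.swap (o0 hm) i))).toMonoidHom.comp Φ

theorem plane_apply (i : Fin m) (g : SL(2, F)) :
    plane hm Φ π i g = π (Equiv.swap (o0 hm) i) * Φ g * (π (Equiv.swap (o0 hm) i))⁻¹ := rfl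

include R

theorem plane_perm (σ : Equiv.Perm (Fin m)) (i : Fin m) (g : SL(2, F)) :
    π σ * plane hm Φ π i g * (π σ)⁻¹ = plane hm Φ π (σ i) g := by
  set τ := (Equiv.swap (o0 hm) (σ i))⁻¹ * σ * Equiv.swap (o0 hm) i with hτ
  have h0 : τ (o0 hm) = o0 hm := by simp [hτ]
  have hc := R.rels.stab0 τ h0 g
  have e : π σ * π (Equiv.swap (o0 hm) i) = π (Equiv.swap (o0 hm) (σ i)) * π τ := by
    rw [← map_mul, ← map_mul, hτ, mul_assoc ((Equiv.swap (o0 hm) (σ i))⁻¹), mul_inv_cancel_left]
  rw [plane_apply, plane_apply]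
  calc π σ * (π (Equiv.swap (o0 hm) i) * Φ g * (π (Equiv.swap (o0 hm) i))⁻¹) * (π σ)⁻¹
      = (π σ * π (Equiv.swap (o0 hm) i)) * Φ g * (π σ * π (Equiv.swap (o0 hm) i))⁻¹ := by group
    _ = π (Equiv.swap (o0 hm) (σ i)) * (π τ * Φ g * (π τ)⁻¹) * (π (Equiv.swap (o0 hm) (σ i)))⁻¹ := by
      rw [e]; group
    _ = _ := by rw [hc.eq, mul_inv_cancel_right]

omit R in
theorem plane_zero (g : SL(2, F)) : plane hm Φ π (o0 hm) g = Φ g := by
  simp [plane_apply, ← Equiv.Perm.one_def]

omit R in
theorem plane_one (g : SL(2, F)) : plane hm Φ π (o1 hm) g = sec hm Φ π g := rfl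

theorem phi_plane (i : Fin m) (g : SL(2, F)) : φ (plane hm Φ π i g) = planeHom i g := by
  rw [plane_apply, map_mul, map_mul, map_inv, R.hπ, R.hΦ, permSp_planeHom, Equiv.swap_apply_left]

theorem plane_commute {i j : Fin m} (h : i ≠ j) (g g' : SL(2, F)) :
    Commute (plane hm Φ π i g) (plane hm Φ π j g') := by
  obtain ⟨σ, h0, h1⟩ := exists_perm2 hm h
  rw [← h0, ← h1, ← plane_perm R, ← plane_perm R, plane_zero, plane_one]
  exact (R.rels.disj g g').map (MulAut.conj (π σ))

theorem plane_hcomm : Pairwise fun i j => ∀ g g',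
    Commute ((plane hm Φ π i).comp (Mon2 F).subtype g) ((plane hm Φ π j).comp (Mon2 F).subtype g') :=
  fun _ _ h g g' => plane_commute R h _ _

/-- The product of the monomial parts. -/
noncomputable def planes : (Fin m → Mon2 F) →* G :=
  MonoidHom.noncommPiCoprod (fun i => (plane hm Φ π i).comp (Mon2 F).subtype) (plane_hcomm R)

theorem planes_single (i : Fin m) (g : Mon2 F) :
    planes R (Pi.mulSingle i g) = plane hm Φ π i (g : SL(2, F)) :=
  MonoidHom.noncommPiCoprod_mulSingle _ (hcomm := plane_hcomm R) _ _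

/-- The lift of the monomial group. -/
noncomputable def lift : MonP F m →* G :=
  SemidirectProduct.lift (planes R) π fun σ => by
    refine MonoidHom.pi_ext fun i g => ?_
    show planes R (fun k => (Pi.mulSingle i g : Fin m → Mon2 F) (σ.symm k)) =
      π σ * planes R (Pi.mulSingle i g) * (π σ)⁻¹
    rw [show (fun k => (Pi.mulSingle i g : Fin m → Mon2 F) (σ.symm k)) = Pi.mulSingle (σ i) g by
      funext k; simp [Pi.mulSingle_apply, Equiv.symm_apply_eq], planes_single, planes_single, plane_perm R]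

theorem lift_apply (p : MonP F m) : lift R p = planes R p.left * π p.right := rfl

theorem lift_inl (f : Fin m → Mon2 F) : lift R (SemidirectProduct.inl f) = planes R f :=
  SemidirectProduct.lift_inl _ _ _ _

theorem lift_inr (σ : Equiv.Perm (Fin m)) : lift R (SemidirectProduct.inr σ) = π σ :=
  SemidirectProduct.lift_inr _ _ _ _

theorem phi_lift (p : MonP F m) : φ (lift R p) = monSp p := by
  have e : φ.comp (lift R) = monSp := by
    refine SemidirectProduct.hom_ext (MonoidHom.pi_ext fun i g => ?_) (MonoidHom.ext fun σ => ?_)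
    · show φ (lift R (SemidirectProduct.inl (Pi.mulSingle i g))) = monSp _
      rw [lift_inl, planes_single, phi_plane R]
      show planeHom i _ = monSp _
      rw [monSp_apply]
      simp only [SemidirectProduct.left_inl, SemidirectProduct.right_inl, map_one, mul_one]
      rw [← allHom_single]
      congr 1
      funext k
      by_cases hk : k = i
      · subst hk; simp
      · simp [hk]
    · show φ (lift R (SemidirectProduct.inr σ)) = monSp _
      rw [lift_inr, R.hπ, monSp_apply]
      simp only [SemidirectProduct.left_inr, SemidirectProduct.right_inr]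
      rw [show (fun i => (((1 : Fin m → Mon2 F) i : Mon2 F) : SL(2, F))) = 1 from rfl, map_one, one_mul]
  exact DFunLike.congr_fun e p

theorem lift_pair2 (a b : Mon2 F) (σ : Equiv.Perm (Fin m)) :
    lift R (pair2 hm a b σ) = word2 hm Φ π a b σ := by
  rw [lift_apply, pair2, map_mul, planes_single, planes_single, plane_zero, plane_one]
  rfl

omit R in
theorem pair2_images (a b : Fˣ) (σ : Equiv.Perm (Fin m)) (h0 : σ (o0 hm) = o0 hm) (h1 : σ (o1 hm) = o1 hm) :
    monSp (pair2 hm (dg a) (dg b) σ) • (bas (.inl (o0 hm)) : Idx m → F) = (a : F) • bas (.inl (o0 hm)) ∧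
      monSp (pair2 hm (dg a) (dg b) σ) • (bas (.inl (o1 hm)) : Idx m → F) = (b : F) • bas (.inl (o1 hm)) := by
  have h0' : σ.symm (o0 hm) = o0 hm := by rw [Equiv.symm_apply_eq, h0]
  have h1' : σ.symm (o1 hm) = o1 hm := by rw [Equiv.symm_apply_eq, h1]
  have hne := o0_ne_o1 hm
  constructor <;>
  · rw [monSp_smul]
    funext z
    rcases z with z | z <;> by_cases z0 : z = o0 hm <;> by_cases z1 : z = o1 hm <;>
      simp [pair2, dg, z0, z1, h0', h1', hne, hne.symm, Equiv.symm_apply_eq, h0, h1]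

theorem tor_pow (k : ℕ) : Commute (lift R (pair2 hm (dg (w ^ k)) (dg (w ^ k)) 1)) y := by
  have hdg : ∀ a b : Fˣ, dg (F := F) a * dg b = dg (a * b) := fun a b => by
    apply Subtype.ext; apply Subtype.ext
    show (dg a : SL(2, F)).1 * (dg b : SL(2, F)).1 = (dg (a * b) : SL(2, F)).1
    simp [dg, mul_comm]
  have hmul : ∀ a b : Fˣ, pair2 hm (dg a) (dg a) 1 * pair2 hm (dg b) (dg b) 1 = pair2 hm (dg (a * b)) (dg (a * b)) 1 :=
    fun a b => by
      refine SemidirectProduct.ext ?_ (by simp [pair2])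
      simp only [pair2, SemidirectProduct.mul_left, map_one, MulAut.one_apply]
      rw [← hdg a b, Pi.mulSingle_mul, Pi.mulSingle_mul]
      have hc : Commute (Pi.mulSingle (o1 hm) (dg a) : Fin m → Mon2 F) (Pi.mulSingle (o0 hm) (dg b)) :=
        Pi.mulSingle_commute (o0_ne_o1 hm).symm _ _
      rw [hc.mul_mul_mul_comm]
  induction k with
  | zero =>
    have e : (dg (1 : Fˣ) : Mon2 F) = 1 := by
      apply Subtype.ext; apply Subtype.ext; simp [dg, Matrix.one_fin_two]
    rw [pow_zero, lift_pair2, word2, e]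
    simp [sec]
  | succ k ih =>
    rw [pow_succ, ← hmul, map_mul, lift_pair2 R (dg w)]
    exact ih.mul_left R.rels.tor

omit R in
theorem rev_images (hm : 2 ≤ m) :
    monSp (pair2 hm (ad (-1 : Fˣ)) (ad 1) (sw hm)) • (bas (.inl (o0 hm)) : Idx m → F) = bas (.inr (o1 hm)) ∧
      monSp (pair2 hm (ad (-1 : Fˣ)) (ad 1) (sw hm)) • (bas (.inl (o1 hm)) : Idx m → F) =
        (-1 : F) • bas (.inr (o0 hm)) := by
  have hne := o0_ne_o1 hm
  constructor <;>
  · rw [monSp_smul]
    funext z
    rcases z with z | z <;> by_cases z0 : z = o0 hm <;> by_cases z1 : z = o1 hm <;>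
      simp_all [pair2, ad, Equiv.swap_apply_of_ne_of_ne]

variable [Fintype F]

theorem dg_commute (a : Fˣ) : Commute (lift R (pair2 hm (dg a) (dg a) 1)) y := by
  obtain ⟨k, rfl⟩ := (isOfFinOrder_of_finite w).mem_powers_iff_mem_zpowers.2 (R.gen a)
  exact tor_pow R k

set_option maxHeartbeats 800000 in
/-- The stabiliser of the base root element centralises its lift. -/
theorem stab_commute (p : MonP F m) (hp : Commute (monSp p) (y0 hm)) : Commute (lift R p) y := by
  have hy : ∀ q : MonP F m, Commute (monSp q) (y0 hm) →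
      monSp q • (bas (.inl (o0 hm)) : Idx m → F) = monSp q • bas (.inl (o0 hm)) → True := fun _ _ _ => trivial
  clear hy
  have main : ∀ q : MonP F m, ∀ a b : F, a ≠ 0 → a = b →
      monSp q • (bas (.inl (o0 hm)) : Idx m → F) = a • bas (.inl (o0 hm)) →
      monSp q • (bas (.inl (o1 hm)) : Idx m → F) = b • bas (.inl (o1 hm)) → Commute (lift R q) y := by
    intro q a b ha hab e0 e1
    subst hab
    set u := Units.mk0 a ha
    set d := pair2 hm (dg u) (dg u) 1
    obtain ⟨f0, f1⟩ := pair2_images (hm := hm) u u 1 rfl rfl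
    set r := d⁻¹ * q with hr
    have fix : ∀ i, monSp q • (bas i : Idx m → F) = monSp d • bas i → monSp r • (bas i : Idx m → F) = bas i := by
      intro i e
      rw [hr, map_mul, map_inv, mul_smul, e, inv_smul_smul]
    have r0 := fix _ (e0.trans f0.symm)
    have r1 := fix _ (e1.trans f1.symm)
    have key : ∀ i : Fin m, monSp r • (bas (.inl i) : Idx m → F) = bas (.inl i) →
        r.right i = i ∧ r.left i = 1 := by
      intro i e
      rw [monSp_smul] at e
      have hi : r.right i = i := by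
        by_contra hne
        have h2 : r.right.symm i ≠ i := fun h => hne (by rw [← h, Equiv.apply_symm_apply, h])
        have := congrFun e (.inl i)
        simp [h2] at this
      have hi' : r.right.symm i = i := by rw [Equiv.symm_apply_eq, hi]
      have e00 := congrFun e (.inl i)
      have e10 := congrFun e (.inr i)
      simp [hi'] at e00 e10
      refine ⟨hi, Subtype.ext (Subtype.ext ?_)⟩
      have hd := ((r.left i : SL(2, F))).2
      rw [Matrix.det_fin_two, e00, e10, one_mul, mul_zero, sub_zero] at hd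
      have h01 : (r.left i : SL(2, F)) 0 1 = 0 := by
        rcases (r.left i).2 with ⟨h, -⟩ | ⟨h, -⟩
        · exact h
        · rw [e00] at h; exact absurd h one_ne_zero
      ext a b
      fin_cases a <;> fin_cases b <;> simp [e00, e10, hd, h01]
    obtain ⟨s0, l0⟩ := key _ r0
    obtain ⟨s1, l1⟩ := key _ r1
    have hout : ∀ i, i ≠ o0 hm → i ≠ o1 hm → ∀ g, Commute (plane hm Φ π i g) y := by
      intro i h0 h1 g
      have h3 : 3 ≤ m := by
        by_contra h
        have := i.2
        have a0 : i.val ≠ 0 := fun e => h0 (Fin.ext e)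
        have a1 : i.val ≠ 1 := fun e => h1 (Fin.ext e)
        omega
      set σ := Equiv.swap (Fin.castLE h3 2) i
      have hσ0 : σ (o0 hm) = o0 hm := Equiv.swap_apply_of_ne_of_ne (by simp [Fin.ext_iff]) (Ne.symm h0)
      have hσ1 : σ (o1 hm) = o1 hm := Equiv.swap_apply_of_ne_of_ne (by simp [Fin.ext_iff]) (Ne.symm h1)
      have hcy : π σ * y * (π σ)⁻¹ = y := by rw [(R.rels.stab01 σ hσ0 hσ1).eq, mul_inv_cancel_right]
      have := (R.rels.out h3 g).map (MulAut.conj (π σ))
      simp only [MulAut.conj_apply, hcy] at this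
      rwa [← plane_apply, plane_perm R, Equiv.swap_apply_left] at this
    have hleft : Commute (planes R r.left) y := by
      let C : Submonoid (Fin m → Mon2 F) := (Subgroup.centralizer {y}).toSubmonoid.comap (planes R)
      have hmem : r.left ∈ C := Submonoid.pi_mem_of_mulSingle_mem r.left fun i => by
        show planes R _ ∈ Subgroup.centralizer {y}
        rw [Subgroup.mem_centralizer_singleton_iff]
        by_cases h0 : i = o0 hm
        · rw [h0, l0]; simp
        by_cases h1 : i = o1 hm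
        · rw [h1, l1]; simp
        rw [planes_single]
        exact (hout i h0 h1 _).eq
      exact (Subgroup.mem_centralizer_singleton_iff).1 hmem
    have e : q = d * r := by rw [hr, mul_inv_cancel_left]
    rw [e, map_mul, lift_apply R r]
    exact (dg_commute R u).mul_left (hleft.mul_left (R.rels.stab01 _ s0 s1))
  obtain ⟨γ, a, ha, e0, -⟩ := mono p (.inl (o0 hm))
  obtain ⟨δ, b, hb, e1, -⟩ := mono p (.inl (o1 hm))
  have hne : (Sum.inl (o0 hm) : Idx m) ≠ .inl (o1 hm) := by simp [o0_ne_o1 hm]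
  have hγδ : γ ≠ δ := by
    intro h
    subst h
    have e : monSp p • (bas (.inl (o0 hm)) : Idx m → F) = monSp p • ((a * b⁻¹) • bas (.inl (o1 hm))) := by
      rw [smul_comm, e1, e0, smul_smul, mul_assoc, inv_mul_cancel₀ hb, mul_one]
    have := congrFun (MulAction.injective (monSp p) e) (.inl (o0 hm))
    simp [o0_ne_o1 hm] at this
  have hX : X γ δ (1 * a * b⁻¹) = y0 (F := F) hm := by
    rw [← monSp_conj p hne ha e0 e1, hp.eq, mul_inv_cancel_right]
  have hv := congrArg (fun g => g • (bas δ : Idx m → F)) hX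
  simp only [X_smul hγδ, X_smul hne, one_mul] at hv
  have cases' : (γ = .inl (o0 hm) ∧ δ = .inl (o1 hm) ∧ a = b) ∨
      (γ = .inr (o1 hm) ∧ δ = .inr (o0 hm) ∧ a = -b) := by
    have hab : a * b⁻¹ ≠ 0 := mul_ne_zero ha (inv_ne_zero hb)
    have h1 := congrFun hv γ
    have hL : (if δ = op γ then (0 : Idx m → F) else
        Pi.single (op δ) (-(wt γ * wt δ) * (a * b⁻¹) * (bas δ : Idx m → F) (op γ))) = 0 := by
      split_ifs with hl
      · rfl
      · simp [Ne.symm hl]
    rw [hL] at h1
    have hlong : (Sum.inl (o1 hm) : Idx m) ≠ op (.inl (o0 hm)) := by simp [op]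
    simp only [Pi.add_apply, Pi.zero_apply, add_zero, Pi.single_eq_same, mul_one, if_neg hlong] at h1
    simp only [Pi.single_eq_of_ne hγδ, zero_add] at h1
    rcases eq_or_ne δ (.inl (o1 hm)) with hd | hd
    · subst hd
      left
      rcases eq_or_ne γ (.inl (o0 hm)) with hg | hg
      · subst hg
        refine ⟨rfl, rfl, ?_⟩
        simp [o0_ne_o1 hm, (o0_ne_o1 hm).symm, op] at h1
        exact mul_inv_eq_one₀ hb |>.1 h1
      · exfalso
        simp [hg, hγδ, op, o0_ne_o1 hm, (o0_ne_o1 hm).symm, hab, ha, hb] at h1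
    rcases eq_or_ne δ (.inr (o0 hm)) with hd' | hd'
    · subst hd'
      right
      rcases eq_or_ne γ (.inr (o1 hm)) with hg | hg
      · subst hg
        refine ⟨rfl, rfl, ?_⟩
        simp [o0_ne_o1 hm, (o0_ne_o1 hm).symm, op, wt] at h1
        rw [mul_inv_eq_iff_eq_mul₀ hb] at h1
        linear_combination h1
      · exfalso
        simp [hg, hγδ, op, o0_ne_o1 hm, (o0_ne_o1 hm).symm, hab, ha, hb] at h1
    · exfalso
      simp [hγδ, Ne.symm hd, Ne.symm hd', hab, ha, hb, op] at h1
  rcases cases' with ⟨rfl, rfl, hab⟩ | ⟨rfl, rfl, hab⟩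
  · exact main p a b ha hab e0 e1
  · set W := pair2 hm (ad (-1 : Fˣ)) (ad 1) (sw hm) with hWdef
    have W0 := rev_images (F := F) hm
    have := main (W⁻¹ * p) a (-b) ha hab ?_ ?_
    · rw [show p = W * (W⁻¹ * p) by group, map_mul]
      refine Commute.mul_left ?_ this
      rw [lift_pair2]
      exact R.rels.rev
    · rw [map_mul, map_inv, mul_smul, e0, ← W0.1, smul_comm, inv_smul_smul]
    · rw [map_mul, map_inv, mul_smul, e1, show b • (bas (.inr (o0 hm)) : Idx m → F) =
        (-b) • monSp W • (bas (.inl (o1 hm)) : Idx m → F) by rw [W0.2, smul_smul]; simp, smul_comm,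
        inv_smul_smul]

end Lift

end CfsgLib.SpPres
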