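import Cfsg.Agent.Lib.Linear.Symplectic
import Cfsg.Agent.Lib.Linear.SympThreeConj
import Cfsg.Agent.Lib.PresentSL2.Target

/-!
Root elements and monomial elements of the symplectic group in coordinates.
-/

set_option autoImplicit false

namespace CfsgLib.SpPres

open Matrix Cfsg CfsgLib.Linear.Symp CfsgLib.Linear.SympReg
open scoped MatrixGroups

/-- The indices of the standard basis. -/
abbrev Idx (m : ℕ) : Type := Fin m ⊕ Fin m

/-- The opposite index. -/
abbrev op {m : ℕ} : Idx m → Idx m := Sum.swap

/-- The hyperbolic plane of an index. -/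
def base {m : ℕ} : Idx m → Fin m := Sum.elim id id

variable {F : Type*} [Field F] {m : ℕ}

/-- The sign of an index. -/
def wt : Idx m → F := Sum.elim (fun _ => 1) fun _ => -1

/-- The standard basis. -/
abbrev bas (α : Idx m) : Idx m → F := Pi.single α 1

theorem op_ne (α : Idx m) : op α ≠ α := by cases α <;> simp [op]

theorem wt_sq (α : Idx m) : (wt α : F) * wt α = 1 := by cases α <;> simp [wt]

theorem wt_op (α : Idx m) : (wt (op α) : F) = -wt α := by cases α <;> simp [wt, op]

theorem wt_ne (α : Idx m) : (wt α : F) ≠ 0 := by cases α <;> simp [wt]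

theorem base_op (α : Idx m) : base (op α) = base α := by cases α <;> rfl

theorem eq_or_eq_op {α β : Idx m} (h : base α = base β) : α = β ∨ α = op β := by
  cases α <;> cases β <;> simp_all [base, op]

theorem form_bas (v : Idx m → F) (α : Idx m) : sympForm m F v (bas α) = v (op α) * wt α := by
  cases α with
  | inl j => rw [form_single_inl]; simp [wt, op]
  | inr j => rw [form_single_inr]; simp [wt, op]

theorem form_bas_bas {α β : Idx m} (h : α ≠ op β) : sympForm m F (bas α) (bas β) = 0 := by
  rw [form_bas]
  simp [Ne.symm h]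

/-- The Eichler element of two perpendicular vectors. -/
def eich (a b : Idx m → F) (s : F) : symplecticGroup (Fin m) F :=
  tv (a + b) s * tv a (-s) * tv b (-s)

theorem eich_smul {a b : Idx m → F} (h : sympForm m F a b = 0) (s : F) (v : Idx m → F) :
    eich a b s • v = v + (s * sympForm m F v b) • a + (s * sympForm m F v a) • b := by
  simp only [eich, mul_smul, tv_smul, form_add_left, form_add_right, form_smul_left, form_self, h,
    show sympForm m F b a = 0 by rw [form_swap, h, neg_zero]]
  module

theorem eich_conj (g : symplecticGroup (Fin m) F) (a b : Idx m → F) (s : F) :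
    g * eich a b s * g⁻¹ = eich (g • a) (g • b) s := by
  rw [eich, eich, ← smul_add, ← tv_conj, ← tv_conj, ← tv_conj]
  group

theorem eich_smul_smul {a b : Idx m → F} (h : sympForm m F a b = 0) (x y s : F) :
    eich (x • a) (y • b) s = eich a b (x * y * s) := by
  have h' : sympForm m F (x • a) (y • b) = 0 := by rw [form_smul_left, form_smul_right, h, mul_zero, mul_zero]
  refine group_ext fun v => ?_
  rw [eich_smul h', eich_smul h, form_smul_right, form_smul_right]
  module

/-- The root elements. -/
def X (α β : Idx m) (t : F) : symplecticGroup (Fin m) F :=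
  if β = op α then tv (bas α) (t * wt α) else eich (bas α) (bas (op β)) (t * wt (op β))

theorem X_smul {α β : Idx m} (h : α ≠ β) (t : F) (v : Idx m → F) :
    X α β t • v = v + Pi.single α (t * v β) +
      (if β = op α then 0 else Pi.single (op β) (-(wt α * wt β) * t * v (op α))) := by
  unfold X
  split_ifs with hb
  · subst hb
    rw [tv_smul, form_bas, ← Pi.single_smul', smul_eq_mul, add_zero,
      show t * wt α * (v (op α) * wt α) * 1 = t * v (op α) by linear_combination t * v (op α) * wt_sq (F := F) α]
  · rw [eich_smul (form_bas_bas (by simpa [op] using h)), form_bas, form_bas,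
      ← Pi.single_smul', ← Pi.single_smul', smul_eq_mul, smul_eq_mul]
    congr 1
    · congr 2
      simp only [op, Sum.swap_swap]
      linear_combination t * v β * wt_sq (F := F) (op β)
    · congr 1
      rw [wt_op]
      ring

theorem X_add {α β : Idx m} (h : α ≠ β) (t u : F) : X α β t * X α β u = X α β (t + u) := by
  refine group_ext fun v => ?_
  have h1 := op_ne α
  have h2 := op_ne β
  simp only [mul_smul, X_smul h]
  split_ifs with hb
  · subst hb
    funext z
    by_cases z1 : z = α <;> simp [z1, h.symm, h1, h1.symm]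
    ring
  · have hb' : α ≠ op β := fun e => hb (by simp [e, op])
    have h3 : op α ≠ op β := fun e => h (Sum.swap_leftInverse.injective e)
    funext z
    by_cases z1 : z = α <;> by_cases z2 : z = op β <;>
      simp_all [h.symm, hb'.symm, h1.symm, h2.symm, h3.symm, Ne.symm hb] <;> ring

theorem X_zero {α β : Idx m} (h : α ≠ β) : X α β (0 : F) = 1 := by
  have e := X_add h (0 : F) 0
  rwa [add_zero, mul_eq_left] at e

theorem X_sym {α β : Idx m} (h : α ≠ β) (hb : β ≠ op α) (t : F) :
    X (op β) (op α) (-(wt α * wt β) * t) = X α β t := by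
  have h3 : op β ≠ op α := fun e => h (Sum.swap_leftInverse.injective e).symm
  have hb' : op α ≠ op (op β) := by simpa [op] using Ne.symm hb
  refine group_ext fun v => ?_
  rw [X_smul h, X_smul h3, if_neg hb, if_neg hb', wt_op, wt_op]
  simp only [op, Sum.swap_swap]
  rw [show -(-wt β * -wt α) * (-(wt α * wt β) * t) * v β = t * v β by
    linear_combination (t * v β * wt β * wt β) * wt_sq (F := F) α + t * v β * wt_sq (F := F) β]
  abel

/-! ### Monomial elements -/

/-- Monomial elements of `SL₂`. -/
def Mon2 (F : Type*) [Field F] : Subgroup SL(2, F) where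
  carrier := {g | (g 0 1 = 0 ∧ g 1 0 = 0) ∨ (g 0 0 = 0 ∧ g 1 1 = 0)}
  one_mem' := Or.inl ⟨by simp, by simp⟩
  mul_mem' {g h} hg hh := by
    simp only [Set.mem_setOf_eq, Matrix.SpecialLinearGroup.coe_mul, Matrix.mul_apply, Fin.sum_univ_two]
    rcases hg with ⟨a, b⟩ | ⟨a, b⟩ <;> rcases hh with ⟨c, d⟩ | ⟨c, d⟩ <;> simp [a, b, c, d]
  inv_mem' {g} hg := by
    simp only [Set.mem_setOf_eq, Matrix.SpecialLinearGroup.coe_inv, Matrix.adjugate_fin_two_of,
      Matrix.adjugate_fin_two] at hg ⊢
    rcases hg with ⟨a, b⟩ | ⟨a, b⟩ <;> simp [a, b]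

/-- The diagonal element. -/
def dg (a : Fˣ) : Mon2 F :=
  ⟨⟨!![(a : F), 0; 0, ((a⁻¹ : Fˣ) : F)], by simp [Matrix.det_fin_two]⟩, Or.inl ⟨rfl, rfl⟩⟩

/-- The antidiagonal element. -/
def ad (a : Fˣ) : Mon2 F :=
  ⟨⟨!![0, -((a⁻¹ : Fˣ) : F); (a : F), 0], by simp [Matrix.det_fin_two]⟩, Or.inr ⟨rfl, rfl⟩⟩

variable (m F)

/-- The monomial group. -/
def permAct : Equiv.Perm (Fin m) →* MulAut (Fin m → Mon2 F) where
  toFun σ :=
    { toFun := fun f i => f (σ.symm i)
      invFun := fun f i => f (σ i)
      left_inv := fun f => by funext i; simp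
      right_inv := fun f => by funext i; simp
      map_mul' := fun _ _ => rfl }
  map_one' := rfl
  map_mul' σ τ := rfl

/-- The monomial group. -/
abbrev MonP := (Fin m → Mon2 F) ⋊[permAct F m] Equiv.Perm (Fin m)

variable {m F}

/-- The block diagonal matrix of a family in `SL₂`. -/
def allMat (f : Fin m → SL(2, F)) : Matrix (Idx m) (Idx m) F :=
  fromBlocks (diagonal fun i => f i 0 0) (diagonal fun i => f i 0 1)
    (diagonal fun i => f i 1 0) (diagonal fun i => f i 1 1)

theorem allMat_mulVec (f : Fin m → SL(2, F)) (v : Idx m → F) :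
    allMat f *ᵥ v = Sum.elim (fun i => f i 0 0 * v (.inl i) + f i 0 1 * v (.inr i))
      (fun i => f i 1 0 * v (.inl i) + f i 1 1 * v (.inr i)) := by
  rw [allMat, fromBlocks_mulVec]
  funext z
  cases z <;> simp [mulVec_diagonal]

/-- A family in `SL₂` acting on the hyperbolic planes. -/
def allHom : (Fin m → SL(2, F)) →* symplecticGroup (Fin m) F where
  toFun f := ⟨allMat f, mem_of_form_mulVec fun u v => by
    rw [sympForm_eq_sum, sympForm_eq_sum]
    refine Finset.sum_congr rfl fun i _ => ?_
    simp only [allMat_mulVec, Sum.elim_inl, Sum.elim_inr]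
    have hd := (f i).2
    rw [Matrix.det_fin_two] at hd
    linear_combination (u (.inr i) * v (.inl i) - u (.inl i) * v (.inr i)) * hd⟩
  map_one' := group_ext fun v => by
    rw [smul_def, one_smul]
    show allMat _ *ᵥ v = v
    rw [allMat_mulVec]
    funext z
    cases z <;> simp
  map_mul' f g := group_ext fun v => by
    rw [mul_smul, smul_def, smul_def, smul_def]
    show allMat _ *ᵥ v = allMat f *ᵥ (allMat g *ᵥ v)
    simp only [allMat_mulVec]
    funext z
    cases z <;> simp [Matrix.SpecialLinearGroup.coe_mul, Matrix.mul_apply, Fin.sum_univ_two] <;> ring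

theorem allHom_smul (f : Fin m → SL(2, F)) (v : Idx m → F) :
    allHom f • v = Sum.elim (fun i => f i 0 0 * v (.inl i) + f i 0 1 * v (.inr i))
      (fun i => f i 1 0 * v (.inl i) + f i 1 1 * v (.inr i)) :=
  allMat_mulVec f v

theorem allHom_single (i : Fin m) (g : SL(2, F)) :
    allHom (Pi.mulSingle i g) = planeHom i g := by
  refine group_ext fun v => ?_
  rw [allHom_smul, planeHom_smul]
  funext z
  rcases z with j | j <;> by_cases h : j = i <;> simp [h, Pi.mulSingle_apply, eA, eB] <;> ring

/-- The permutation of the hyperbolic planes. -/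
def permSp : Equiv.Perm (Fin m) →* symplecticGroup (Fin m) F where
  toFun σ := ⟨((Equiv.sumCongr σ σ).symm.toPEquiv.toMatrix : Matrix (Idx m) (Idx m) F),
    mem_of_form_mulVec fun u v => by
      rw [sympForm_eq_sum, sympForm_eq_sum, PEquiv.toMatrix_toPEquiv_mulVec, PEquiv.toMatrix_toPEquiv_mulVec]
      exact Equiv.sum_comp σ.symm (fun i => u (.inr i) * v (.inl i) - u (.inl i) * v (.inr i))⟩
  map_one' := group_ext fun v => by
    rw [smul_def, one_smul]
    show _ *ᵥ v = v
    rw [PEquiv.toMatrix_toPEquiv_mulVec]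
    funext z
    cases z <;> simp [Equiv.Perm.one_def]
  map_mul' σ τ := group_ext fun v => by
    rw [mul_smul, smul_def, smul_def, smul_def]
    show _ *ᵥ v = _ *ᵥ (_ *ᵥ v)
    simp only [PEquiv.toMatrix_toPEquiv_mulVec]
    funext z
    cases z <;> simp [Equiv.Perm.mul_def]

theorem permSp_smul (σ : Equiv.Perm (Fin m)) (v : Idx m → F) :
    (permSp σ : symplecticGroup (Fin m) F) • v = v ∘ (Equiv.sumCongr σ σ).symm :=
  PEquiv.toMatrix_toPEquiv_mulVec _ v

theorem permSp_allHom (σ : Equiv.Perm (Fin m)) (f : Fin m → SL(2, F)) :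
    permSp σ * allHom f * (permSp σ)⁻¹ = allHom fun i => f (σ.symm i) := by
  rw [mul_inv_eq_iff_eq_mul]
  refine group_ext fun v => ?_
  rw [mul_smul, mul_smul, permSp_smul, allHom_smul, allHom_smul, permSp_smul]
  funext z
  cases z <;> simp

/-- The monomial elements of the symplectic group. -/
def monSp : MonP F m →* symplecticGroup (Fin m) F :=
  SemidirectProduct.lift (allHom.comp (MonoidHom.compLeft (Mon2 F).subtype (Fin m))) permSp fun σ => by
    refine MonoidHom.ext fun f => ?_
    show allHom _ = permSp σ * allHom _ * (permSp σ)⁻¹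
    rw [permSp_allHom]
    rfl

theorem monSp_apply (p : MonP F m) :
    monSp p = allHom (fun i => (p.left i : SL(2, F))) * permSp p.right := rfl

theorem monSp_smul (p : MonP F m) (v : Idx m → F) :
    monSp p • v = Sum.elim
      (fun i => (p.left i : SL(2, F)) 0 0 * v (.inl (p.right.symm i)) +
        (p.left i : SL(2, F)) 0 1 * v (.inr (p.right.symm i)))
      (fun i => (p.left i : SL(2, F)) 1 0 * v (.inl (p.right.symm i)) +
        (p.left i : SL(2, F)) 1 1 * v (.inr (p.right.symm i))) := by
  rw [monSp_apply, mul_smul, permSp_smul, allHom_smul]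
  rfl

theorem mono (p : MonP F m) (α : Idx m) : ∃ β : Idx m, ∃ a : F, a ≠ 0 ∧
    monSp p • (bas α : Idx m → F) = a • bas β ∧
    monSp p • (bas (op α) : Idx m → F) = (wt α * wt β * a⁻¹) • bas (op β) := by
  set j := p.right (base α)
  obtain ⟨hj, hd⟩ : (_ ∧ _) := ⟨(p.left j).2, ((p.left j : SL(2, F))).2⟩
  rw [Matrix.det_fin_two] at hd
  change (_ ∨ _) at hj
  rcases α with i | i
  all_goals
    rcases hj with ⟨e1, e2⟩ | ⟨e1, e2⟩
    all_goals simp only [e1, e2, mul_zero, zero_mul, sub_zero, zero_sub] at hd
  · refine ⟨.inl j, (p.left j : SL(2, F)) 0 0, left_ne_zero_of_mul_eq_one hd, ?_, ?_⟩ <;>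
    · rw [monSp_smul]
      have hne := left_ne_zero_of_mul_eq_one hd
      funext z
      rcases z with z | z <;> by_cases h : z = j <;>
        simp_all [j, base, op, wt, Equiv.symm_apply_eq] <;> field_simp <;> first | linear_combination hd | linear_combination -hd
  · have hd' : (p.left j : SL(2, F)) 1 0 * -(p.left j : SL(2, F)) 0 1 = 1 := by linear_combination hd
    refine ⟨.inr j, (p.left j : SL(2, F)) 1 0, left_ne_zero_of_mul_eq_one hd', ?_, ?_⟩ <;>
    · rw [monSp_smul]
      have hne := left_ne_zero_of_mul_eq_one hd'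
      funext z
      rcases z with z | z <;> by_cases h : z = j <;>
        simp_all [j, base, op, wt, Equiv.symm_apply_eq] <;> field_simp <;> first | linear_combination hd | linear_combination -hd
  · refine ⟨.inr j, (p.left j : SL(2, F)) 1 1, right_ne_zero_of_mul_eq_one hd, ?_, ?_⟩ <;>
    · rw [monSp_smul]
      have hne := right_ne_zero_of_mul_eq_one hd
      funext z
      rcases z with z | z <;> by_cases h : z = j <;>
        simp_all [j, base, op, wt, Equiv.symm_apply_eq] <;> field_simp <;> first | linear_combination hd | linear_combination -hd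
  · have hd' : -(p.left j : SL(2, F)) 1 0 * (p.left j : SL(2, F)) 0 1 = 1 := by linear_combination hd
    refine ⟨.inl j, (p.left j : SL(2, F)) 0 1, right_ne_zero_of_mul_eq_one hd', ?_, ?_⟩ <;>
    · rw [monSp_smul]
      have hne := right_ne_zero_of_mul_eq_one hd'
      funext z
      rcases z with z | z <;> by_cases h : z = j <;>
        simp_all [j, base, op, wt, Equiv.symm_apply_eq] <;> field_simp <;> first | linear_combination hd | linear_combination -hd

theorem mono_unique {β β' : Idx m} {a a' : F} (ha : a ≠ 0) (h : a • (bas β : Idx m → F) = a' • bas β') :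
    β = β' ∧ a = a' := by
  have e := congrFun h β
  by_cases hb : β = β'
  · subst hb
    exact ⟨rfl, by simpa using e⟩
  · simp [hb, ha] at e

/-- Conjugation of root elements by monomial elements. -/
theorem monSp_conj (p : MonP F m) {α β α' β' : Idx m} {a b : F} (h : α ≠ β) (ha : a ≠ 0)
    (e1 : monSp p • (bas α : Idx m → F) = a • bas α')
    (e2 : monSp p • (bas β : Idx m → F) = b • bas β') (t : F) :
    monSp p * X α β t * (monSp p)⁻¹ = X α' β' (t * a * b⁻¹) := by
  obtain ⟨γ, c, hc, f1, f2⟩ := mono p β
  obtain ⟨rfl, rfl⟩ := mono_unique hc (f1.symm.trans e2)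
  obtain ⟨γ', c', hc', g1, g2⟩ := mono p α
  obtain ⟨rfl, rfl⟩ := mono_unique hc' (g1.symm.trans e1)
  unfold X
  by_cases hb : β = op α
  · subst hb
    obtain ⟨hγ, hb'⟩ := mono_unique hc (f1.symm.trans g2)
    rw [if_pos rfl, if_pos hγ, tv_conj, e1, tv_smul_vec]
    congr 1
    rw [hb', mul_inv, mul_inv, inv_inv, inv_eq_of_mul_eq_one_right (wt_sq α),
      inv_eq_of_mul_eq_one_right (wt_sq γ')]
    linear_combination (-(c' * c' * t * wt α)) * wt_sq (F := F) γ'
  · have hb' : γ ≠ op γ' := by
      intro e
      have e1' : monSp p • (bas β : Idx m → F) = (c * (wt α * wt γ' * c'⁻¹)⁻¹) •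
          monSp p • (bas (op α) : Idx m → F) := by
        rw [f1, g2, e, smul_smul]
        congr 1
        field_simp [wt_ne]
      rw [← smul_comm (monSp p)] at e1'
      have := congrFun (MulAction.injective (monSp p) e1') β
      simp [hb] at this
    rw [if_neg hb, if_neg hb', eich_conj, g1, f2]
    rw [eich_smul_smul (form_bas_bas ?_)]
    · congr 1
      rw [wt_op, wt_op]
      linear_combination (-(c' * c⁻¹ * t * wt γ)) * wt_sq (F := F) β
    · intro e
      have e' : γ' = γ := by simpa [op] using e
      subst e'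
      have e1' : monSp p • (bas α : Idx m → F) = (c' * c⁻¹) • monSp p • (bas β : Idx m → F) := by
        rw [g1, f1, smul_smul, mul_assoc, inv_mul_cancel₀ hc, mul_one]
      rw [← smul_comm (monSp p)] at e1'
      have := congrFun (MulAction.injective (monSp p) e1') α
      simp [h] at this

/-- Monomial elements realising prescribed images of the first basis vectors. -/
theorem exists_mono {k : ℕ} (hk : k ≤ m) (idx : Fin k → Idx m)
    (hinj : Function.Injective fun j => base (idx j)) (a : Fin k → F) (ha : ∀ j, a j ≠ 0) :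
    ∃ p : MonP F m, ∀ j, monSp p • (bas (.inl (Fin.castLE hk j)) : Idx m → F) = a j • bas (idx j) := by
  classical
  obtain ⟨σ, hσ⟩ : ∃ σ : Equiv.Perm (Fin m), ∀ j, σ (Fin.castLE hk j) = base (idx j) := by
    let e : {z // z ∈ Set.range (Fin.castLE hk)} ≃ {z // z ∈ Set.range fun j => base (idx j)} :=
      (Equiv.ofInjective _ (Fin.castLE_injective hk)).symm.trans (Equiv.ofInjective _ hinj)
    refine ⟨e.extendSubtype, fun j => ?_⟩
    rw [Equiv.extendSubtype_apply_of_mem _ _ ⟨j, rfl⟩]
    show ((e ⟨Fin.castLE hk j, _⟩ : {z // z ∈ Set.range fun j => base (idx j)}) : Fin m) = _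
    simp [e, Equiv.ofInjective_symm_apply (Fin.castLE_injective hk) j]
  let val : Fin k → Mon2 F := fun j =>
    Sum.elim (fun _ => dg (Units.mk0 (a j) (ha j))) (fun _ => ad (Units.mk0 (a j) (ha j))) (idx j)
  refine ⟨⟨Function.extend (fun j => base (idx j)) val 1, σ⟩, fun j => ?_⟩
  rw [monSp_smul]
  funext z
  have hz : ∀ i : Fin m, σ.symm i = Fin.castLE hk j ↔ i = base (idx j) := fun i => by
    rw [Equiv.symm_apply_eq, hσ]
  rcases z with i | i <;>
  · simp only [Sum.elim_inl, Sum.elim_inr, Pi.smul_apply, Pi.single_apply, reduceCtorEq, Sum.inl.injEq,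
      hz, if_false, mul_zero, add_zero, smul_eq_mul]
    by_cases h : i = base (idx j)
    · subst h
      rw [hinj.extend_apply]
      rcases hh : idx j with l | l <;> simp [val, hh, dg, ad, base]
    · rw [if_neg h, mul_zero]
      rcases hh : idx j with l | l <;> simp_all [base]

end CfsgLib.SpPres
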