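import Cfsg.Agent.Lib.BoundedPres.SpTarget
import Cfsg.Agent.Lib.BoundedPres.On
import Cfsg.Agent.Lib.BoundedPres.SLnMat
import Cfsg.Agent.Lib.BoundedPres.PSL

/-!
The symplectic groups have presentations with six generators and a bounded number of relations.
-/

set_option autoImplicit false

namespace CfsgLib.SpPres

open Matrix Cfsg CfsgLib.Linear.Symp CfsgLib.Linear.SympReg CfsgLib.Linear.Dickson CfsgLib.BoundedPres
open scoped MatrixGroups

theorem perm_two_gen (k : ℕ) :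
    ∃ a b : Equiv.Perm (Fin k), Subgroup.closure ({a, b} : Set (Equiv.Perm (Fin k))) = ⊤ := by
  cases k with
  | zero => exact ⟨1, 1, Subsingleton.elim _ _⟩
  | succ N => exact ⟨_, _, closure_two_swN N⟩

/-- The permutations fixing a set pointwise are generated by two of them. -/
theorem exists_fix_gens {α : Type*} [Fintype α] [DecidableEq α] (p : α → Prop) [DecidablePred p] :
    ∃ a b : Equiv.Perm α, (∀ x, ¬p x → a x = x) ∧ (∀ x, ¬p x → b x = x) ∧
      ∀ σ : Equiv.Perm α, (∀ x, ¬p x → σ x = x) → σ ∈ Subgroup.closure ({a, b} : Set (Equiv.Perm α)) := by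
  obtain ⟨a, b, hab⟩ := perm_two_gen (Fintype.card {x // p x})
  let e : Equiv.Perm (Fin (Fintype.card {x // p x})) →* Equiv.Perm α :=
    Equiv.Perm.ofSubtype.comp (Fintype.equivFin {x // p x}).symm.permCongrHom.toMonoidHom
  refine ⟨e a, e b, fun x hx => Equiv.Perm.ofSubtype_apply_of_not_mem _ hx,
    fun x hx => Equiv.Perm.ofSubtype_apply_of_not_mem _ hx, fun σ hσ => ?_⟩
  rw [← Set.image_pair, ← MonoidHom.map_closure, hab]
  have hp : ∀ x, p (σ x) ↔ p x := fun x => by
    constructor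
    · intro h; by_contra hx; rw [hσ x hx] at h; exact hx h
    · intro h; by_contra hx
      exact hx (by rw [σ.injective (hσ _ hx)]; exact h)
  refine ⟨(Fintype.equivFin {x // p x}).symm.permCongrHom.symm (Equiv.Perm.subtypePerm σ hp), trivial, ?_⟩
  show Equiv.Perm.ofSubtype _ = σ
  rw [show (Fintype.equivFin {x // p x}).symm.permCongrHom.toMonoidHom
    ((Fintype.equivFin {x // p x}).symm.permCongrHom.symm (Equiv.Perm.subtypePerm σ hp)) =
      Equiv.Perm.subtypePerm σ hp from MulEquiv.apply_symm_apply _ _]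
  exact Equiv.Perm.ofSubtype_subtypePerm _ fun x hx => by_contra fun h => hx (hσ x h)

variable {F : Type*} [Field F] [Fintype F]

theorem SL2_two_gen : ∃ a b : SL(2, F), Subgroup.closure ({a, b} : Set SL(2, F)) = ⊤ := by
  by_cases hq : 4 ≤ Fintype.card F
  · exact SL2_two_generated hq
  refine ⟨up 1, lo 1, CfsgLib.Linear.SL_eq_top_of_transvection_mem _ fun i j hij c => ?_⟩
  set H := Subgroup.closure ({up (1 : F), lo 1} : Set SL(2, F))
  have hc : c = 0 ∨ c = 1 ∨ c = -1 := by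
    by_cases h0 : c = 0
    · exact Or.inl h0
    have h := FiniteField.pow_card_sub_one_eq_one c h0
    have h1 : 1 < Fintype.card F := Fintype.one_lt_card
    obtain h2 | h2 : Fintype.card F = 2 ∨ Fintype.card F = 3 := by omega
    · rw [h2, show 2 - 1 = 1 from rfl, pow_one] at h
      exact Or.inr (Or.inl h)
    · rw [h2, show 3 - 1 = 2 from rfl] at h
      exact Or.inr (sq_eq_one_iff.1 h)
  have key : Matrix.SpecialLinearGroup.transvection hij (1 : F) ∈ H → ∀ c : F, (c = 0 ∨ c = 1 ∨ c = -1) →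
      Matrix.SpecialLinearGroup.transvection hij c ∈ H := by
    intro h c hc
    rcases hc with rfl | rfl | rfl
    · have e : Matrix.SpecialLinearGroup.transvection hij (0 : F) = 1 := by
        apply Subtype.ext
        simp [Matrix.SpecialLinearGroup.transvection_coe]
      rw [e]; exact one_mem H
    · exact h
    · have e : Matrix.SpecialLinearGroup.transvection hij (-1 : F) =
          (Matrix.SpecialLinearGroup.transvection hij (1 : F))⁻¹ := by
        rw [eq_inv_iff_mul_eq_one]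
        apply Subtype.ext
        rw [Matrix.SpecialLinearGroup.coe_mul, Matrix.SpecialLinearGroup.transvection_coe,
          Matrix.SpecialLinearGroup.transvection_coe]
        ext a b
        fin_cases i <;> fin_cases j <;> fin_cases a <;> fin_cases b <;>
          first | exact absurd rfl hij | simp_all [Matrix.mul_apply, Fin.sum_univ_two]
      rw [e]; exact inv_mem h
  refine key ?_ c hc
  fin_cases i <;> fin_cases j
  · exact absurd rfl hij
  · exact Subgroup.subset_closure (Or.inl rfl)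
  · exact Subgroup.subset_closure (Or.inr rfl)
  · exact absurd rfl hij

variable {m : ℕ}

/-- The relations, from finitely many instances. -/
theorem rels_of {G : Type*} [Group G] (hm : 2 ≤ m) {Φ : SL(2, F) →* G} {π : Equiv.Perm (Fin m) →* G}
    {y : G} {w : Fˣ} {a b : SL(2, F)} (hab : Subgroup.closure ({a, b} : Set SL(2, F)) = ⊤)
    {s1 s2 t1 t2 : Equiv.Perm (Fin m)}
    (hs : ∀ σ : Equiv.Perm (Fin m), σ (o0 hm) = o0 hm → σ ∈ Subgroup.closure ({s1, s2} : Set (Equiv.Perm (Fin m))))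
    (ht : ∀ σ : Equiv.Perm (Fin m), σ (o0 hm) = o0 hm → σ (o1 hm) = o1 hm →
      σ ∈ Subgroup.closure ({t1, t2} : Set (Equiv.Perm (Fin m))))
    (h1 : ∀ s, (s = s1 ∨ s = s2) → ∀ g, (g = a ∨ g = b) → Commute (π s) (Φ g))
    (haa : Commute (Φ a) (sec hm Φ π a)) (hab' : Commute (Φ a) (sec hm Φ π b))
    (hbb : Commute (Φ b) (sec hm Φ π b))
    (h3 : ∀ t, (t = t1 ∨ t = t2) → Commute (π t) y)
    (h4 : ∀ h : 3 ≤ m, ∀ g, (g = a ∨ g = b) → Commute
      (π (Equiv.swap (o0 hm) (Fin.castLE h 2)) * Φ g * (π (Equiv.swap (o0 hm) (Fin.castLE h 2)))⁻¹) y)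
    (rev : Commute (word2 hm Φ π (ad (-1)) (ad 1) (sw hm)) y)
    (tor : Commute (word2 hm Φ π (dg w) (dg w) 1) y)
    (longI : ∀ c : Fˣ, c = 1 ∨ c = w → y * sec hm Φ π (up (c : F)) =
      conjy y (word2 hm Φ π (dg c) (ad 1) 1) * Φ (up (c : F)) * (sec hm Φ π (up (c : F)) * y))
    (longC : Commute y (Φ (up 1)))
    (shortL : y * conjy y (word2 hm Φ π (ad 1) (dg 1) (sw hm)) =
      Φ (up 2) * (conjy y (word2 hm Φ π (ad 1) (dg 1) (sw hm)) * y))
    (chain : ∀ h3 : 3 ≤ m,
      y * conjy y (π (sw hm * Equiv.swap (o1 hm) (Fin.castLE h3 2))) =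
        conjy y (π (Equiv.swap (o1 hm) (Fin.castLE h3 2))) *
          (conjy y (π (sw hm * Equiv.swap (o1 hm) (Fin.castLE h3 2))) * y))
    (share : ∀ h3 : 3 ≤ m, Commute y (conjy y (π (Equiv.swap (o1 hm) (Fin.castLE h3 2)))))
    (far : ∀ h4 : 4 ≤ m, Commute y (conjy y
      (π (Equiv.swap (o0 hm) (Fin.castLE h4 2) * Equiv.swap (o1 hm) (Fin.castLE h4 3)))))
    (weyl : y * conjy y (word2 hm Φ π (dg 1) (dg (-1)) (sw hm)) * y =
      word2 hm Φ π (dg 1) (dg (-1)) (sw hm)) : Rels hm Φ π y w := by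
  have gen : ∀ (f : SL(2, F) →* G) (z : G), Commute (f a) z → Commute (f b) z → ∀ g, Commute (f g) z := by
    intro f z ha hb g
    have hle : Subgroup.closure ({a, b} : Set SL(2, F)) ≤ (Subgroup.centralizer {z}).comap f := by
      rw [Subgroup.closure_le]
      rintro x (rfl | rfl)
      exacts [Subgroup.mem_centralizer_singleton_iff.2 ha.eq, Subgroup.mem_centralizer_singleton_iff.2 hb.eq]
    exact Subgroup.mem_centralizer_singleton_iff.1 (hle (hab ▸ Subgroup.mem_top g))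
  have genp : ∀ (s s' : Equiv.Perm (Fin m)) (z : G), Commute (π s) z → Commute (π s') z →
      ∀ σ ∈ Subgroup.closure ({s, s'} : Set (Equiv.Perm (Fin m))), Commute (π σ) z := by
    intro s s' z ha hb σ hσ
    have hle : Subgroup.closure ({s, s'} : Set (Equiv.Perm (Fin m))) ≤ (Subgroup.centralizer {z}).comap π := by
      rw [Subgroup.closure_le]
      rintro x (rfl | rfl)
      exacts [Subgroup.mem_centralizer_singleton_iff.2 ha.eq, Subgroup.mem_centralizer_singleton_iff.2 hb.eq]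
    exact Subgroup.mem_centralizer_singleton_iff.1 (hle hσ)
  let Φ1 : SL(2, F) →* G := (MulAut.conj (π (sw hm))).toMonoidHom.comp Φ
  have hΦ1 : ∀ g, Φ1 g = sec hm Φ π g := fun g => rfl
  have hba : Commute (Φ b) (sec hm Φ π a) := by
    have hs2 : π (sw hm) * π (sw hm) = 1 := by rw [← map_mul, Equiv.swap_mul_self, map_one]
    have := hab'.map (MulAut.conj (π (sw hm)))
    simp only [MulAut.conj_apply] at this
    have e : π (sw hm) * sec hm Φ π b * (π (sw hm))⁻¹ = Φ b := by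
      rw [sec, inv_eq_of_mul_eq_one_right hs2]
      calc _ = (π (sw hm) * π (sw hm)) * Φ b * (π (sw hm) * π (sw hm)) := by group
        _ = _ := by rw [hs2, one_mul, mul_one]
    rw [e] at this
    exact this.symm
  refine ⟨fun σ hσ g => ?_, fun g h => ?_, fun σ h0 h1' => ?_, fun h g => ?_, rev, tor, longI, longC, shortL,
    chain, share, far, weyl⟩
  · have h2 := fun s hs' => (gen Φ (π s) (h1 s hs' a (Or.inl rfl)).symm (h1 s hs' b (Or.inr rfl)).symm g).symm
    exact genp s1 s2 (Φ g) (h2 s1 (Or.inl rfl)) (h2 s2 (Or.inr rfl)) σ (hs σ hσ)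
  · have ha' := gen Φ (sec hm Φ π a) haa hba
    have hb' := gen Φ (sec hm Φ π b) hab' hbb
    exact (gen Φ1 (Φ g) (ha' g).symm (hb' g).symm h).symm
  · exact genp t1 t2 y (h3 t1 (Or.inl rfl)) (h3 t2 (Or.inr rfl)) σ (ht σ h0 h1')
  · let Φ2 : SL(2, F) →* G := (MulAut.conj (π (Equiv.swap (o0 hm) (Fin.castLE h 2)))).toMonoidHom.comp Φ
    exact gen Φ2 y (h4 h a (Or.inl rfl)) (h4 h b (Or.inr rfl)) g

theorem presOn_SL2 : PresOn (Fin 3) SL(2, F) 9 := by
  obtain ⟨p, hp⟩ := CharP.exists F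
  haveI : Fact p.Prime := ⟨CharP.char_is_prime F p⟩
  by_cases h : p = 2
  · subst h
    obtain ⟨rels, hc, ⟨e⟩⟩ := PresentSL2.presentation_even (F := F)
    exact PresOn.of_iso rels (hc.trans (by norm_num)) e
  · obtain ⟨⟨rels, hc, ⟨e⟩⟩, -⟩ := PresentSL2.presentation_odd (F := F) (p := p) h
    exact PresOn.of_iso rels hc e

/-- The presentation of the symplectic group. -/
theorem presOn_Sp (hm : 2 ≤ m) {r : ℕ} (hS : PresOn (Fin 2) (Equiv.Perm (Fin m)) r) :
    PresOn (Fin 3 ⊕ (Fin 2 ⊕ Unit)) (symplecticGroup (Fin m) F) (30 + r) := by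
  classical
  haveI : Finite (symplecticGroup (Fin m) F) := inferInstance
  obtain ⟨w, hgen⟩ : ∃ w : Fˣ, ∀ x : Fˣ, x ∈ Subgroup.zpowers w := IsCyclic.exists_generator
  obtain ⟨v1, L1, hl1, hv1, hg1, huniv1⟩ := presOn_SL2 (F := F)
  obtain ⟨v2, L2, hl2, hv2, hg2, huniv2⟩ := hS
  obtain ⟨a, b, hab⟩ := SL2_two_gen (F := F)
  obtain ⟨s1, s2, fs1, fs2, hs⟩ := exists_fix_gens (fun x : Fin m => x ≠ o0 hm)
  obtain ⟨t1, t2, ft1, ft2, ht⟩ := exists_fix_gens (fun x : Fin m => x ≠ o0 hm ∧ x ≠ o1 hm)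
  choose w1 hw1 using fun g : SL(2, F) => exists_word hg1 g
  choose w2 hw2 using fun σ : Equiv.Perm (Fin m) => exists_word hg2 σ
  let i1 : FreeGroup (Fin 3) →* FreeGroup (Fin 3 ⊕ (Fin 2 ⊕ Unit)) :=
    FreeGroup.lift fun x => FreeGroup.of (Sum.inl x)
  let i2 : FreeGroup (Fin 2) →* FreeGroup (Fin 3 ⊕ (Fin 2 ⊕ Unit)) :=
    FreeGroup.lift fun x => FreeGroup.of (Sum.inr (Sum.inl x))
  let U : SL(2, F) → FreeGroup (Fin 3 ⊕ (Fin 2 ⊕ Unit)) := fun g => i1 (w1 g)
  let P : Equiv.Perm (Fin m) → FreeGroup (Fin 3 ⊕ (Fin 2 ⊕ Unit)) := fun σ => i2 (w2 σ)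
  let Y : FreeGroup (Fin 3 ⊕ (Fin 2 ⊕ Unit)) := FreeGroup.of (Sum.inr (Sum.inr ()))
  let S : SL(2, F) → FreeGroup (Fin 3 ⊕ (Fin 2 ⊕ Unit)) := fun g => P (sw hm) * U g * (P (sw hm))⁻¹
  let W : Mon2 F → Mon2 F → Equiv.Perm (Fin m) → FreeGroup (Fin 3 ⊕ (Fin 2 ⊕ Unit)) :=
    fun a b σ => U a * S b * P σ
  let C : FreeGroup (Fin 3 ⊕ (Fin 2 ⊕ Unit)) → FreeGroup (Fin 3 ⊕ (Fin 2 ⊕ Unit)) := fun g => g * Y * g⁻¹
  let cm : FreeGroup (Fin 3 ⊕ (Fin 2 ⊕ Unit)) → FreeGroup (Fin 3 ⊕ (Fin 2 ⊕ Unit)) →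
      FreeGroup (Fin 3 ⊕ (Fin 2 ⊕ Unit)) := fun a b => (a * b) * (b * a)⁻¹
  let li : Fˣ → FreeGroup (Fin 3 ⊕ (Fin 2 ⊕ Unit)) := fun c =>
    (Y * S (up (c : F))) * (C (W (dg c) (ad 1) 1) * U (up (c : F)) * (S (up (c : F)) * Y))⁻¹
  let EX : List (FreeGroup (Fin 3 ⊕ (Fin 2 ⊕ Unit))) :=
    [cm (P s1) (U a), cm (P s1) (U b), cm (P s2) (U a), cm (P s2) (U b),
      cm (U a) (S a), cm (U a) (S b), cm (U b) (S b), cm (P t1) Y, cm (P t2) Y,
      cm (W (ad (-1)) (ad 1) (sw hm)) Y, cm (W (dg w) (dg w) 1) Y, li 1, li w, cm Y (U (up 1)),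
      (Y * C (W (ad 1) (dg 1) (sw hm))) * (U (up 2) * (C (W (ad 1) (dg 1) (sw hm)) * Y))⁻¹,
      (Y * C (W (dg 1) (dg (-1)) (sw hm)) * Y) * (W (dg 1) (dg (-1)) (sw hm))⁻¹] ++
    ((if h : 3 ≤ m then
      [cm (P (Equiv.swap (o0 hm) (Fin.castLE h 2)) * U a * (P (Equiv.swap (o0 hm) (Fin.castLE h 2)))⁻¹) Y,
       cm (P (Equiv.swap (o0 hm) (Fin.castLE h 2)) * U b * (P (Equiv.swap (o0 hm) (Fin.castLE h 2)))⁻¹) Y,
       (Y * C (P (sw hm * Equiv.swap (o1 hm) (Fin.castLE h 2)))) *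
        (C (P (Equiv.swap (o1 hm) (Fin.castLE h 2))) *
          (C (P (sw hm * Equiv.swap (o1 hm) (Fin.castLE h 2))) * Y))⁻¹,
       cm Y (C (P (Equiv.swap (o1 hm) (Fin.castLE h 2))))] else []) ++
    (if h : 4 ≤ m then
      [cm Y (C (P (Equiv.swap (o0 hm) (Fin.castLE h 2) * Equiv.swap (o1 hm) (Fin.castLE h 3))))] else []))
  let L := L1.map i1 ++ (L2.map i2 ++ EX)
  have hlen : L.length ≤ 30 + r := by
    simp only [L, EX, List.length_append, List.length_map, List.length_cons, List.length_nil]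
    split_ifs <;> simp only [List.length_cons, List.length_nil] <;> omega
  refine PresOn.mono ?_ hlen
  set v : Fin 3 ⊕ (Fin 2 ⊕ Unit) → symplecticGroup (Fin m) F :=
    Sum.elim (fun x => planeHom (o0 hm) (v1 x)) (Sum.elim (fun x => permSp (v2 x)) fun _ => y0 hm) with hv
  have evU : ∀ {H : Type _} [Group H] (f : Fin 3 ⊕ (Fin 2 ⊕ Unit) → H) (Φ : SL(2, F) →* H),
      (∀ x, Φ (v1 x) = f (Sum.inl x)) → ∀ g, FreeGroup.lift f (U g) = Φ g := fun f Φ h g => by
    show FreeGroup.lift f (i1 (w1 g)) = _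
    rw [lift_map_gen, ← hom_lift Φ h, hw1]
  have evP : ∀ {H : Type _} [Group H] (f : Fin 3 ⊕ (Fin 2 ⊕ Unit) → H) (π : Equiv.Perm (Fin m) →* H),
      (∀ x, π (v2 x) = f (Sum.inr (Sum.inl x))) → ∀ σ, FreeGroup.lift f (P σ) = π σ := fun f π h σ => by
    show FreeGroup.lift f (i2 (w2 σ)) = _
    rw [lift_map_gen, ← hom_lift π h, hw2]
  refine PresOn.of_bound v L ?_ ?_ ?_
  · have hU := evU v (planeHom (o0 hm)) fun x => rfl
    have hP := evP v permSp fun x => rfl
    have hY : FreeGroup.lift v Y = y0 hm := by simp [Y, hv]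
    have hS : ∀ g, FreeGroup.lift v (S g) = sec hm (planeHom (o0 hm)) permSp g := fun g => by
      simp only [S, map_mul, map_inv, hU, hP]; rfl
    have hW : ∀ x y σ, FreeGroup.lift v (W x y σ) = word2 hm (planeHom (o0 hm)) permSp x y σ := fun x y σ => by
      simp only [W, map_mul, hU, hS, hP]; rfl
    have hC : ∀ z, FreeGroup.lift v (C z) = conjy (y0 hm) (FreeGroup.lift v z) := fun z => by
      simp only [C, map_mul, map_inv, hY]; rfl
    have hcm : ∀ z z', Commute (FreeGroup.lift v z) (FreeGroup.lift v z') → FreeGroup.lift v (cm z z') = 1 :=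
      fun z z' h => by simp only [cm, map_mul, map_inv, mul_inv_eq_one]; exact h.eq
    have T := target_rels (F := F) hm w
    intro z hz
    rcases List.mem_append.1 hz with hz | hz
    · obtain ⟨u, hu, rfl⟩ := List.mem_map.1 hz
      rw [lift_map_gen]
      show FreeGroup.lift (fun x => planeHom (o0 hm) (v1 x)) u = 1
      rw [← hom_lift (planeHom (o0 hm)) (v := v1) (fun _ => rfl), hv1 u hu, map_one]
    rcases List.mem_append.1 hz with hz | hz
    · obtain ⟨u, hu, rfl⟩ := List.mem_map.1 hz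
      rw [lift_map_gen]
      show FreeGroup.lift (fun x => (permSp (v2 x) : symplecticGroup (Fin m) F)) u = 1
      rw [← hom_lift (permSp (F := F)) (v := v2) (fun _ => rfl), hv2 u hu, map_one]
    have fix0 : ∀ {σ : Equiv.Perm (Fin m)}, (∀ x, ¬(x ≠ o0 hm) → σ x = x) → σ (o0 hm) = o0 hm :=
      fun h => h _ (by simp)
    simp only [EX, List.mem_append, List.mem_cons, List.not_mem_nil, or_false] at hz
    rcases hz with (rfl | rfl | rfl | rfl | rfl | rfl | rfl | rfl | rfl | rfl | rfl | rfl | rfl | rfl | rfl | rfl) |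
      hz | hz
    · exact hcm _ _ (by rw [hP, hU]; exact T.stab0 _ (fix0 fs1) a)
    · exact hcm _ _ (by rw [hP, hU]; exact T.stab0 _ (fix0 fs1) b)
    · exact hcm _ _ (by rw [hP, hU]; exact T.stab0 _ (fix0 fs2) a)
    · exact hcm _ _ (by rw [hP, hU]; exact T.stab0 _ (fix0 fs2) b)
    · exact hcm _ _ (by rw [hU, hS]; exact T.disj a a)
    · exact hcm _ _ (by rw [hU, hS]; exact T.disj a b)
    · exact hcm _ _ (by rw [hU, hS]; exact T.disj b b)
    · exact hcm _ _ (by rw [hP, hY]; exact T.stab01 _ (ft1 _ (by simp)) (ft1 _ (by simp)))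
    · exact hcm _ _ (by rw [hP, hY]; exact T.stab01 _ (ft2 _ (by simp)) (ft2 _ (by simp)))
    · exact hcm _ _ (by rw [hW, hY]; exact T.rev)
    · exact hcm _ _ (by rw [hW, hY]; exact T.tor)
    · simp only [li, map_mul, map_inv, mul_inv_eq_one, hY, hS, hC, hW, hU]
      exact T.longI 1 (Or.inl rfl)
    · simp only [li, map_mul, map_inv, mul_inv_eq_one, hY, hS, hC, hW, hU]
      exact T.longI w (Or.inr rfl)
    · exact hcm _ _ (by rw [hY, hU]; exact T.longC)
    · simp only [map_mul, map_inv, mul_inv_eq_one, hY, hC, hW, hU]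
      exact T.shortL
    · simp only [map_mul, map_inv, mul_inv_eq_one, hY, hC, hW]
      exact T.weyl
    · split_ifs at hz with h3
      · simp only [List.mem_cons, List.not_mem_nil, or_false] at hz
        rcases hz with rfl | rfl | rfl | rfl
        · exact hcm _ _ (by simp only [map_mul, map_inv, hP, hU, hY]; exact T.out h3 a)
        · exact hcm _ _ (by simp only [map_mul, map_inv, hP, hU, hY]; exact T.out h3 b)
        · simp only [map_mul, map_inv, mul_inv_eq_one, hY, hC, hP]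
          rw [← map_mul]
          exact T.chain h3
        · exact hcm _ _ (by rw [hY, hC, hP]; exact T.share h3)
      · exact absurd hz (List.not_mem_nil)
    · split_ifs at hz with h4
      · rw [List.mem_singleton] at hz
        subst hz
        exact hcm _ _ (by rw [hY, hC, hP]; exact T.far h4)
      · exact absurd hz (List.not_mem_nil)
  · set K := Subgroup.closure (Set.range v)
    rw [eq_top_iff, ← target_gen hm w hgen]
    refine sup_le (sup_le ?_ ?_) ?_
    · rw [MonoidHom.range_eq_map, ← hg1, MonoidHom.map_closure, Subgroup.closure_le]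
      rintro _ ⟨_, ⟨x, rfl⟩, rfl⟩
      exact Subgroup.subset_closure ⟨Sum.inl x, rfl⟩
    · rw [MonoidHom.range_eq_map, ← hg2, MonoidHom.map_closure, Subgroup.closure_le]
      rintro _ ⟨_, ⟨x, rfl⟩, rfl⟩
      exact Subgroup.subset_closure ⟨Sum.inr (Sum.inl x), rfl⟩
    · rw [Subgroup.zpowers_le]
      exact Subgroup.subset_closure ⟨Sum.inr (Sum.inr ()), rfl⟩
  intro G _ φ f hφ hf hk
  obtain ⟨Φ, hΦ⟩ := huniv1 G (fun x => f (Sum.inl x)) fun z hz => by
    rw [← lift_map_gen]; exact hk _ (List.mem_append_left _ (List.mem_map_of_mem hz))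
  obtain ⟨π, hπ⟩ := huniv2 G (fun x => f (Sum.inr (Sum.inl x))) fun z hz => by
    rw [← lift_map_gen]
    exact hk _ (List.mem_append_right _ (List.mem_append_left _ (List.mem_map_of_mem hz)))
  set y := f (Sum.inr (Sum.inr ())) with hy
  have hU : ∀ g, FreeGroup.lift f (U g) = Φ g := fun g => by
    show FreeGroup.lift f (i1 (w1 g)) = _
    rw [lift_map_gen, ← hom_lift Φ hΦ, hw1]
  have hP : ∀ σ, FreeGroup.lift f (P σ) = π σ := fun σ => by
    show FreeGroup.lift f (i2 (w2 σ)) = _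
    rw [lift_map_gen, ← hom_lift π hπ, hw2]
  have hY : FreeGroup.lift f Y = y := by simp [Y, hy]
  have hS : ∀ g, FreeGroup.lift f (S g) = sec hm Φ π g := fun g => by
    simp only [S, map_mul, map_inv, hU, hP]; rfl
  have hW : ∀ x y σ, FreeGroup.lift f (W x y σ) = word2 hm Φ π x y σ := fun x y σ => by
    simp only [W, map_mul, hU, hS, hP]; rfl
  have hC : ∀ z, FreeGroup.lift f (C z) = conjy y (FreeGroup.lift f z) := fun z => by
    simp only [C, map_mul, map_inv, hY]; rfl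
  have hE : ∀ z ∈ EX, FreeGroup.lift f z = 1 := fun z hz =>
    hk z (List.mem_append_right _ (List.mem_append_right _ hz))
  have hcm : ∀ z z', cm z z' ∈ EX → Commute (FreeGroup.lift f z) (FreeGroup.lift f z') := fun z z' h => by
    have := hE _ h
    simp only [cm, map_mul, map_inv, mul_inv_eq_one] at this
    exact this
  have R : Rels hm Φ π y w := by
    refine rels_of hm hab (s1 := s1) (s2 := s2) (t1 := t1) (t2 := t2)
      (fun σ h => hs σ fun x hx => by
        rw [ne_eq, not_not] at hx; rw [hx]; exact h)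
      (fun σ h h' => ht σ fun x hx => by
        rw [not_and_or, ne_eq, ne_eq, not_not, not_not] at hx
        rcases hx with rfl | rfl
        exacts [h, h']) ?_ ?_ ?_ ?_ ?_ ?_ ?_ ?_ ?_ ?_ ?_ ?_ ?_ ?_ ?_
    · rintro s (rfl | rfl) g (rfl | rfl) <;> rw [← hP, ← hU] <;> exact hcm _ _ (by simp [EX])
    · rw [← hU, ← hS]; exact hcm _ _ (by simp [EX])
    · rw [← hU, ← hS]; exact hcm _ _ (by simp [EX])
    · rw [← hU, ← hS]; exact hcm _ _ (by simp [EX])
    · rintro t (rfl | rfl) <;> rw [← hP, ← hY] <;> exact hcm _ _ (by simp [EX])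
    · rintro h g (rfl | rfl)
      · have := hcm (P (Equiv.swap (o0 hm) (Fin.castLE h 2)) * U g *
          (P (Equiv.swap (o0 hm) (Fin.castLE h 2)))⁻¹) Y (by simp [EX, dif_pos h])
        simpa only [map_mul, map_inv, hP, hU, hY] using this
      · have := hcm (P (Equiv.swap (o0 hm) (Fin.castLE h 2)) * U g *
          (P (Equiv.swap (o0 hm) (Fin.castLE h 2)))⁻¹) Y (by simp [EX, dif_pos h])
        simpa only [map_mul, map_inv, hP, hU, hY] using this
    · rw [← hW, ← hY]; exact hcm _ _ (by simp [EX])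
    · rw [← hW, ← hY]; exact hcm _ _ (by simp [EX])
    · rintro c hc
      have := hE (li c) (by rcases hc with rfl | rfl <;> simp [EX])
      simpa only [li, map_mul, map_inv, mul_inv_eq_one, hY, hS, hC, hW, hU] using this
    · rw [← hY, ← hU]; exact hcm _ _ (by simp [EX])
    · have := hE ((Y * C (W (ad 1) (dg 1) (sw hm))) * (U (up 2) * (C (W (ad 1) (dg 1) (sw hm)) * Y))⁻¹)
        (by simp [EX])
      simpa only [map_mul, map_inv, mul_inv_eq_one, hY, hC, hW, hU] using this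
    · intro h
      have := hE ((Y * C (P (sw hm * Equiv.swap (o1 hm) (Fin.castLE h 2)))) *
        (C (P (Equiv.swap (o1 hm) (Fin.castLE h 2))) *
          (C (P (sw hm * Equiv.swap (o1 hm) (Fin.castLE h 2))) * Y))⁻¹) (by simp [EX, dif_pos h])
      simp only [map_mul, map_inv, mul_inv_eq_one, hY, hC, hP] at this
      rw [map_mul]; exact this
    · intro h
      have := hcm Y (C (P (Equiv.swap (o1 hm) (Fin.castLE h 2)))) (by simp [EX, dif_pos h])
      rwa [hY, hC, hP] at this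
    · intro h
      have := hcm Y (C (P (Equiv.swap (o0 hm) (Fin.castLE h 2) * Equiv.swap (o1 hm) (Fin.castLE h 3))))
        (by simp [EX, dif_pos h])
      rwa [hY, hC, hP] at this
    · have := hE ((Y * C (W (dg 1) (dg (-1)) (sw hm)) * Y) * (W (dg 1) (dg (-1)) (sw hm))⁻¹) (by simp [EX])
      simpa only [map_mul, map_inv, mul_inv_eq_one, hY, hC, hW] using this
  have eΦ : φ.comp Φ = planeHom (o0 hm) := MonoidHom.eq_of_eqOn_dense hg1 <| by
    rintro _ ⟨x, rfl⟩
    show φ (Φ (v1 x)) = _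
    rw [hΦ, hφ]
    rfl
  have eπ : φ.comp π = permSp := MonoidHom.eq_of_eqOn_dense hg2 <| by
    rintro _ ⟨x, rfl⟩
    show φ (π (v2 x)) = _
    rw [hπ, hφ]
    rfl
  have H : Hyp hm φ Φ π y w :=
    ⟨fun g => DFunLike.congr_fun eΦ g, fun σ => DFunLike.congr_fun eπ σ, hφ _, hgen, R⟩
  refine card_le H ?_
  rw [eq_top_iff, ← hf, Subgroup.closure_le]
  rintro _ ⟨x | x | x, rfl⟩
  · exact Subgroup.mem_sup_left (Subgroup.mem_sup_left ⟨v1 x, hΦ x⟩)
  · exact Subgroup.mem_sup_left (Subgroup.mem_sup_right ⟨v2 x, hπ x⟩)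
  · exact Subgroup.mem_sup_right (Subgroup.mem_zpowers _)

end CfsgLib.SpPres
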