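import Cfsg.Agent.Lib.BoundedPres.SpLift
import Cfsg.Agent.Lib.BoundedPres.SLn

/-!
The root elements of a group satisfying the relations of the presentation, and their basic relations.
-/

set_option autoImplicit false

namespace CfsgLib.SpPres

open Matrix Cfsg CfsgLib.Linear.Symp CfsgLib.Linear.SympReg CfsgLib.Linear.Dickson
open scoped MatrixGroups

variable {F : Type*} [Field F] {m : ℕ}

/-- The long root elements in `SL₂`. -/
def longSL (α : Idx m) (t : F) : SL(2, F) := Sum.elim (fun _ => up t) (fun _ => lo t) α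

theorem planeHom_longSL (α : Idx m) (t : F) : planeHom (base α) (longSL α t) = X α (op α) t := by
  cases α with
  | inl i =>
    simp only [base, longSL, Sum.elim_inl, id, planeHom_up, X, if_pos, wt, mul_one]
    rfl
  | inr i =>
    simp only [base, longSL, Sum.elim_inr, id, planeHom_lo, X, if_pos, wt, mul_neg, mul_one]
    rfl

theorem planeHom_inj (i : Fin m) : Function.Injective (planeHom (F := F) i) := by
  intro g h e
  have e1 := congrArg (fun z => z • (bas (.inl i) : Idx m → F)) e
  have e2 := congrArg (fun z => z • (bas (.inr i) : Idx m → F)) e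
  simp only [planeHom_smul] at e1 e2
  have a1 := congrFun e1 (.inl i); have a2 := congrFun e1 (.inr i)
  have b1 := congrFun e2 (.inl i); have b2 := congrFun e2 (.inr i)
  simp [eA, eB] at a1 a2 b1 b2
  ext a b
  fin_cases a <;> fin_cases b <;> assumption

theorem longSL_add (α : Idx m) (t u : F) : longSL α t * longSL α u = longSL α (t + u) := by
  apply planeHom_inj (base α)
  rw [map_mul, planeHom_longSL, planeHom_longSL, planeHom_longSL, X_add (op_ne α).symm]

theorem monSp_injective : Function.Injective (monSp : MonP F m → symplecticGroup (Fin m) F) := by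
  intro p q e
  obtain ⟨r, rfl⟩ : ∃ r, q = p * r := ⟨p⁻¹ * q, by group⟩
  rw [map_mul, eq_comm, mul_eq_left] at e
  suffices r = 1 by rw [this, mul_one]
  have key : ∀ i : Fin m, r.right i = i ∧ r.left i = 1 := by
    intro i
    have e1 := congrArg (fun z => z • (bas (.inl i) : Idx m → F)) e
    have e2 := congrArg (fun z => z • (bas (.inr i) : Idx m → F)) e
    simp only [monSp_smul, one_smul] at e1 e2
    have hi : r.right i = i := by
      by_contra hne
      have h2 : r.right.symm i ≠ i := fun h => hne (by rw [← h, Equiv.apply_symm_apply, h])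
      have := congrFun e1 (.inl i)
      simp [h2] at this
    have hi' : r.right.symm i = i := by rw [Equiv.symm_apply_eq, hi]
    have a1 := congrFun e1 (.inl i); have a2 := congrFun e1 (.inr i)
    have b1 := congrFun e2 (.inl i); have b2 := congrFun e2 (.inr i)
    simp [hi'] at a1 a2 b1 b2
    refine ⟨hi, Subtype.ext (Subtype.ext ?_)⟩
    ext a b
    fin_cases a <;> fin_cases b <;> simp [a1, a2, b1, b2]
  refine SemidirectProduct.ext ?_ ?_
  · exact funext fun i => (key i).2
  · exact Equiv.ext fun i => (key i).1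

theorem mono_fwd (p : MonP F m) {α β : Idx m} {a : F} (e : monSp p • (bas α : Idx m → F) = a • bas β) :
    a ≠ 0 ∧ base β = p.right (base α) ∧
      monSp p • (bas (op α) : Idx m → F) = (wt α * wt β * a⁻¹) • bas (op β) := by
  obtain ⟨γ, c, hc, f1, f2⟩ := mono p α
  obtain ⟨rfl, rfl⟩ := mono_unique hc (f1.symm.trans e)
  refine ⟨hc, ?_, f2⟩
  by_contra hne
  have hz : p.right.symm (base γ) ≠ base α := fun h => hne (by rw [← h, Equiv.apply_symm_apply])
  have := congrFun e γ
  rw [monSp_smul] at this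
  rcases γ with i | i <;> rcases α with j | j <;> simp_all [base, Ne.symm hc]

/-- The images of a pair of indices under a monomial element. -/
theorem images (p : MonP F m) {α β : Idx m} (h : α ≠ β) : ∃ α' β' : Idx m, ∃ a b : F,
    a ≠ 0 ∧ b ≠ 0 ∧ α' ≠ β' ∧ (β' = op α' ↔ β = op α) ∧
      monSp p • (bas α : Idx m → F) = a • bas α' ∧ monSp p • (bas β : Idx m → F) = b • bas β' := by
  obtain ⟨α', a, ha, e1, e1'⟩ := mono p α
  obtain ⟨β', b, hb, e2, -⟩ := mono p β
  have key : ∀ γ δ : Idx m, ∀ c d : F, c ≠ 0 → d ≠ 0 → monSp p • (bas γ : Idx m → F) = c • bas β' →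
      monSp p • (bas δ : Idx m → F) = d • bas β' → γ = δ := by
    intro γ δ c d hc hd f1 f2
    by_contra hne
    have e : monSp p • (bas γ : Idx m → F) = monSp p • ((c * d⁻¹) • bas δ) := by
      rw [smul_comm, f2, f1, smul_smul, mul_assoc, inv_mul_cancel₀ hd, mul_one]
    have := congrFun (MulAction.injective (monSp p) e) γ
    simp [hne] at this
  refine ⟨α', β', a, b, ha, hb, fun e => h ?_, ⟨fun e => ?_, fun e => ?_⟩, e1, e2⟩
  · exact key α β a b ha hb (e ▸ e1) e2
  · exact key β (op α) b _ hb (by simp [wt_ne, ha]) e2 (e ▸ e1')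
  · subst e
    exact (mono_unique hb (e2.symm.trans e1')).1

theorem dg_ad_images (hm : 2 ≤ m) (a b : Fˣ) (σ : Equiv.Perm (Fin m)) (h0 : σ (o0 hm) = o0 hm)
    (h1 : σ (o1 hm) = o1 hm) :
    monSp (pair2 hm (dg a) (ad b) σ) • (bas (.inl (o0 hm)) : Idx m → F) = (a : F) • bas (.inl (o0 hm)) ∧
      monSp (pair2 hm (dg a) (ad b) σ) • (bas (.inl (o1 hm)) : Idx m → F) = (b : F) • bas (.inr (o1 hm)) := by
  have h0' : σ.symm (o0 hm) = o0 hm := by rw [Equiv.symm_apply_eq, h0]
  have h1' : σ.symm (o1 hm) = o1 hm := by rw [Equiv.symm_apply_eq, h1]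
  have hne := o0_ne_o1 hm
  constructor <;>
  · rw [monSp_smul]
    funext z
    rcases z with z | z <;> by_cases z0 : z = o0 hm <;> by_cases z1 : z = o1 hm <;>
      simp [pair2, dg, ad, z0, z1, h0', h1', hne, hne.symm, Equiv.symm_apply_eq, h0, h1]

section Roots

variable {G : Type*} [Group G] {hm : 2 ≤ m} {φ : G →* symplecticGroup (Fin m) F}
  {Φ : SL(2, F) →* G} {π : Equiv.Perm (Fin m) →* G} {y : G} {w : Fˣ}
variable [Fintype F] (R : Hyp hm φ Φ π y w)
include R

theorem lift_conjy_eq {p q : MonP F m}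
    (h : monSp p * y0 hm * (monSp p)⁻¹ = monSp q * y0 hm * (monSp q)⁻¹) :
    lift R p * y * (lift R p)⁻¹ = lift R q * y * (lift R q)⁻¹ := by
  have hc : Commute (monSp (q⁻¹ * p)) (y0 hm) := by
    show _ * _ = _ * _
    rw [map_mul, map_inv]
    calc (monSp q)⁻¹ * monSp p * y0 hm = (monSp q)⁻¹ * (monSp p * y0 hm * (monSp p)⁻¹) * monSp p := by group
      _ = _ := by rw [h]; group
  have hl := stab_commute R _ hc
  rw [map_mul, map_inv] at hl
  calc lift R p * y * (lift R p)⁻¹ = lift R q * (((lift R q)⁻¹ * lift R p) * y) * (lift R p)⁻¹ := by group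
    _ = _ := by rw [hl.eq]; group

/-- The root elements. -/
noncomputable def xG (α β : Idx m) (t : F) : G :=
  open Classical in
  if β = op α then plane hm Φ π (base α) (longSL α t)
  else if h : ∃ p : MonP F m, monSp p * y0 hm * (monSp p)⁻¹ = X α β t then
    lift R h.choose * y * (lift R h.choose)⁻¹
  else 1

theorem xG_long (α : Idx m) (t : F) : xG R α (op α) t = plane hm Φ π (base α) (longSL α t) := if_pos rfl

theorem xG_eq {α β : Idx m} (hb : β ≠ op α) {t : F} {p : MonP F m}
    (h : monSp p * y0 hm * (monSp p)⁻¹ = X α β t) : lift R p * y * (lift R p)⁻¹ = xG R α β t := by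
  classical
  have hex : ∃ p : MonP F m, monSp p * y0 hm * (monSp p)⁻¹ = X α β t := ⟨p, h⟩
  rw [xG, if_neg hb, dif_pos hex]
  exact lift_conjy_eq R (h.trans hex.choose_spec.symm)

omit [Fintype F] R in
theorem exists_conj (hm : 2 ≤ m) {α β : Idx m} (h : α ≠ β) (hb : β ≠ op α) {t : F} (ht : t ≠ 0) :
    ∃ p : MonP F m, monSp p * y0 hm * (monSp p)⁻¹ = X α β t := by
  have hba : base α ≠ base β := fun e => (eq_or_eq_op e.symm).elim (fun e => h e.symm) hb
  obtain ⟨p, hp⟩ := exists_mono hm ![α, β] (by
    intro i j e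
    fin_cases i <;> fin_cases j <;> simp_all) ![t, 1] (fun j => by fin_cases j <;> simp [ht])
  refine ⟨p, ?_⟩
  rw [monSp_conj p (by simp [o0_ne_o1 hm]) ht (hp 0) (hp 1)]
  simp

theorem xG_zero {α β : Idx m} (h : α ≠ β) : xG R α β 0 = 1 := by
  classical
  by_cases hb : β = op α
  · subst hb
    rw [xG_long]
    have e := longSL_add α (0 : F) 0
    rw [add_zero, mul_eq_left] at e
    rw [e, map_one]
  · rw [xG, if_neg hb, dif_neg]
    rintro ⟨p, hp⟩
    rw [X_zero h, mul_inv_eq_one, mul_eq_left] at hp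
    have := congrArg (fun z => z • (bas (.inl (o1 hm)) : Idx m → F)) hp
    simp only [X_smul (show (Sum.inl (o0 hm) : Idx m) ≠ .inl (o1 hm) by simp [o0_ne_o1 hm]), one_smul] at this
    have := congrFun this (.inl (o0 hm))
    simp [o0_ne_o1 hm, op] at this

theorem phi_xG {α β : Idx m} (h : α ≠ β) (t : F) : φ (xG R α β t) = X α β t := by
  by_cases hb : β = op α
  · subst hb; rw [xG_long, phi_plane R, planeHom_longSL]
  by_cases ht : t = 0
  · subst ht; rw [xG_zero R h, map_one, X_zero h]
  obtain ⟨p, hp⟩ := exists_conj hm h hb ht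
  rw [← xG_eq R hb hp, map_mul, map_mul, map_inv, phi_lift, R.hy, hp]

theorem xG_base : xG R (.inl (o0 hm)) (.inl (o1 hm)) 1 = y := by
  rw [← xG_eq R (p := 1) (by simp [op]) (by simp)]
  simp

theorem sec_up (t : F) : xG R (.inl (o1 hm)) (.inr (o1 hm)) t = sec hm Φ π (up t) := by
  rw [show (Sum.inr (o1 hm) : Idx m) = op (.inl (o1 hm)) from rfl, xG_long]
  rfl

theorem phi_up (t : F) : xG R (.inl (o0 hm)) (.inr (o0 hm)) t = Φ (up t) := by
  rw [show (Sum.inr (o0 hm) : Idx m) = op (.inl (o0 hm)) from rfl, xG_long]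
  exact plane_zero _

theorem xG_of_images {α β : Idx m} {p : MonP F m} {a b : F} (hb : β ≠ op α)
    (e1 : monSp p • (bas (.inl (o0 hm)) : Idx m → F) = a • bas α)
    (e2 : monSp p • (bas (.inl (o1 hm)) : Idx m → F) = b • bas β) :
    lift R p * y * (lift R p)⁻¹ = xG R α β (a * b⁻¹) := by
  refine xG_eq R hb ?_
  rw [monSp_conj p (by simp [o0_ne_o1 hm]) (mono_fwd p e1).1 e1 e2, one_mul]

/-- Monomial elements permute the root elements. -/
theorem xG_conj (p : MonP F m) {α β α' β' : Idx m} {a b : F} (h : α ≠ β)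
    (e1 : monSp p • (bas α : Idx m → F) = a • bas α')
    (e2 : monSp p • (bas β : Idx m → F) = b • bas β') (t : F) :
    lift R p * xG R α β t * (lift R p)⁻¹ = xG R α' β' (t * a * b⁻¹) := by
  have ha := (mono_fwd p e1).1
  obtain ⟨α'', β'', a', b', ha', hb', hne, hiff, f1, f2⟩ := images p h
  obtain ⟨rfl, rfl⟩ := mono_unique ha' (f1.symm.trans e1)
  obtain ⟨rfl, rfl⟩ := mono_unique hb' (f2.symm.trans e2)
  have htarget := monSp_conj p h ha e1 e2 t
  by_cases hb : β = op α
  · obtain rfl := hiff.2 hb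
    subst hb
    rw [xG_long, xG_long]
    have hbase := (mono_fwd p e1).2.1
    have e : lift R p * plane hm Φ π (base α) (longSL α t) * (lift R p)⁻¹ =
        plane hm Φ π (base α'') ((p.left (base α'') : SL(2, F)) * longSL α t * (p.left (base α'') : SL(2, F))⁻¹) := by
      set g := longSL α t
      set j := base α''
      have hπ : π p.right * plane hm Φ π (base α) g * (π p.right)⁻¹ = plane hm Φ π j g := by
        rw [plane_perm R, hbase]
      rw [lift_apply]
      rw [show planes R p.left * π p.right * plane hm Φ π (base α) g * (planes R p.left * π p.right)⁻¹ =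
        planes R p.left * (π p.right * plane hm Φ π (base α) g * (π p.right)⁻¹) * (planes R p.left)⁻¹ by group,
        hπ]
      have hsplit : p.left = Pi.mulSingle j (p.left j) * Function.update p.left j 1 := by
        funext i
        by_cases hi : i = j
        · subst hi; simp
        · simp [hi]
      have hrest : Commute (planes R (Function.update p.left j 1)) (plane hm Φ π j g) := by
        let C : Submonoid (Fin m → Mon2 F) :=
          (Subgroup.centralizer {plane hm Φ π j g}).toSubmonoid.comap (planes R)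
        have hmem : Function.update p.left j 1 ∈ C :=
          Submonoid.pi_mem_of_mulSingle_mem (Function.update p.left j 1) fun i => by
            show planes R _ ∈ Subgroup.centralizer {plane hm Φ π j g}
            rw [Subgroup.mem_centralizer_singleton_iff]
            by_cases hi : i = j
            · subst hi; simp
            rw [planes_single]
            exact (plane_commute R hi _ _).eq
        exact (Subgroup.mem_centralizer_singleton_iff).1 hmem
      conv_lhs => rw [hsplit, map_mul, planes_single]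
      rw [show ∀ A B C : G, A * B * C * (A * B)⁻¹ = A * (B * C * B⁻¹) * A⁻¹ from fun A B C => by group,
        hrest.eq, mul_inv_cancel_right, map_mul, map_mul, map_inv]
    rw [e]
    congr 1
    apply planeHom_inj (base α'')
    have := congrArg φ e
    rw [map_mul, map_mul, map_inv, phi_lift, phi_plane R, phi_plane R, planeHom_longSL] at this
    rw [← this, htarget, planeHom_longSL]
  have hb2 : β'' ≠ op α'' := fun e => hb (hiff.1 e)
  by_cases ht : t = 0
  · subst ht
    rw [xG_zero R h, zero_mul, zero_mul, xG_zero R hne, mul_one, mul_inv_cancel]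
  obtain ⟨q, hq⟩ := exists_conj hm h hb ht
  rw [← xG_eq R hb hq, ← xG_eq R hb2 (p := p * q) ?_, map_mul]
  · group
  · rw [map_mul, ← htarget, ← hq]; group

theorem xG_sym {α β : Idx m} (h : α ≠ β) (hb : β ≠ op α) (t : F) :
    xG R α β t = xG R (op β) (op α) (-(wt α * wt β) * t) := by
  have h' : op β ≠ op α := fun e => h (Sum.swap_leftInverse.injective e).symm
  by_cases ht : t = 0
  · subst ht; rw [mul_zero, xG_zero R h, xG_zero R h']
  obtain ⟨p, hp⟩ := exists_conj hm h hb ht
  rw [← xG_eq R hb hp, ← xG_eq R (p := p) (by simpa [op] using Ne.symm hb) (by rw [X_sym h hb]; exact hp)]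

/-- Monomial elements with two prescribed images. -/
theorem exists_mono2 {α β : Idx m} (h : base α ≠ base β) {a b : F} (ha : a ≠ 0) (hb : b ≠ 0) :
    ∃ p : MonP F m, monSp p • (bas (.inl (o0 hm)) : Idx m → F) = a • bas α ∧
      monSp p • (bas (.inl (o1 hm)) : Idx m → F) = b • bas β := by
  obtain ⟨p, hp⟩ := exists_mono hm ![α, β] (by
    intro i j e
    fin_cases i <;> fin_cases j <;> simp_all) ![a, b] (fun j => by fin_cases j <;> simp [ha, hb])
  exact ⟨p, hp 0, hp 1⟩

omit R in
theorem square_rep (hgen : ∀ x : Fˣ, x ∈ Subgroup.zpowers w) (u : Fˣ) :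
    ∃ c : Fˣ, u = c * c ∨ u = w * (c * c) := by
  obtain ⟨k, rfl⟩ := Subgroup.mem_zpowers_iff.1 (hgen u)
  rcases Int.even_or_odd k with ⟨j, rfl⟩ | ⟨j, rfl⟩
  · exact ⟨w ^ j, Or.inl (_root_.zpow_add w j j)⟩
  · refine ⟨w ^ j, Or.inr ?_⟩
    rw [show 2 * j + 1 = 1 + (j + j) by ring, _root_.zpow_add, zpow_one, _root_.zpow_add]

/-- A set of parameters closed under addition, negation and scaling by squares is everything. -/
theorem all_of_squares (S : Set F) (h0 : (0 : F) ∈ S) (h1 : (1 : F) ∈ S)
    (hadd : ∀ a ∈ S, ∀ b ∈ S, a + b ∈ S) (hneg : ∀ a ∈ S, -a ∈ S)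
    (hsq : ∀ c : F, c ≠ 0 → ∀ a ∈ S, c * c * a ∈ S) : ∀ u, u ∈ S := by
  intro u
  rw [CfsgLib.BoundedPres.exists_square_data w R.gen S h0 hadd fun l => ?_]
  · trivial
  have : ((w : F) * w) ^ l ∈ S := by
    have := hsq ((w : F) ^ l) (pow_ne_zero _ w.ne_zero) 1 h1
    rwa [mul_one, ← mul_pow] at this
  exact ⟨this, hneg _ this⟩

theorem plane_add (α : Idx m) (t u : F) :
    xG R α (op α) t * xG R α (op α) u = xG R α (op α) (t + u) := by
  rw [xG_long, xG_long, xG_long, ← map_mul, longSL_add]

theorem plane_inv (α : Idx m) (t : F) : (xG R α (op α) t)⁻¹ = xG R α (op α) (-t) := by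
  rw [inv_eq_iff_mul_eq_one, plane_add R, add_neg_cancel, xG_zero R (op_ne α).symm]

theorem base_long_commute (u : F) : Commute y (xG R (.inl (o0 hm)) (.inr (o0 hm)) u) := by
  set α : Idx m := .inl (o0 hm)
  refine all_of_squares R {u | Commute y (xG R α (op α) u)} ?_ ?_ ?_ ?_ ?_ u
  · show Commute y _; rw [xG_zero R (op_ne α).symm]; exact Commute.one_right y
  · show Commute y _; rw [show op α = Sum.inr (o0 hm) from rfl, phi_up R]; exact R.rels.longC
  · intro a ha b hb; show Commute y _; rw [← plane_add R]; exact Commute.mul_right ha hb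
  · intro a ha; show Commute y _; rw [← plane_inv R]; exact Commute.inv_right ha
  · intro c hc a ha
    obtain ⟨p, e1, e2⟩ := exists_mono2 R (α := α) (β := .inl (o1 hm)) (by simp [α, base, o0_ne_o1 hm]) hc hc
    have hy : lift R p * y * (lift R p)⁻¹ = y := by
      rw [xG_of_images R (by simp [α, op]) e1 e2, mul_inv_cancel₀ hc, xG_base]
    show Commute y _
    have hl := xG_conj R p (op_ne α).symm e1 (mono_fwd p e1).2.2 a
    have := (show Commute y _ from ha).map (MulAut.conj (lift R p))
    simp only [MulAut.conj_apply, MulEquiv.coe_toMonoidHom] at this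
    rw [hy, hl] at this
    convert this using 2
    rw [wt_sq, one_mul, inv_inv]
    ring

/-- A short root element commutes with the long root element of its first index. -/
theorem commute_first {α β : Idx m} (h : α ≠ β) (hb : β ≠ op α) (t u : F) :
    Commute (xG R α β t) (xG R α (op α) u) := by
  by_cases ht : t = 0
  · subst ht; rw [xG_zero R h]; exact Commute.one_left _
  have hba : base α ≠ base β := fun e => (eq_or_eq_op e.symm).elim (fun e => h e.symm) hb
  obtain ⟨p, e1, e2⟩ := exists_mono2 R hba ht one_ne_zero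
  have hx := xG_of_images R hb e1 e2
  rw [inv_one, mul_one] at hx
  have hl := xG_conj R p (op_ne (.inl (o0 hm) : Idx m)).symm e1 (mono_fwd p e1).2.2
    (u * (t * (wt (Sum.inl (o0 hm) : Idx m) * wt α * t⁻¹)⁻¹)⁻¹)
  have := (base_long_commute R (u * (t * (wt (Sum.inl (o0 hm) : Idx m) * wt α * t⁻¹)⁻¹)⁻¹)).map
    (MulAut.conj (lift R p))
  simp only [MulAut.conj_apply] at this
  rw [hx] at this
  convert this using 1
  rw [show (Sum.inr (o0 hm) : Idx m) = op (.inl (o0 hm)) from rfl, hl]
  congr 1
  field_simp [wt_ne, ht]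

/-- The relation with a long root element of the second index, for all parameters. -/
theorem base_long_rel (u : F) : y * xG R (.inl (o1 hm)) (.inr (o1 hm)) u =
    xG R (.inl (o0 hm)) (.inr (o1 hm)) u * xG R (.inl (o0 hm)) (.inr (o0 hm)) u *
      (xG R (.inl (o1 hm)) (.inr (o1 hm)) u * y) := by
  have hne := o0_ne_o1 hm
  by_cases hu : u = 0
  · subst hu
    rw [xG_zero R (by simp), xG_zero R (by simp), xG_zero R (by simp)]
    simp
  have basecase : ∀ c : Fˣ, c = 1 ∨ c = w → y * xG R (.inl (o1 hm)) (.inr (o1 hm)) (c : F) =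
      xG R (.inl (o0 hm)) (.inr (o1 hm)) (c : F) * xG R (.inl (o0 hm)) (.inr (o0 hm)) (c : F) *
        (xG R (.inl (o1 hm)) (.inr (o1 hm)) (c : F) * y) := by
    intro c hc
    have e : conjy y (word2 hm Φ π (dg c) (ad 1) 1) = xG R (.inl (o0 hm)) (.inr (o1 hm)) (c : F) := by
      rw [conjy, ← lift_pair2 R]
      have e1 : monSp (pair2 hm (dg c) (ad 1) 1) • (bas (.inl (o0 hm)) : Idx m → F) =
          (c : F) • bas (.inl (o0 hm)) ∧
          monSp (pair2 hm (dg c) (ad 1) 1) • (bas (.inl (o1 hm)) : Idx m → F) =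
          (1 : F) • bas (.inr (o1 hm)) := by
        exact dg_ad_images hm c 1 1 rfl rfl
      rw [xG_of_images R (by simp [op, hne.symm]) e1.1 e1.2, inv_one, mul_one]
    rw [sec_up R, phi_up R, ← e]
    exact R.rels.longI c hc
  obtain ⟨c, hc⟩ := square_rep R.gen (Units.mk0 u hu)
  obtain ⟨c0, hc0, hu0⟩ : ∃ c0 : Fˣ, (c0 = 1 ∨ c0 = w) ∧ u = (c0 : F) * ((c : F) * c) := by
    rcases hc with hc | hc
    · exact ⟨1, Or.inl rfl, by have := congrArg Units.val hc; simpa using this⟩
    · exact ⟨w, Or.inr rfl, by have := congrArg Units.val hc; simpa using this⟩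
  obtain ⟨p, e1, e2⟩ := exists_mono2 R (α := .inl (o0 hm)) (β := .inl (o1 hm))
    (by simp [base, hne]) c.ne_zero c.ne_zero
  have hy : lift R p * y * (lift R p)⁻¹ = y := by
    rw [xG_of_images R (by simp [op]) e1 e2, mul_inv_cancel₀ c.ne_zero, xG_base]
  have h1 := (mono_fwd p e1).2.2
  have h2 := (mono_fwd p e2).2.2
  simp only [op, Sum.swap_inl, wt_sq, one_mul] at h1 h2
  have E := congrArg (MulAut.conj (lift R p)) (basecase c0 hc0)
  simp only [map_mul, MulAut.conj_apply] at E
  rw [hy, xG_conj R p (by simp) e2 h2, xG_conj R p (by simp) e1 h2, xG_conj R p (by simp) e1 h1] at E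
  have hsimp : (c0 : F) * c * ((c : F)⁻¹)⁻¹ = u := by rw [inv_inv, hu0]; ring
  rwa [hsimp] at E

theorem base_add (s t : F) :
    xG R (.inl (o0 hm)) (.inr (o1 hm)) s * xG R (.inl (o0 hm)) (.inr (o1 hm)) t =
      xG R (.inl (o0 hm)) (.inr (o1 hm)) (s + t) := by
  have hne := o0_ne_o1 hm
  set a0 : Idx m := .inl (o0 hm)
  set a1 : Idx m := .inl (o1 hm)
  set A := fun u => xG R a0 (op a1) u
  set B := fun u => xG R a0 (op a0) u
  set L := fun u => xG R a1 (op a1) u
  have hA : ∀ u, A u = y * L u * y⁻¹ * (L u)⁻¹ * (B u)⁻¹ := fun u => by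
    have := base_long_rel R u
    change y * L u = A u * B u * (L u * y) at this
    rw [this]; group
  have hAB : ∀ u v, Commute (B u) (A v) := fun u v =>
    (commute_first R (by simp [a0, a1, op]) (by simp [a0, a1, op, hne.symm]) v u).symm
  have hLA : ∀ u v, Commute (L u) (A v) := fun u v => by
    show Commute (L u) (xG R a0 (op a1) v)
    rw [xG_sym R (by simp [a0, a1, op]) (by simp [a0, a1, op, hne.symm]) v]
    simp only [op, Sum.swap_swap]
    exact (commute_first R (by simp [a0, a1, op]) (by simp [a0, a1, op, hne]) _ u).symm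
  have hLB : ∀ u v, Commute (L u) (B v) := fun u v => by
    show Commute (xG R a1 (op a1) u) (xG R a0 (op a0) v)
    rw [xG_long, xG_long]
    exact plane_commute R (by simp [a0, a1, base, hne.symm]) _ _
  have hL : L (s + t) = L s * L t := (plane_add R a1 s t).symm
  have hB : B (s + t) = B s * B t := (plane_add R a0 s t).symm
  show A s * A t = A (s + t)
  have hC : ∀ u, y * L u * y⁻¹ = A u * B u * L u := fun u => by rw [hA]; group
  have e : y * L (s + t) * y⁻¹ = (y * L s * y⁻¹) * (y * L t * y⁻¹) := by rw [hL]; group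
  rw [hC, hC, hC, hL, hB] at e
  have e' : A s * B s * L s * (A t * B t * L t) = A s * A t * (B s * B t) * (L s * L t) := by
    calc A s * B s * L s * (A t * B t * L t) = A s * B s * (L s * A t) * B t * L t := by group
      _ = A s * (B s * A t) * (L s * B t) * L t := by rw [(hLA s t).eq]; group
      _ = _ := by rw [(hAB s t).eq, (hLB s t).eq]; group
  rw [e'] at e
  exact (mul_right_cancel (mul_right_cancel e)).symm

theorem xG_add {α β : Idx m} (h : α ≠ β) (s t : F) : xG R α β s * xG R α β t = xG R α β (s + t) := by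
  by_cases hb : β = op α
  · subst hb; exact plane_add R α s t
  have hba : base α ≠ base (op β) := by
    rw [base_op]; exact fun e => (eq_or_eq_op e.symm).elim (fun e => h e.symm) hb
  obtain ⟨p, e1, e2⟩ := exists_mono2 R hba (one_ne_zero (α := F)) one_ne_zero
  have e3 := (mono_fwd p e2).2.2
  simp only [op, Sum.swap_swap, Sum.swap_inl] at e3
  set k : F := wt (Sum.inl (o1 hm) : Idx m) * wt (op β) * 1⁻¹ with hk
  have hk0 : k ≠ 0 := by simp [hk, wt_ne]
  have key : ∀ u, xG R α β u =
      lift R p * xG R (.inl (o0 hm)) (.inr (o1 hm)) (u * k) * (lift R p)⁻¹ := fun u => by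
    rw [xG_conj R p (by simp) e1 e3]
    congr 1
    rw [mul_one, mul_assoc, mul_inv_cancel₀ hk0, mul_one]
  rw [key, key, key, add_mul, ← base_add R]
  group

theorem xG_inv {α β : Idx m} (h : α ≠ β) (t : F) : (xG R α β t)⁻¹ = xG R α β (-t) := by
  rw [inv_eq_iff_mul_eq_one, xG_add R h, add_neg_cancel, xG_zero R h]

end Roots

end CfsgLib.SpPres
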