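import Cfsg.Agent.Lib.BoundedPres.SpGroup

/-!
The symplectic group satisfies the relations and is generated by the three families of generators.
-/

set_option autoImplicit false

namespace CfsgLib.SpPres

open Matrix Cfsg CfsgLib.Linear.Symp CfsgLib.Linear.SympReg CfsgLib.Linear.Dickson CfsgLib.SpBound
open scoped MatrixGroups

variable {F : Type*} [Field F] {m : ℕ}

theorem X_long_up (i : Fin m) (t : F) : planeHom i (up t) = X (.inl i) (.inr i) t :=
  planeHom_longSL (.inl i) t

theorem rel_long {i j : Fin m} (h : i ≠ j) (c : F) :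
    X (.inl i) (.inl j) 1 * X (.inl j) (.inr j) c =
      X (.inl i) (.inr j) c * X (.inl i) (.inr i) c * (X (.inl j) (.inr j) c * X (.inl i) (.inl j) 1) := by
  refine group_ext fun v => ?_
  have a1 : (Sum.inl i : Idx m) ≠ .inl j := by simp [h]
  have a2 : (Sum.inl j : Idx m) ≠ .inr j := by simp
  have a3 : (Sum.inl i : Idx m) ≠ .inr j := by simp
  have a4 : (Sum.inl i : Idx m) ≠ .inr i := by simp
  simp only [mul_smul, X_smul a1, X_smul a2, X_smul a3, X_smul a4]
  funext z
  rcases z with z | z <;> by_cases z0 : z = i <;> by_cases z1 : z = j <;>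
    simp_all [op, wt, h.symm] <;> ring

theorem rel_shortL {i j : Fin m} (h : i ≠ j) :
    X (.inl i) (.inl j) (1 : F) * X (.inl j) (.inr i) 1 =
      X (.inl i) (.inr i) 2 * (X (.inl j) (.inr i) 1 * X (.inl i) (.inl j) 1) := by
  refine group_ext fun v => ?_
  have a1 : (Sum.inl i : Idx m) ≠ .inl j := by simp [h]
  have a3 : (Sum.inl j : Idx m) ≠ .inr i := by simp
  have a4 : (Sum.inl i : Idx m) ≠ .inr i := by simp
  simp only [mul_smul, X_smul a1, X_smul a3, X_smul a4]
  funext z
  rcases z with z | z <;> by_cases z0 : z = i <;> by_cases z1 : z = j <;>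
    simp_all [op, wt, h.symm] <;> ring

theorem rel_longC {i j : Fin m} (h : i ≠ j) :
    Commute (X (.inl i) (.inl j) (1 : F)) (X (.inl i) (.inr i) 1) := by
  refine group_ext fun v => ?_
  have a1 : (Sum.inl i : Idx m) ≠ .inl j := by simp [h]
  have a4 : (Sum.inl i : Idx m) ≠ .inr i := by simp
  simp only [mul_smul, X_smul a1, X_smul a4]
  funext z
  rcases z with z | z <;> by_cases z0 : z = i <;> by_cases z1 : z = j <;>
    simp_all [op, wt, h.symm] <;> ring

theorem rel_out {i j k : Fin m} (h : i ≠ j) (hi : k ≠ i) (hj : k ≠ j) (g : SL(2, F)) :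
    Commute (planeHom k g) (X (.inl i) (.inl j) 1) := by
  refine group_ext fun v => ?_
  have a1 : (Sum.inl i : Idx m) ≠ .inl j := by simp [h]
  simp only [mul_smul, planeHom_smul, X_smul a1]
  funext z
  rcases z with z | z <;> by_cases z0 : z = i <;> by_cases z1 : z = j <;> by_cases z2 : z = k <;>
    simp_all [op, wt, eA, eB, h.symm] <;> ring

theorem rel_chain {i j k : Fin m} (h : i ≠ j) (hi : k ≠ i) (hj : k ≠ j) :
    X (.inl i) (.inl j) (1 : F) * X (.inl j) (.inl k) 1 =
      X (.inl i) (.inl k) 1 * (X (.inl j) (.inl k) 1 * X (.inl i) (.inl j) 1) := by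
  refine group_ext fun v => ?_
  have a1 : (Sum.inl i : Idx m) ≠ .inl j := by simp [h]
  have a2 : (Sum.inl j : Idx m) ≠ .inl k := by simp [hj.symm]
  have a3 : (Sum.inl i : Idx m) ≠ .inl k := by simp [hi.symm]
  simp only [mul_smul, X_smul a1, X_smul a2, X_smul a3]
  funext z
  rcases z with z | z <;> by_cases z0 : z = i <;> by_cases z1 : z = j <;> by_cases z2 : z = k <;>
    simp_all [op, wt, h.symm] <;> ring

theorem rel_share {i j k : Fin m} (h : i ≠ j) (hi : k ≠ i) (hj : k ≠ j) :
    Commute (X (.inl i) (.inl j) (1 : F)) (X (.inl i) (.inl k) 1) := by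
  refine group_ext fun v => ?_
  have a1 : (Sum.inl i : Idx m) ≠ .inl j := by simp [h]
  have a3 : (Sum.inl i : Idx m) ≠ .inl k := by simp [hi.symm]
  simp only [mul_smul, X_smul a1, X_smul a3]
  funext z
  rcases z with z | z <;> by_cases z0 : z = i <;> by_cases z1 : z = j <;> by_cases z2 : z = k <;>
    simp_all [op, wt, h.symm] <;> ring

theorem rel_far {i j k l : Fin m} (h : i ≠ j) (hi : k ≠ i) (hj : k ≠ j) (li : l ≠ i) (lj : l ≠ j)
    (hkl : k ≠ l) : Commute (X (.inl i) (.inl j) (1 : F)) (X (.inl k) (.inl l) 1) := by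
  refine group_ext fun v => ?_
  have a1 : (Sum.inl i : Idx m) ≠ .inl j := by simp [h]
  have a3 : (Sum.inl k : Idx m) ≠ .inl l := by simp [hkl]
  simp only [mul_smul, X_smul a1, X_smul a3]
  funext z
  rcases z with z | z <;> by_cases z0 : z = i <;> by_cases z1 : z = j <;> by_cases z2 : z = k <;>
    by_cases z3 : z = l <;> simp_all [op, wt, h.symm, hkl.symm, Ne.symm]

theorem rel_weyl (hm : 2 ≤ m) :
    y0 (F := F) hm * X (.inl (o1 hm)) (.inl (o0 hm)) (-1) * y0 hm =
      monSp (pair2 hm (dg 1) (dg (-1)) (sw hm)) := by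
  refine group_ext fun v => ?_
  have hne := o0_ne_o1 hm
  have a1 : (Sum.inl (o0 hm) : Idx m) ≠ .inl (o1 hm) := by simp [hne]
  have a2 : (Sum.inl (o1 hm) : Idx m) ≠ .inl (o0 hm) := by simp [hne.symm]
  simp only [mul_smul, y0, X_smul a1, X_smul a2, monSp_smul]
  funext z
  rcases z with z | z <;> by_cases z0 : z = o0 hm <;> by_cases z1 : z = o1 hm <;>
    simp_all [pair2, dg, op, wt, Equiv.swap_apply_of_ne_of_ne]

variable (hm : 2 ≤ m)

theorem perm_mono_conj (σ : Equiv.Perm (Fin m)) :
    conjy (y0 (F := F) hm) (permSp σ) = X (.inl (σ (o0 hm))) (.inl (σ (o1 hm))) 1 := by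
  have e : monSp (SemidirectProduct.inr σ : MonP F m) = permSp σ := by
    rw [monSp_apply]
    simp only [SemidirectProduct.left_inr, SemidirectProduct.right_inr]
    rw [show (fun i => (((1 : Fin m → Mon2 F) i : Mon2 F) : SL(2, F))) = 1 from rfl, map_one, one_mul]
  rw [conjy, ← e, monSp_conj _ (by simp [o0_ne_o1 hm]) one_ne_zero (perm_images σ _) (perm_images σ _)]
  simp

theorem sec_target (g : SL(2, F)) :
    sec hm (planeHom (o0 hm)) permSp g = planeHom (o1 hm) g := by
  rw [sec, permSp_planeHom, Equiv.swap_apply_left]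

theorem word2_target (a b : Mon2 F) (σ : Equiv.Perm (Fin m)) :
    word2 hm (planeHom (o0 hm)) permSp a b σ = monSp (pair2 hm a b σ) := by
  rw [word2, sec_target, monSp_pair2]

theorem planeHom_commute {i j : Fin m} (h : i ≠ j) (g g' : SL(2, F)) :
    Commute (planeHom i g) (planeHom j g') := by
  rw [← allHom_single, ← allHom_single]
  exact (Pi.mulSingle_commute (f := fun _ : Fin m => SL(2, F)) h g g').map allHom

theorem target_rels (w : Fˣ) : Rels hm (planeHom (o0 hm)) permSp (y0 (F := F) hm) w := by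
  have hne := o0_ne_o1 hm
  have hy : ∀ σ, permSp σ * y0 (F := F) hm * (permSp σ)⁻¹ = X (.inl (σ (o0 hm))) (.inl (σ (o1 hm))) 1 :=
    perm_mono_conj hm
  constructor
  · intro σ h g
    show _ = _
    rw [← mul_inv_eq_iff_eq_mul, permSp_planeHom, h]
  · intro g h
    rw [sec_target]
    exact planeHom_commute hne g h
  · intro σ h0 h1
    show _ = _
    rw [← mul_inv_eq_iff_eq_mul, hy, h0, h1]
  · intro h3 g
    rw [permSp_planeHom, Equiv.swap_apply_left]
    exact rel_out hne (by simp [Fin.ext_iff]) (by simp [Fin.ext_iff]) g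
  · show _ = _
    rw [← mul_inv_eq_iff_eq_mul, word2_target, monSp_conj _ (by simp [hne]) one_ne_zero
      (by rw [(rev_images hm).1, one_smul]) (rev_images hm).2]
    have := X_sym (F := F) (α := (Sum.inl (o0 hm) : Idx m)) (β := .inl (o1 hm)) (by simp [hne])
      (by simp [op]) 1
    simp [op, wt] at this ⊢
    exact this
  · show _ = _
    obtain ⟨f0, f1⟩ := pair2_images (hm := hm) w w 1 rfl rfl
    rw [← mul_inv_eq_iff_eq_mul, word2_target, monSp_conj _ (by simp [hne]) w.ne_zero f0 f1]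
    simp
  · intro c _
    obtain ⟨f0, f1⟩ := dg_ad_images hm c 1 1 rfl rfl
    rw [sec_target, conjy, word2_target, monSp_conj _ (by simp [hne]) c.ne_zero f0 f1, X_long_up, X_long_up]
    simp only [Units.val_one, inv_one, mul_one, one_mul]
    exact rel_long hne _
  · rw [X_long_up]
    exact rel_longC hne
  · obtain ⟨f0, f1⟩ := ad_dg_swap_images (F := F) hm 1 1
    rw [conjy, word2_target, monSp_conj _ (by simp [hne]) (by simp) f0 f1, X_long_up]
    simp only [Units.val_one, inv_one, mul_one]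
    exact rel_shortL hne
  · intro h3
    rw [conjy, hy, conjy, hy]
    have s0 : Equiv.swap (o1 hm) (Fin.castLE h3 2) (o0 hm) = o0 hm :=
      Equiv.swap_apply_of_ne_of_ne hne (by simp [Fin.ext_iff])
    rw [Equiv.Perm.mul_apply, Equiv.Perm.mul_apply, s0, Equiv.swap_apply_left (o1 hm), Equiv.swap_apply_left,
      Equiv.swap_apply_of_ne_of_ne (show Fin.castLE h3 2 ≠ o0 hm by simp [Fin.ext_iff])
        (show Fin.castLE h3 2 ≠ o1 hm by simp [Fin.ext_iff])]
    exact rel_chain hne (by simp [Fin.ext_iff]) (by simp [Fin.ext_iff])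
  · intro h3
    rw [conjy, hy, Equiv.swap_apply_of_ne_of_ne hne (by simp [Fin.ext_iff]), Equiv.swap_apply_left]
    exact rel_share hne (by simp [Fin.ext_iff]) (by simp [Fin.ext_iff])
  · intro h4
    rw [conjy, hy]
    have e0 : (Equiv.swap (o0 hm) (Fin.castLE h4 2) * Equiv.swap (o1 hm) (Fin.castLE h4 3)) (o0 hm) =
        Fin.castLE h4 2 := by simp [Equiv.swap_apply_def, Fin.ext_iff]
    have e1 : (Equiv.swap (o0 hm) (Fin.castLE h4 2) * Equiv.swap (o1 hm) (Fin.castLE h4 3)) (o1 hm) =
        Fin.castLE h4 3 := by simp [Equiv.swap_apply_def, Fin.ext_iff]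
    rw [e0, e1]
    exact rel_far hne (by simp [Fin.ext_iff]) (by simp [Fin.ext_iff]) (by simp [Fin.ext_iff])
      (by simp [Fin.ext_iff]) (by simp [Fin.ext_iff])
  · obtain ⟨f0, f1⟩ := dg_dg_swap_images (F := F) hm 1 (-1)
    rw [conjy, word2_target, monSp_conj _ (by simp [hne]) (by simp) f0 f1]
    simpa using rel_weyl (F := F) hm

variable [Fintype F]

theorem target_hyp (w : Fˣ) (hgen : ∀ x : Fˣ, x ∈ Subgroup.zpowers w) :
    Hyp hm (MonoidHom.id _) (planeHom (o0 hm)) permSp (y0 (F := F) hm) w :=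
  ⟨fun _ => rfl, fun _ => rfl, rfl, hgen, target_rels hm w⟩

theorem target_gen (w : Fˣ) (hgen : ∀ x : Fˣ, x ∈ Subgroup.zpowers w) :
    (planeHom (F := F) (o0 hm)).range ⊔ permSp.range ⊔ Subgroup.zpowers (y0 hm) = ⊤ := by
  classical
  set K : Subgroup (symplecticGroup (Fin m) F) :=
    (planeHom (o0 hm)).range ⊔ permSp.range ⊔ Subgroup.zpowers (y0 hm)
  set R := target_hyp hm w hgen
  have hΦ : ∀ g, planeHom (o0 hm) g ∈ K := fun g => Subgroup.mem_sup_left (Subgroup.mem_sup_left ⟨g, rfl⟩)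
  have hπ : ∀ σ, permSp σ ∈ K := fun σ => Subgroup.mem_sup_left (Subgroup.mem_sup_right ⟨σ, rfl⟩)
  have hy : y0 hm ∈ K := Subgroup.mem_sup_right (Subgroup.mem_zpowers _)
  have hplane : ∀ i g, planeHom i g ∈ K := fun i g => by
    have := mul_mem (mul_mem (hπ (Equiv.swap (o0 hm) i)) (hΦ g)) (inv_mem (hπ (Equiv.swap (o0 hm) i)))
    rwa [permSp_planeHom, Equiv.swap_apply_left] at this
  have hmon : ∀ p, monSp p ∈ K := by
    intro p
    rw [monSp_apply]
    refine mul_mem ?_ (hπ _)
    let C : Submonoid (Fin m → SL(2, F)) := K.toSubmonoid.comap allHom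
    have : (fun i => (p.left i : SL(2, F))) ∈ C := Submonoid.pi_mem_of_mulSingle_mem _ fun i => by
      show allHom _ ∈ K
      rw [allHom_single]
      exact hplane _ _
    exact this
  have hX : ∀ {α β : Idx m}, α ≠ β → ∀ t, X α β t ∈ K := by
    intro α β h t
    by_cases hb : β = op α
    · subst hb; rw [← planeHom_longSL]; exact hplane _ _
    by_cases ht : t = 0
    · subst ht; rw [X_zero h]; exact one_mem K
    obtain ⟨p, hp⟩ := exists_conj hm h hb ht
    rw [← hp]
    exact mul_mem (mul_mem (hmon p) hy) (inv_mem (hmon p))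
  have hgrp : grpI (xG R) Finset.univ ≤ K := by
    rw [grpI, Subgroup.closure_le]
    rintro _ ⟨α, β, t, h, -, -, rfl⟩
    have := phi_xG R h t
    rw [MonoidHom.id_apply] at this
    rw [this]
    exact hX h t
  have htr : ∀ v : Idx m → F, v ≠ 0 → ∃ g ∈ K, g • (bas (.inl (o0 hm)) : Idx m → F) = v := by
    intro v hv
    obtain ⟨α, hα⟩ := Function.ne_iff.1 hv
    have hI : SpBound.Closed (op (m := m)) Finset.univ := fun _ _ => Finset.mem_univ _
    obtain ⟨u, hu, hue⟩ := (sys R).col_reach hI (Finset.mem_univ α) (v := v)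
      (fun γ hγ => absurd (Finset.mem_univ γ) hγ) hα
    obtain ⟨k, hk, hke⟩ := (sys R).exists_mon hI (Finset.mem_univ (.inl (o0 hm))) (Finset.mem_univ α) hα
    refine ⟨u * k, mul_mem (hgrp ((sys R).col_le_grpI (Finset.mem_univ α) hu))
      (hgrp ((sys R).monI_le_grpI _ hk)), ?_⟩
    have e1 := rho_apply (φ := MonoidHom.id _) u (Pi.single α (v α))
    have e2 := rho_apply (φ := MonoidHom.id _) k (bas (.inl (o0 hm)))
    rw [MonoidHom.id_apply, hue] at e1
    rw [MonoidHom.id_apply, hke] at e2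
    rw [mul_smul, ← e2, ← e1]
  rw [eq_top_iff, ← transvectionSubgroup_eq_top, transvectionSubgroup, Subgroup.closure_le]
  rintro A ⟨v, c, hA⟩
  obtain rfl : A = tv v c := Subtype.ext hA
  by_cases hv : v = 0
  · subst hv
    have : tv (0 : Idx m → F) c = 1 := group_ext fun x => by simp [tv_smul]
    rw [this]; exact one_mem K
  obtain ⟨g, hg, e⟩ := htr v hv
  rw [← e, ← tv_conj, show (bas (.inl (o0 hm)) : Idx m → F) = eA (o0 hm) from rfl, ← planeHom_up]
  exact mul_mem (mul_mem hg (hΦ _)) (inv_mem hg)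

end CfsgLib.SpPres
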