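import Cfsg.Agent.Lib.AltHall.CoxeterA
import Cfsg.Agent.Lib.BoundedPres.Basic

/-!
Homomorphisms out of symmetric groups from adjacent and from star transpositions.
-/

set_option autoImplicit false

namespace CfsgLib.BoundedPres

open Equiv
open CfsgLib.AltHall (ARel)

variable {G : Type*} [Group G]

theorem braid_cube {a b : G} (ha : a * a = 1) (hb : b * b = 1) (h : (a * b) ^ 3 = 1) :
    a * b * a = b * a * b := by
  rw [pow_three] at h
  have h' : (a * b * a) * (b * a * b) = 1 := by rw [← h]; group
  rw [eq_inv_of_mul_eq_one_left h', mul_inv_rev, mul_inv_rev, inv_eq_of_mul_eq_one_right ha,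
    inv_eq_of_mul_eq_one_right hb, ← mul_assoc]

theorem commute_of_sq {a b : G} (ha : a * a = 1) (hb : b * b = 1) (h : (a * b) ^ 2 = 1) : Commute a b := by
  rw [pow_two] at h
  have := eq_inv_of_mul_eq_one_left h
  rwa [mul_inv_rev, inv_eq_of_mul_eq_one_right ha, inv_eq_of_mul_eq_one_right hb] at this

/-- A homomorphism out of the symmetric group from the relations of type `A`. -/
theorem perm_hom_of_aRel {f : ℕ → G} {n : ℕ} (h : ARel f n) :
    ∃ π : Perm (Fin (n + 1)) →* G, ∀ i : Fin n, π (Equiv.swap i.castSucc i.succ) = f i := by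
  obtain ⟨cs, hcs⟩ := CfsgLib.AltHall.exists_coxeterSystem_perm n
  have hlift : CoxeterMatrix.IsLiftable (CoxeterMatrix.A n) fun i : Fin n => f i := by
    intro i j
    rw [show (CoxeterMatrix.A n) i j =
      if i = j then 1 else (if (j : ℕ) + 1 = i ∨ (i : ℕ) + 1 = j then 3 else 2) from rfl]
    have key : ∀ a, a + 1 < n → (f a * f (a + 1)) ^ 3 = 1 := by
      intro a ha
      rw [pow_three]
      calc f a * f (a + 1) * (f a * f (a + 1) * (f a * f (a + 1)))
          = (f a * f (a + 1) * f a) * (f (a + 1) * f a * f (a + 1)) := by group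
        _ = (f (a + 1) * f a * f (a + 1)) * (f (a + 1) * f a * f (a + 1)) := by rw [h.2.2 a ha]
        _ = f (a + 1) * f a * (f (a + 1) * f (a + 1)) * f a * f (a + 1) := by group
        _ = f (a + 1) * (f a * f a) * f (a + 1) := by rw [h.1 (a + 1) ha, mul_one]; group
        _ = 1 := by rw [h.1 a (by omega), mul_one, h.1 (a + 1) ha]
    split_ifs with h1 h2
    · rw [h1, pow_one]; exact h.1 j j.2
    · rcases h2 with h2 | h2
      · have hk := key j (by omega)
        rw [h2] at hk
        have := congrArg (·⁻¹) hk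
        simpa [← inv_pow, inv_eq_of_mul_eq_one_right (h.1 j j.2), inv_eq_of_mul_eq_one_right (h.1 i i.2)]
          using this
      · have hk := key i (by omega)
        rwa [h2] at hk
    · push Not at h2
      have hne : (i : ℕ) ≠ j := fun e => h1 (Fin.ext e)
      have hc : Commute (f i) (f j) := by
        rcases Nat.lt_or_ge (i : ℕ) j with hlt | hge
        · exact h.2.1 i j j.2 (by omega)
        · exact (h.2.1 j i i.2 (by omega) : Commute (f j) (f i)).symm
      rw [hc.mul_pow, pow_two, pow_two, h.1 i i.2, h.1 j j.2, one_mul]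
  exact ⟨cs.lift ⟨fun i : Fin n => f i, hlift⟩,
    fun i => by rw [← hcs i]; exact cs.lift_apply_simple hlift i⟩

theorem perm_eq_top_of_adjacent {n : ℕ} (H : Subgroup (Perm (Fin (n + 1))))
    (h : ∀ i : Fin n, Equiv.swap i.castSucc i.succ ∈ H) : H = ⊤ := by
  rw [eq_top_iff]
  intro g _
  have hg : g ∈ Submonoid.closure (Set.range fun i : Fin n => Equiv.swap i.castSucc i.succ) := by
    rw [Equiv.Perm.mclosure_swap_castSucc_succ]; exact Submonoid.mem_top g
  refine (Submonoid.closure_le (S := H.toSubmonoid)).2 ?_ hg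
  rintro _ ⟨i, rfl⟩
  exact h i

section Star

variable {N : ℕ} (z : ℕ → G) (sq : ∀ i < N, z i * z i = 1)
  (cube : ∀ i j, i < N → j < N → i ≠ j → (z i * z j) ^ 3 = 1)
  (quad : ∀ i j k, i < N → j < N → k < N → i ≠ j → i ≠ k → j ≠ k → (z i * z j * z i * z k) ^ 2 = 1)

/-- The adjacent transpositions made of star transpositions. -/
def adjStar (k : ℕ) : G := if k = 0 then z 0 else z (k - 1) * z k * z (k - 1)

include sq cube quad

theorem aRel_adjStar : ARel (adjStar z) N := by
  have hb : ∀ i j, i < N → j < N → i ≠ j → z i * z j * z i = z j * z i * z j := fun i j hi hj h =>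
    braid_cube (sq i hi) (sq j hj) (cube i j hi hj h)
  have hinv : ∀ i < N, (z i)⁻¹ = z i := fun i hi => inv_eq_of_mul_eq_one_right (sq i hi)
  have htsq : ∀ i j, i < N → j < N → (z i * z j * z i) * (z i * z j * z i) = 1 := fun i j hi hj => by
    calc (z i * z j * z i) * (z i * z j * z i) = z i * z j * (z i * z i) * z j * z i := by group
      _ = z i * (z j * z j) * z i := by rw [sq i hi, mul_one]; group
      _ = 1 := by rw [sq j hj, mul_one, sq i hi]
  have hc : ∀ a b k, a < N → b < N → k < N → a ≠ b → a ≠ k → b ≠ k →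
      Commute (z a * z b * z a) (z k) := fun a b k ha hb' hk h1 h2 h3 =>
    commute_of_sq (htsq a b ha hb') (sq k hk) (quad a b k ha hb' hk h1 h2 h3)
  refine ⟨fun i hi => ?_, fun i j hj hij => ?_, fun i hi => ?_⟩
  · unfold adjStar
    split_ifs with h
    · exact sq 0 (by omega)
    · exact htsq _ _ (by omega) hi
  · show Commute (adjStar z i) (adjStar z j)
    unfold adjStar
    rw [if_neg (show j ≠ 0 by omega)]
    split_ifs with h
    · exact (hc (j - 1) j 0 (by omega) hj (by omega) (by omega) (by omega) (by omega)).symm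
    · have h1 := hc (i - 1) i (j - 1) (by omega) (by omega) (by omega) (by omega) (by omega) (by omega)
      have h2 := hc (i - 1) i j (by omega) (by omega) hj (by omega) (by omega) (by omega)
      exact (h1.mul_right h2).mul_right h1
  · unfold adjStar
    rw [if_neg (show i + 1 ≠ 0 by omega), Nat.add_sub_cancel]
    split_ifs with h
    · subst h
      have e : z 0 * (z 0 * z 1 * z 0) * z 0 = z 1 := by
        calc z 0 * (z 0 * z 1 * z 0) * z 0 = (z 0 * z 0) * z 1 * (z 0 * z 0) := by group
          _ = z 1 := by rw [sq 0 (by omega), one_mul, mul_one]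
      rw [e]
      calc z 1 = z 0 * (z 0 * z 1 * z 0) * z 0 := e.symm
        _ = z 0 * (z 1 * z 0 * z 1) * z 0 := by rw [hb 0 1 (by omega) hi (by omega)]
        _ = z 0 * z 1 * (z 0 * z 0) * z 0 * (z 1 * z 0) := by
          rw [sq 0 (by omega), mul_one]; group
        _ = _ := by group
    · set a := z (i - 1)
      set b := z i
      set c := z (i + 1)
      have ha := sq (i - 1) (by omega)
      have hb2 := sq i (by omega)
      have hab : a * b * a = b * a * b := hb _ _ (by omega) (by omega) (by omega)
      have hac : a * c * a = c * a * c := hb _ _ (by omega) hi (by omega)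
      have e1 : a * b * a = b * a * b⁻¹ := by rw [hab, hinv i (by omega)]
      have e2 : b * c * b = b * c * b⁻¹ := by rw [hinv i (by omega)]
      rw [e1, e2]
      calc b * a * b⁻¹ * (b * c * b⁻¹) * (b * a * b⁻¹) = b * (a * c * a) * b⁻¹ := by group
        _ = b * (c * a * c) * b⁻¹ := by rw [hac]
        _ = _ := by group

/-- A homomorphism out of the symmetric group from star transpositions. -/
theorem perm_hom_of_star : ∃ π : Perm (Fin (N + 1)) →* G, ∀ i (h : i < N),
    π (Equiv.swap 0 (⟨i, h⟩ : Fin N).succ) = z i := by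
  obtain ⟨π, hπ⟩ := perm_hom_of_aRel (aRel_adjStar z sq cube quad)
  refine ⟨π, fun i => ?_⟩
  induction i with
  | zero =>
    intro h
    rw [show (0 : Fin (N + 1)) = (⟨0, h⟩ : Fin N).castSucc from rfl, hπ]
    simp [adjStar]
  | succ k ih =>
    intro h
    have hk : k < N := by omega
    have h1 := hπ ⟨k + 1, h⟩
    rw [show adjStar z ((⟨k + 1, h⟩ : Fin N) : ℕ) = z k * z (k + 1) * z k by simp [adjStar],
      show (⟨k + 1, h⟩ : Fin N).castSucc = (⟨k, hk⟩ : Fin N).succ from rfl] at h1
    have e := Equiv.swap_mul_swap_mul_swap (x := (0 : Fin (N + 1))) (y := (⟨k, hk⟩ : Fin N).succ)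
      (z := (⟨k + 1, h⟩ : Fin N).succ) (by simp [Fin.ext_iff]) (by simp [Fin.ext_iff])
    rw [Equiv.swap_comm 0 (⟨k + 1, h⟩ : Fin N).succ, ← e, map_mul, map_mul, h1, ih hk]
    have hb := braid_cube (sq k hk) (sq (k + 1) h) (cube k (k + 1) hk h (by omega))
    calc z k * z (k + 1) * z k * z k * (z k * z (k + 1) * z k)
        = z k * z (k + 1) * (z k * z k) * z k * z (k + 1) * z k := by group
      _ = (z k * z (k + 1) * z k) * z (k + 1) * z k := by rw [sq k hk, mul_one]
      _ = z (k + 1) * z k * (z (k + 1) * z (k + 1)) * z k := by rw [hb]; group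
      _ = z (k + 1) := by rw [sq (k + 1) h, mul_one, mul_assoc, sq k hk, mul_one]

end Star

end CfsgLib.BoundedPres
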