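import Cfsg.Agent.Lib.BoundedPres.Star

/-!
Symmetric groups of degree `p + 2` from the action of `PGL₂(p)` on star transpositions.
-/

set_option autoImplicit false

namespace CfsgLib.BoundedPres

open Equiv

variable {p : ℕ} [Fact p.Prime]

/-- The inversion of the projective line. -/
def invLine : Perm (Option (ZMod p)) where
  toFun i := i.elim (some 0) fun a => if a = 0 then none else some (-a⁻¹)
  invFun i := i.elim (some 0) fun a => if a = 0 then none else some (-a⁻¹)
  left_inv i := by
    cases i with
    | none => simp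
    | some a => by_cases h : a = 0 <;> simp [h]
  right_inv i := by
    cases i with
    | none => simp
    | some a => by_cases h : a = 0 <;> simp [h]

theorem invLine_invLine (i : Option (ZMod p)) : invLine (invLine i) = i := invLine.left_inv i

theorem invLine_none : invLine (p := p) none = some 0 := rfl

theorem invLine_some {a : ZMod p} : invLine (some a) = if a = 0 then none else some (-a⁻¹) := rfl

/-- The translation. -/
def shiftLine : Perm (Option (ZMod p)) := Equiv.optionCongr (Equiv.addRight (1 : ZMod p))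

/-- The dilation. -/
def scaleLine (g : (ZMod p)ˣ) : Perm (Option (ZMod p)) := Equiv.optionCongr (Units.mulLeft g)

section Core

variable {G : Type*} [Group G] (z u t : G)

/-- The star transpositions in terms of the generators. -/
def zOf (i : Option (ZMod p)) : G := i.elim z fun a => u ^ a.val * (t * z * t) * (u ^ a.val)⁻¹

theorem map_zOf {G' : Type*} [Group G'] (f : G →* G') (i : Option (ZMod p)) :
    f (zOf z u t i) = zOf (f z) (f u) (f t) i := by
  cases i <;> simp [zOf]

end Core

/-- An invariant predicate on triples holding at the base triple holds at all. -/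
theorem triple_induction {g : (ZMod p)ˣ} (hgen : ∀ a : (ZMod p)ˣ, ∃ m : ℕ, g ^ m = a)
    (P : Option (ZMod p) → Option (ZMod p) → Option (ZMod p) → Prop)
    (hs : ∀ i j k, P i j k → P (shiftLine i) (shiftLine j) (shiftLine k))
    (hh : ∀ i j k, P i j k → P (scaleLine g i) (scaleLine g j) (scaleLine g k))
    (ht : ∀ i j k, P i j k → P (invLine i) (invLine j) (invLine k))
    (hbase : P none (some 0) (some 1)) {i j k : Option (ZMod p)} (hij : i ≠ j) (hik : i ≠ k)
    (hjk : j ≠ k) : P i j k := by
  have hshift : ∀ (n : ℕ) i j k, P i j k →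
      P ((shiftLine ^ n : Perm (Option (ZMod p))) i) ((shiftLine ^ n : Perm (Option (ZMod p))) j)
        ((shiftLine ^ n : Perm (Option (ZMod p))) k) := by
    intro n
    induction n with
    | zero => intro i j k h; simpa using h
    | succ n ih => intro i j k h; simp only [pow_succ', Perm.mul_apply]; exact hs _ _ _ (ih i j k h)
  have hsome : ∀ (n : ℕ) (a : ZMod p), (shiftLine ^ n : Perm (Option (ZMod p))) (some a) = some (a + n) ∧
      (shiftLine ^ n : Perm (Option (ZMod p))) none = none := by
    intro n a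
    induction n with
    | zero => simp
    | succ n ih =>
      simp only [pow_succ', Perm.mul_apply, ih.1, ih.2]
      simp [shiftLine, add_assoc]
  have hscale : ∀ m : ℕ, P none (some 0) (some ((g : ZMod p) ^ m)) := by
    intro m
    induction m with
    | zero => simpa using hbase
    | succ m ih =>
      have := hh _ _ _ ih
      simpa [scaleLine, pow_succ'] using this
  have hinf : ∀ a b : ZMod p, a ≠ b → P none (some a) (some b) := by
    intro a b hab
    obtain ⟨m, hm⟩ := hgen (Units.mk0 (b - a) (sub_ne_zero.2 hab.symm))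
    have := hshift a.val _ _ _ (hscale m)
    rw [(hsome _ 0).2, (hsome _ 0).1, (hsome _ _).1, ← Units.val_pow_eq_pow_val, hm] at this
    simpa using this
  cases i with
  | none =>
    cases j with
    | none => exact absurd rfl hij
    | some a => cases k with
      | none => exact absurd rfl hik
      | some b => exact hinf a b fun e => hjk (by rw [e])
  | some c =>
    set σ : Perm (Option (ZMod p)) := shiftLine ^ c.val with hσ
    have hσc : σ (some 0) = some c := by rw [hσ, (hsome _ 0).1]; simp
    set j' := invLine (σ.symm j) with hj'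
    set k' := invLine (σ.symm k) with hk'
    have hne : ∀ q, some c ≠ q → invLine (σ.symm q) ≠ none := by
      intro q hq e
      have e2 := congrArg invLine e
      rw [invLine_invLine, invLine_none, Equiv.symm_apply_eq, hσc] at e2
      exact hq e2.symm
    obtain ⟨a, ha⟩ := Option.ne_none_iff_exists'.1 (hne j hij)
    obtain ⟨b, hb⟩ := Option.ne_none_iff_exists'.1 (hne k hik)
    have hab : a ≠ b := by
      intro e
      apply hjk
      exact σ.symm.injective (invLine.injective (by rw [ha, hb, e]))
    have := hshift c.val _ _ _ (ht _ _ _ (hinf a b hab))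
    rwa [← ha, ← hb, invLine_invLine, invLine_invLine, invLine_none, ← hσ, hσc, Equiv.apply_symm_apply,
      Equiv.apply_symm_apply] at this

/-- The symmetric group of degree `p + 2` has a presentation with eleven relations. -/
theorem pres_sym_prime (hp : 3 ≤ p) : Pres (Perm (Option (Option (ZMod p)))) 11 := by
  classical
  haveI : NeZero p := ⟨(Fact.out : p.Prime).ne_zero⟩
  obtain ⟨g, hgen'⟩ := IsCyclic.exists_generator (α := (ZMod p)ˣ)
  have hgen : ∀ a : (ZMod p)ˣ, ∃ m : ℕ, g ^ m = a := fun a => by
    have h := hgen' a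
    rwa [← mem_powers_iff_mem_zpowers] at h
  have hg1 : g ≠ 1 := by
    rintro rfl
    have hone : ∀ a : (ZMod p)ˣ, a = 1 := fun a => by
      obtain ⟨m, hm⟩ := hgen a
      rw [← hm, one_pow]
    haveI : Subsingleton (ZMod p)ˣ := ⟨fun a b => (hone a).trans (hone b).symm⟩
    have hc := ZMod.card_units p
    have := Fintype.card_le_one_iff_subsingleton.2 (inferInstance : Subsingleton (ZMod p)ˣ)
    omega
  set γ : ℕ := (g : ZMod p).val with hγ
  have hγg : (γ : ZMod p) = (g : ZMod p) := ZMod.natCast_zmod_val _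
  -- the target
  set z₀ : Perm (Option (Option (ZMod p))) := Equiv.swap none (some none) with hz₀
  set u₀ : Perm (Option (Option (ZMod p))) := Equiv.optionCongr shiftLine with hu₀
  set h₀ : Perm (Option (Option (ZMod p))) := Equiv.optionCongr (scaleLine g) with hh₀
  set t₀ : Perm (Option (Option (ZMod p))) := Equiv.optionCongr invLine with ht₀
  have hu0pow : ∀ n : ℕ, ∀ a : ZMod p, (u₀ ^ n) (some (some a)) = some (some (a + n)) ∧
      (u₀ ^ n) (some none) = some none ∧ (u₀ ^ n) none = none := by
    intro n a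
    induction n with
    | zero => simp
    | succ n ih =>
      simp only [pow_succ', Perm.mul_apply, ih.1, ih.2.1, ih.2.2]
      simp [hu₀, shiftLine, add_assoc]
  have ht0 : t₀ * t₀ = 1 := by
    ext (_ | i) <;> simp [ht₀, invLine_invLine]
  have htinv : t₀⁻¹ = t₀ := inv_eq_of_mul_eq_one_right ht0
  have hz0i : ∀ i, zOf z₀ u₀ t₀ i = Equiv.swap none (some i) := by
    intro i
    cases i with
    | none => rfl
    | some a =>
      show u₀ ^ a.val * (t₀ * z₀ * t₀) * (u₀ ^ a.val)⁻¹ = _
      conv_lhs => rw [show t₀ * z₀ * t₀ = t₀ * z₀ * t₀⁻¹ by rw [htinv]]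
      rw [hz₀, ← Equiv.swap_apply_apply, ← Equiv.swap_apply_apply]
      congr 1
      · simp [ht₀, (hu0pow _ 0).2.2]
      · simp [ht₀, invLine_none, (hu0pow _ 0).1]
  have hclos : Subgroup.closure (Set.range fun i : Option (ZMod p) =>
      (Equiv.swap none (some i) : Perm (Option (Option (ZMod p))))) = ⊤ := by
    rw [eq_top_iff, ← Equiv.Perm.closure_isSwap, Subgroup.closure_le]
    set H := Subgroup.closure (Set.range fun i : Option (ZMod p) =>
      (Equiv.swap none (some i) : Perm (Option (Option (ZMod p)))))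
    have hsub : ∀ i, Equiv.swap none (some i) ∈ H := fun i => Subgroup.subset_closure ⟨i, rfl⟩
    rintro σ ⟨a, b, hab, rfl⟩
    cases a with
    | none => cases b with
      | none => exact absurd rfl hab
      | some j => exact hsub j
    | some i => cases b with
      | none => rw [Equiv.swap_comm]; exact hsub i
      | some j =>
        have e := Equiv.swap_mul_swap_mul_swap (x := (none : Option (Option (ZMod p)))) (y := some i)
          (z := some j) (by simp) (by simp)
        have h2 : Equiv.swap (some i) (some j) = Equiv.swap none (some i) * Equiv.swap none (some j) *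
            Equiv.swap none (some i) := by
          have hne : (some i : Option (Option (ZMod p))) ≠ some j := hab
          have := Equiv.swap_mul_swap_mul_swap (x := (some j : Option (Option (ZMod p)))) (y := none)
            (z := some i) (by simp) hne.symm
          rw [Equiv.swap_comm (some j) none] at this
          exact this.symm
        rw [SetLike.mem_coe, h2]
        exact H.mul_mem (H.mul_mem (hsub i) (hsub j)) (hsub i)
  obtain ⟨W, hW⟩ := exists_word hclos h₀
  let fz : FreeGroup (Fin 4) := FreeGroup.of 0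
  let fu : FreeGroup (Fin 4) := FreeGroup.of 1
  let fh : FreeGroup (Fin 4) := FreeGroup.of 2
  let ft : FreeGroup (Fin 4) := FreeGroup.of 3
  let L : List (FreeGroup (Fin 4)) :=
    [fu ^ p, fh * fu * fh⁻¹ * (fu ^ γ)⁻¹, ft * ft, ft * fh * ft * fh, (fu * ft) ^ 3, fz * fz,
      fz * fu * fz⁻¹ * fu⁻¹, fz * fh * fz⁻¹ * fh⁻¹, (fz * (ft * fz * ft)) ^ 3,
      (fz * zOf fz fu ft (some (0 : ZMod p)) * fz * zOf fz fu ft (some (1 : ZMod p))) ^ 2,
      fh * (FreeGroup.lift (zOf fz fu ft) W)⁻¹]
  have heval : ∀ {G : Type} [Group G] (f : Fin 4 → G),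
      FreeGroup.lift f (FreeGroup.lift (zOf fz fu ft) W) =
        FreeGroup.lift (zOf (f 0) (f 1) (f 3)) W := fun f =>
    hom_lift (FreeGroup.lift f) (fun i => by rw [map_zOf]; simp [fz, fu, ft]) W
  have hv : Kills ![z₀, u₀, h₀, t₀] L := by
    simp only [Kills, L, List.forall_mem_cons, List.not_mem_nil, false_imp_iff, implies_true, and_true]
    simp only [map_mul, map_inv, map_pow, fz, fu, fh, ft, FreeGroup.lift_apply_of, map_zOf, heval,
      Matrix.cons_val_zero, Matrix.cons_val_one, Matrix.cons_val, mul_inv_eq_one]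
    refine ⟨?_, ?_, ht0, ?_, ?_, Equiv.swap_mul_self _ _, ?_, ?_, ?_, ?_, ?_⟩
    · refine Equiv.ext ?_
      rintro (_ | _ | a) <;> simp [(hu0pow p _).1, (hu0pow p 0).2.1, (hu0pow p 0).2.2]
    · rw [mul_inv_eq_iff_eq_mul]
      have h1 := hu0pow 1
      simp only [pow_one, Nat.cast_one] at h1
      refine Equiv.ext ?_
      rintro (_ | _ | a)
      · simp [hh₀, (h1 0).2.2, (hu0pow γ 0).2.2]
      · simp [hh₀, scaleLine, (h1 0).2.1, (hu0pow γ 0).2.1]
      · simp [hh₀, scaleLine, (h1 _).1, (hu0pow γ _).1, mul_add, hγg]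
    · refine Equiv.ext ?_
      rintro (_ | _ | a)
      · simp [ht₀, hh₀]
      · simp [ht₀, hh₀, invLine_none, invLine_some, scaleLine]
      · by_cases ha : a = 0
        · simp [ht₀, hh₀, invLine_none, invLine_some, scaleLine, ha]
        · have hga : (g : ZMod p) * a ≠ 0 := mul_ne_zero g.ne_zero ha
          have e2 : (g : ZMod p) * -((g : ZMod p) * a)⁻¹ ≠ 0 :=
            mul_ne_zero g.ne_zero (neg_ne_zero.2 (inv_ne_zero hga))
          have e3 : -((g : ZMod p) * -((g : ZMod p) * a)⁻¹)⁻¹ = a := by field_simp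
          have hH : ∀ x : ZMod p, h₀ (some (some x)) = some (some ((g : ZMod p) * x)) := fun x => rfl
          have hT : ∀ x : ZMod p, x ≠ 0 → t₀ (some (some x)) = some (some (-x⁻¹)) := fun x hx => by
            show some (invLine (some x)) = _
            rw [invLine_some, if_neg hx]
          rw [Perm.mul_apply, Perm.mul_apply, Perm.mul_apply, hH, hT _ hga, hH, hT _ e2, e3]
          rfl
    · refine Equiv.ext ?_
      rintro (_ | _ | a)
      · simp [pow_three, hu₀, ht₀]
      · simp [pow_three, hu₀, ht₀, shiftLine, invLine_none, invLine_some]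
      · by_cases ha : a = 0
        · subst ha; simp [pow_three, hu₀, ht₀, shiftLine, invLine_none, invLine_some]
        · by_cases ha1 : a = 1
          · subst ha1; simp [pow_three, hu₀, ht₀, shiftLine, invLine_none, invLine_some]
          · have h1 : a - 1 ≠ 0 := sub_ne_zero.2 ha1
            have hstep : ∀ x : ZMod p, x ≠ 0 →
                u₀ (t₀ (some (some x))) = some (some (-x⁻¹ + 1)) := fun x hx => by
              simp [hu₀, ht₀, shiftLine, invLine_some, hx]
            have e1 : -a⁻¹ + 1 = (a - 1) / a := by field_simp; ring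
            have e2 : -((a - 1) / a)⁻¹ + 1 = -(a - 1)⁻¹ := by field_simp; ring
            have e3 : -(-(a - 1)⁻¹)⁻¹ + 1 = a := by rw [inv_neg, inv_inv]; ring
            simp only [pow_three, Perm.mul_apply]
            rw [hstep a ha, e1, hstep _ (div_ne_zero h1 ha), e2,
              hstep _ (neg_ne_zero.2 (inv_ne_zero h1)), e3]
            simp
    · rw [mul_inv_eq_iff_eq_mul]
      refine Equiv.ext ?_
      rintro (_ | _ | a) <;> simp [hz₀, hu₀, shiftLine, Equiv.swap_apply_def]
    · rw [mul_inv_eq_iff_eq_mul]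
      refine Equiv.ext ?_
      rintro (_ | _ | a) <;> simp [hz₀, hh₀, scaleLine, Equiv.swap_apply_def]
    · have e := hz0i (some 0)
      simp only [zOf, Option.elim, ZMod.val_zero, pow_zero, one_mul, inv_one, mul_one] at e
      rw [e, hz₀]
      have hc : (Equiv.swap none (some none) * Equiv.swap none (some (some 0)) :
          Perm (Option (Option (ZMod p)))).IsThreeCycle :=
        Equiv.Perm.isThreeCycle_swap_mul_swap_same (by simp) (by simp) (by simp)
      rw [← hc.orderOf, pow_orderOf_eq_one]
    · rw [hz0i, hz0i, hz₀]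
      have h01 : (some (some 0) : Option (Option (ZMod p))) ≠ some (some 1) := by simp
      have e := Equiv.swap_mul_swap_mul_swap (x := (some (some 0) : Option (Option (ZMod p))))
        (y := none) (z := some none) (by simp) (by simp)
      rw [Equiv.swap_comm (some (some 0)) none] at e
      rw [e, pow_two]
      have hd : Equiv.Perm.Disjoint (Equiv.swap (some none) (some (some 0)))
          (Equiv.swap none (some (some 1)) : Perm (Option (Option (ZMod p)))) := by
        apply Equiv.Perm.disjoint_swap_swap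
        simp
      rw [hd.commute.symm.mul_mul_mul_comm, Equiv.swap_mul_self, Equiv.swap_mul_self, one_mul]
    · rw [show zOf z₀ u₀ t₀ = fun i => Equiv.swap none (some i) from funext hz0i, hW]
  have hgenT : Subgroup.closure (Set.range ![z₀, u₀, h₀, t₀]) = ⊤ := by
    rw [eq_top_iff, ← hclos, Subgroup.closure_le]
    rintro _ ⟨i, rfl⟩
    show Equiv.swap none (some i) ∈ Subgroup.closure (Set.range ![z₀, u₀, h₀, t₀])
    rw [← hz0i]
    have hm : ∀ k, ![z₀, u₀, h₀, t₀] k ∈ Subgroup.closure (Set.range ![z₀, u₀, h₀, t₀]) :=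
      fun k => Subgroup.subset_closure ⟨k, rfl⟩
    cases i with
    | none => exact hm 0
    | some a =>
      exact Subgroup.mul_mem _ (Subgroup.mul_mem _ (Subgroup.pow_mem _ (hm 1) _)
        (Subgroup.mul_mem _ (Subgroup.mul_mem _ (hm 3) (hm 0)) (hm 3)))
        (Subgroup.inv_mem _ (Subgroup.pow_mem _ (hm 1) _))
  refine Pres.of_bound ![z₀, u₀, h₀, t₀] L hv hgenT fun G _ f hf hk => ?_
  simp only [Kills, L, List.forall_mem_cons, List.not_mem_nil, false_imp_iff, implies_true, and_true] at hk
  simp only [map_mul, map_inv, map_pow, fz, fu, fh, ft, FreeGroup.lift_apply_of, map_zOf, heval,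
    mul_inv_eq_one] at hk
  obtain ⟨hup, hhu, htt, htht, hut, hzz, hzu, hzh, hpair, htriple, hword⟩ := hk
  set z := f 0 with hzdef
  set u := f 1 with hudef
  set h := f 2 with hhdef
  set t := f 3 with htdef
  set Z : Option (ZMod p) → G := zOf z u t with hZ
  have cz : Commute z u := by
    show z * u = u * z
    rw [← mul_inv_eq_iff_eq_mul, hzu]
  have ch : Commute z h := by
    show z * h = h * z
    rw [← mul_inv_eq_iff_eq_mul, hzh]
  have htinv : t⁻¹ = t := inv_eq_of_mul_eq_one_right htt
  have hth : t * h * t = h⁻¹ := eq_inv_of_mul_eq_one_left htht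
  have upow : ∀ a b : ZMod p, u ^ (a + b).val = u ^ a.val * u ^ b.val := fun a b => by
    rw [← pow_add, ZMod.val_add, ← pow_eq_pow_mod _ hup]
  have ucast : ∀ n : ℕ, u ^ n = u ^ ((n : ZMod p)).val := fun n => by
    rw [ZMod.val_natCast, ← pow_eq_pow_mod _ hup]
  have actU : ∀ i, u * Z i * u⁻¹ = Z (shiftLine i) := by
    intro i
    cases i with
    | none => show u * z * u⁻¹ = z; rw [← cz.eq, mul_inv_cancel_right]
    | some a =>
      show u * (u ^ a.val * (t * z * t) * (u ^ a.val)⁻¹) * u⁻¹ =
        u ^ (a + 1).val * (t * z * t) * (u ^ (a + 1).val)⁻¹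
      rw [add_comm a 1, upow, ZMod.val_one, pow_one]
      group
  have htzt : h * (t * z * t) * h⁻¹ = t * z * t := by
    have e1 : h * t = t * h⁻¹ := by
      rw [← hth, ← mul_assoc, ← mul_assoc, htt, one_mul]
    calc h * (t * z * t) * h⁻¹ = (h * t) * z * (t * h⁻¹) := by group
      _ = t * h⁻¹ * z * (h * t) := by rw [e1]
      _ = t * (h⁻¹ * (z * h)) * t := by group
      _ = t * z * t := by rw [ch.eq, inv_mul_cancel_left]
  have actH : ∀ i, h * Z i * h⁻¹ = Z (scaleLine g i) := by
    intro i
    cases i with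
    | none => show h * z * h⁻¹ = z; rw [← ch.eq, mul_inv_cancel_right]
    | some a =>
      show h * (u ^ a.val * (t * z * t) * (u ^ a.val)⁻¹) * h⁻¹ =
        u ^ ((g : ZMod p) * a).val * (t * z * t) * (u ^ ((g : ZMod p) * a).val)⁻¹
      have e : h * u ^ a.val * h⁻¹ = u ^ ((g : ZMod p) * a).val := by
        rw [← conj_pow, hhu, ← pow_mul, ucast (γ * a.val)]
        simp [hγg]
      calc h * (u ^ a.val * (t * z * t) * (u ^ a.val)⁻¹) * h⁻¹
          = (h * u ^ a.val * h⁻¹) * (h * (t * z * t) * h⁻¹) * (h * u ^ a.val * h⁻¹)⁻¹ := by group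
        _ = _ := by rw [e, htzt]
  have actHm : ∀ (m : ℕ) (a : ZMod p), h ^ m * Z (some a) * (h ^ m)⁻¹ = Z (some ((g : ZMod p) ^ m * a)) := by
    intro m a
    induction m with
    | zero => simp
    | succ m ih =>
      rw [pow_succ' h, mul_inv_rev, show h * h ^ m * Z (some a) * ((h ^ m)⁻¹ * h⁻¹) =
        h * (h ^ m * Z (some a) * (h ^ m)⁻¹) * h⁻¹ by group, ih, actH, pow_succ' (g : ZMod p), mul_assoc]
      rfl
  have hneg : u ^ (-1 : ZMod p).val = u⁻¹ := by
    rw [eq_inv_iff_mul_eq_one]
    have := upow (-1) 1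
    rw [neg_add_cancel, ZMod.val_zero, pow_zero, ZMod.val_one, pow_one] at this
    exact this.symm
  have htut : t * u * t = u⁻¹ * t * u⁻¹ := by
    rw [pow_three] at hut
    have : (u * t * u) * (t * u * t) = 1 := by rw [← hut]; group
    rw [eq_inv_of_mul_eq_one_right this, mul_inv_rev, mul_inv_rev, htinv, mul_assoc]
  have htz1 : t * Z (some 1) * t = Z (some (-1)) := by
    show t * (u ^ (1 : ZMod p).val * (t * z * t) * (u ^ (1 : ZMod p).val)⁻¹) * t =
      u ^ (-1 : ZMod p).val * (t * z * t) * (u ^ (-1 : ZMod p).val)⁻¹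
    rw [hneg, ZMod.val_one, pow_one]
    calc t * (u * (t * z * t) * u⁻¹) * t = (t * u * t) * z * (t * u * t)⁻¹ := by
          rw [mul_inv_rev, mul_inv_rev, htinv]; group
      _ = u⁻¹ * t * (u⁻¹ * (z * u)) * t⁻¹ * u := by rw [htut]; group
      _ = u⁻¹ * (t * z * t) * u⁻¹⁻¹ := by rw [cz.eq, inv_mul_cancel_left, htinv]; group
  have actT : ∀ i, t * Z i * t⁻¹ = Z (invLine i) := by
    intro i
    rw [htinv]
    cases i with
    | none =>
      show t * z * t = u ^ (0 : ZMod p).val * (t * z * t) * (u ^ (0 : ZMod p).val)⁻¹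
      simp
    | some a =>
      by_cases ha : a = 0
      · subst ha
        show t * (u ^ (0 : ZMod p).val * (t * z * t) * (u ^ (0 : ZMod p).val)⁻¹) * t = Z (invLine (some 0))
        rw [invLine_some, if_pos rfl, ZMod.val_zero, pow_zero, one_mul, inv_one, mul_one]
        show t * (t * z * t) * t = z
        rw [show t * (t * z * t) * t = (t * t) * z * (t * t) by group, htt, one_mul, mul_one]
      · rw [invLine_some, if_neg ha]
        obtain ⟨m, hm⟩ := hgen (Units.mk0 a ha)
        have hma : (g : ZMod p) ^ m = a := by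
          rw [← Units.val_pow_eq_pow_val, hm, Units.val_mk0]
        have e1 := actHm m 1
        rw [mul_one, hma] at e1
        have e2 := actHm m (-a⁻¹)
        rw [hma, mul_neg, mul_inv_cancel₀ ha, ← htz1] at e2
        have hthm : t * h ^ m * t = (h ^ m)⁻¹ := by
          rw [← inv_pow, ← hth]
          conv_lhs => rw [show t * h ^ m * t = t * h ^ m * t⁻¹ by rw [htinv]]
          rw [← conj_pow, htinv]
        rw [← e1]
        calc t * (h ^ m * Z (some 1) * (h ^ m)⁻¹) * t
            = (t * h ^ m * t) * (t * Z (some 1) * t) * (t * h ^ m * t)⁻¹ := by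
              rw [mul_inv_rev, mul_inv_rev, htinv]
              rw [show t * h ^ m * t * (t * Z (some 1) * t) * (t * ((h ^ m)⁻¹ * t)) =
                t * h ^ m * (t * t) * Z (some 1) * (t * t) * (h ^ m)⁻¹ * t by group, htt]
              group
          _ = Z (some (-a⁻¹)) := by
            rw [hthm, ← e2]
            group
  have key2 : ∀ (σ : G) (π : Perm (Option (ZMod p))), (∀ i, σ * Z i * σ⁻¹ = Z (π i)) →
      ∀ i j k, ((Z i * Z j) ^ 3 = 1 ∧ (Z i * Z j * Z i * Z k) ^ 2 = 1) →
        ((Z (π i) * Z (π j)) ^ 3 = 1 ∧ (Z (π i) * Z (π j) * Z (π i) * Z (π k)) ^ 2 = 1) := by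
    intro σ π hσ i j k ⟨h1, h2⟩
    refine ⟨?_, ?_⟩
    · rw [← hσ, ← hσ, show σ * Z i * σ⁻¹ * (σ * Z j * σ⁻¹) = σ * (Z i * Z j) * σ⁻¹ by group, conj_pow, h1,
        mul_one, mul_inv_cancel]
    · rw [← hσ, ← hσ, ← hσ, show σ * Z i * σ⁻¹ * (σ * Z j * σ⁻¹) * (σ * Z i * σ⁻¹) * (σ * Z k * σ⁻¹) =
        σ * (Z i * Z j * Z i * Z k) * σ⁻¹ by group, conj_pow, h2, mul_one, mul_inv_cancel]
  have hall : ∀ i j k, i ≠ j → i ≠ k → j ≠ k →
      (Z i * Z j) ^ 3 = 1 ∧ (Z i * Z j * Z i * Z k) ^ 2 = 1 := fun i j k h1 h2 h3 =>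
    triple_induction hgen (fun i j k => (Z i * Z j) ^ 3 = 1 ∧ (Z i * Z j * Z i * Z k) ^ 2 = 1)
      (key2 u _ actU) (key2 h _ actH) (key2 t _ actT)
      ⟨by
        show (z * (u ^ (0 : ZMod p).val * (t * z * t) * (u ^ (0 : ZMod p).val)⁻¹)) ^ 3 = 1
        rw [ZMod.val_zero, pow_zero, one_mul, inv_one, mul_one]
        exact hpair, htriple⟩ h1 h2 h3
  have hcard : ∃ m, Fintype.card (Option (ZMod p)) = m + 3 := ⟨p - 2, by
    rw [Fintype.card_option, ZMod.card]; omega⟩
  have hZsq : ∀ i, Z i * Z i = 1 := by
    intro i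
    cases i with
    | none => exact hzz
    | some a =>
      show u ^ a.val * (t * z * t) * (u ^ a.val)⁻¹ * (u ^ a.val * (t * z * t) * (u ^ a.val)⁻¹) = 1
      calc _ = u ^ a.val * (t * (z * (t * t) * z) * t) * (u ^ a.val)⁻¹ := by group
        _ = 1 := by rw [htt, mul_one, hzz, mul_one, htt, mul_one, mul_inv_cancel]
  let e := Fintype.equivFin (Option (ZMod p))
  set N := Fintype.card (Option (ZMod p))
  let z' : ℕ → G := fun k => if hk : k < N then Z (e.symm ⟨k, hk⟩) else 1
  have hN3 : 3 ≤ N := by obtain ⟨m, hm⟩ := hcard; omega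
  obtain ⟨π, hπ⟩ := perm_hom_of_star (N := N) z'
    (fun i hi => by simp only [z', dif_pos hi]; exact hZsq _)
    (fun i j hi hj hne => by
      simp only [z', dif_pos hi, dif_pos hj]
      obtain ⟨k, hk⟩ : ∃ k : Fin N, (k : ℕ) ≠ i ∧ (k : ℕ) ≠ j := by
        by_cases h0 : i ≠ 0 ∧ j ≠ 0
        · exact ⟨⟨0, by omega⟩, by simp; omega⟩
        · by_cases h1 : i ≠ 1 ∧ j ≠ 1
          · exact ⟨⟨1, by omega⟩, by simp; omega⟩
          · exact ⟨⟨2, by omega⟩, by simp; omega⟩
      exact (hall _ _ (e.symm k) (fun ee => hne (by simpa using e.symm.injective ee))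
        (fun ee => hk.1 (by have := e.symm.injective ee; rw [← this]))
        (fun ee => hk.2 (by have := e.symm.injective ee; rw [← this]))).1)
    (fun i j k hi hj hk h1 h2 h3 => by
      simp only [z', dif_pos hi, dif_pos hj, dif_pos hk]
      exact (hall _ _ _ (fun ee => h1 (by simpa using e.symm.injective ee))
        (fun ee => h2 (by simpa using e.symm.injective ee))
        (fun ee => h3 (by simpa using e.symm.injective ee))).2)
  let E : Option (Option (ZMod p)) ≃ Fin (N + 1) := (Equiv.optionCongr e).trans (finSuccEquiv N).symm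
  let piG : Perm (Option (Option (ZMod p))) →* G := π.comp E.permCongrHom.toMonoidHom
  have hPiG : ∀ i, piG (Equiv.swap none (some i)) = Z i := by
    intro i
    show π (E.permCongr (Equiv.swap none (some i))) = Z i
    have : E.permCongr (Equiv.swap none (some i)) = Equiv.swap 0 (e i).succ := by
      rw [Equiv.permCongr_def, Equiv.symm_trans_swap_trans]
      simp [E]
    rw [this, hπ _ (e i).2]
    simp [z', (e i).2]
  have hrange : piG.range = Subgroup.closure (Set.range Z) := by
    rw [MonoidHom.range_eq_map, ← hclos, MonoidHom.map_closure, ← Set.range_comp]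
    congr 2
    funext i
    exact hPiG i
  set H := Subgroup.closure (Set.range Z) with hH
  haveI hHfin : Finite H := by rw [← hrange]; infer_instance
  haveI hN : H.Normal := by
    have key : ∀ (σ : G) (τ : Perm (Option (ZMod p))), (∀ i, σ * Z i * σ⁻¹ = Z (τ i)) →
        σ ∈ Subgroup.normalizer H := by
      intro σ τ hσ
      have hmap : H.map (MulAut.conj σ).toMonoidHom = H := by
        rw [hH, MonoidHom.map_closure, ← Set.range_comp]
        congr 1
        ext x
        constructor
        · rintro ⟨i, rfl⟩; exact ⟨τ i, (hσ i).symm⟩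
        · rintro ⟨i, rfl⟩
          exact ⟨τ.symm i, by show σ * Z (τ.symm i) * σ⁻¹ = Z i; rw [hσ, Equiv.apply_symm_apply]⟩
      rw [Subgroup.mem_normalizer_iff]
      intro x
      constructor
      · intro hx; rw [← hmap]; exact ⟨x, hx, rfl⟩
      · intro hx
        rw [← hmap] at hx
        obtain ⟨y, hy, he⟩ := hx
        have he' : σ * y * σ⁻¹ = σ * x * σ⁻¹ := he
        rw [mul_left_inj, mul_right_inj] at he'
        exact he' ▸ hy
    rw [← Subgroup.normalizer_eq_top_iff, eq_top_iff, ← hf, Subgroup.closure_le]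
    rintro _ ⟨i, rfl⟩
    fin_cases i
    · exact Subgroup.le_normalizer (Subgroup.subset_closure ⟨none, rfl⟩)
    · exact key u _ actU
    · exact key h _ actH
    · exact key t _ actT
  have hh1 : h ∈ H := by
    rw [hword, ← hom_lift piG (v := fun i => Equiv.swap none (some i)) hPiG, ← hrange]
    exact ⟨_, rfl⟩
  set q := QuotientGroup.mk' H
  have qh : q h = 1 := (QuotientGroup.eq_one_iff h).2 hh1
  have qu : q u = 1 := by
    have e1 : q u ^ p = 1 := by rw [← map_pow, hup, map_one]
    have e2 : q u ^ γ = q u := by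
      rw [← map_pow, ← hhu, map_mul, map_mul, map_inv, qh, one_mul, inv_one, mul_one]
    by_contra hne
    have ho : orderOf (q u) = p :=
      orderOf_eq_prime e1 hne
    have e3 : q u ^ γ = q u ^ 1 := by rw [e2, pow_one]
    rw [pow_eq_pow_iff_modEq, ho, ← ZMod.natCast_eq_natCast_iff, hγg, Nat.cast_one] at e3
    exact hg1 (Units.ext (by simpa using e3))
  have qt : q t = 1 := by
    have e1 : q t * q t = 1 := by rw [← map_mul, htt, map_one]
    have e2 : (q u * q t) ^ 3 = 1 := by rw [← map_mul, ← map_pow, hut, map_one]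
    rw [qu, one_mul, pow_three, e1, mul_one] at e2
    exact e2
  have htop : H = ⊤ := by
    rw [eq_top_iff, ← hf, Subgroup.closure_le]
    rintro _ ⟨i, rfl⟩
    fin_cases i
    exacts [Subgroup.subset_closure ⟨none, rfl⟩, (QuotientGroup.eq_one_iff u).1 qu, hh1,
      (QuotientGroup.eq_one_iff t).1 qt]
  have hs : Function.Surjective piG := by rw [← MonoidHom.range_eq_top, hrange, htop]
  exact ⟨Finite.of_surjective piG hs, Nat.card_le_card_of_surjective piG hs⟩

end CfsgLib.BoundedPres
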