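import Cfsg.Agent.Lib.BoundedPres.SLnPres

/-!
`SL_n(F)` is generated by two elements for `n ≥ 3`.
-/

set_option autoImplicit false

namespace CfsgLib.BoundedPres

open Equiv
open CfsgLib.PresentSL3 (dgT)

variable {F : Type*} [Field F]

theorem units_int_cast_sq (s : ℤˣ) : ((s : ℤ) : F) * ((s : ℤ) : F) = 1 := by
  rcases Int.units_eq_one_or s with rfl | rfl <;> simp

/-- The sign correcting diagonal of a permutation. -/
def signFun {n : ℕ} [NeZero n] (σ : Perm (Fin n)) (x : Fin n) : F :=
  if x = 0 then ((Perm.sign σ : ℤ) : F) else 1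

theorem signFun_sq {n : ℕ} [NeZero n] (σ : Perm (Fin n)) (x : Fin n) :
    (signFun σ x : F) * signFun σ x = 1 := by
  unfold signFun
  split_ifs
  · exact units_int_cast_sq _
  · exact one_mul 1

/-- A signed permutation matrix of determinant one. -/
def monoSL {n : ℕ} [NeZero n] (σ : Perm (Fin n)) : Matrix.SpecialLinearGroup (Fin n) F :=
  ⟨Equiv.Perm.permMatrix F σ⁻¹ * Matrix.diagonal (signFun σ), by
    rw [Matrix.det_mul, Matrix.det_permutation, Matrix.det_diagonal, map_inv, Int.units_inv_eq_self]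
    rw [Finset.prod_eq_single (0 : Fin n) (fun b _ hb => by simp [signFun, hb]) (by simp)]
    simp only [signFun, if_pos]
    exact units_int_cast_sq _⟩

theorem coe_monoSL {n : ℕ} [NeZero n] (σ : Perm (Fin n)) :
    ((monoSL σ : Matrix.SpecialLinearGroup (Fin n) F) : Matrix (Fin n) (Fin n) F) =
      Equiv.Perm.permMatrix F σ⁻¹ * Matrix.diagonal (signFun σ) := rfl

theorem monoSL_transvection {n : ℕ} [NeZero n] (σ : Perm (Fin n)) {i j : Fin n} (hij : i ≠ j) (c : F) :
    monoSL σ * Matrix.SpecialLinearGroup.transvection hij c * (monoSL σ)⁻¹ =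
      Matrix.SpecialLinearGroup.transvection (show σ i ≠ σ j from σ.injective.ne hij)
        (signFun σ i * signFun σ j * c) := by
  rw [mul_inv_eq_iff_eq_mul]
  apply Subtype.ext
  show ((monoSL σ : Matrix.SpecialLinearGroup (Fin n) F) : Matrix (Fin n) (Fin n) F) * Matrix.transvection i j c =
    Matrix.transvection (σ i) (σ j) (signFun σ i * signFun σ j * c) *
      ((monoSL σ : Matrix.SpecialLinearGroup (Fin n) F) : Matrix (Fin n) (Fin n) F)
  have h1 : Matrix.diagonal (signFun (F := F) σ) * Matrix.transvection i j c =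
      Matrix.transvection i j (signFun (F := F) σ i * signFun σ j * c) * Matrix.diagonal (signFun (F := F) σ) := by
    ext a b
    simp only [Matrix.diagonal_mul, Matrix.mul_diagonal, Matrix.transvection, Matrix.add_apply,
      Matrix.one_apply, Matrix.single_apply, mul_add, add_mul]
    congr 1
    · split_ifs with hab
      · subst hab; rw [mul_one, one_mul]
      · simp
    · split_ifs with hab
      · obtain ⟨rfl, rfl⟩ := hab
        linear_combination -(signFun σ i * c) * signFun_sq (F := F) σ j
      · simp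
  have h2 : ∀ v : F, Equiv.Perm.permMatrix F σ⁻¹ * Matrix.transvection i j v =
      Matrix.transvection (σ i) (σ j) v * Equiv.Perm.permMatrix F σ⁻¹ := by
    intro v
    rw [Equiv.Perm.permMatrix, PEquiv.toMatrix_toPEquiv_mul, PEquiv.mul_toMatrix_toPEquiv]
    ext a b
    simp only [Matrix.submatrix_apply, id, Matrix.transvection, Matrix.add_apply, Matrix.one_apply,
      Matrix.single_apply, inv_inv]
    simp only [Perm.inv_def, Equiv.symm_symm, Equiv.symm_apply_eq, Equiv.eq_symm_apply, EmbeddingLike.apply_eq_iff_eq]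
  rw [coe_monoSL, Matrix.mul_assoc, h1, ← Matrix.mul_assoc, h2, Matrix.mul_assoc]

theorem monoSL_diag {n : ℕ} [NeZero n] (σ : Perm (Fin n)) (D : Matrix.SpecialLinearGroup (Fin n) F)
    (d : Fin n → F) (hD : (D : Matrix (Fin n) (Fin n) F) = Matrix.diagonal d) :
    ((monoSL σ * D * (monoSL σ)⁻¹ : Matrix.SpecialLinearGroup (Fin n) F) : Matrix (Fin n) (Fin n) F) =
      Matrix.diagonal fun x => d (σ⁻¹ x) := by
  have hdet : (Matrix.diagonal fun x => d (σ⁻¹ x)).det = 1 := by
    have := D.2
    rw [hD, Matrix.det_diagonal] at this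
    rw [Matrix.det_diagonal, Equiv.prod_comp σ⁻¹ d]
    exact this
  let D' : Matrix.SpecialLinearGroup (Fin n) F := ⟨_, hdet⟩
  have e : monoSL σ * D = D' * monoSL σ := by
    apply Subtype.ext
    show ((monoSL σ : Matrix.SpecialLinearGroup (Fin n) F) : Matrix (Fin n) (Fin n) F) *
        (D : Matrix (Fin n) (Fin n) F) = (Matrix.diagonal fun x => d (σ⁻¹ x)) *
        ((monoSL σ : Matrix.SpecialLinearGroup (Fin n) F) : Matrix (Fin n) (Fin n) F)
    rw [hD, coe_monoSL, Matrix.mul_assoc, Matrix.diagonal_mul_diagonal, Equiv.Perm.permMatrix,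
      PEquiv.toMatrix_toPEquiv_mul, PEquiv.toMatrix_toPEquiv_mul]
    ext a b
    simp only [Matrix.submatrix_apply, id, Matrix.diagonal_mul, Matrix.diagonal_apply]
    split_ifs with h
    · rw [mul_comm]
    · rw [mul_zero]
  rw [e, mul_inv_cancel_right]

variable {m : ℕ}

/-- The signed cycle on all indices. -/
def cycSL (m : ℕ) : Matrix.SpecialLinearGroup (Fin (3 + m)) F :=
  haveI : NeZero (3 + m) := ⟨by omega⟩
  monoSL (Equiv.addRight (1 : Fin (3 + m)))

/-- A subgroup with the cycle and all multiples of the first root element is everything. -/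
theorem top_of_cycle (H : Subgroup (Matrix.SpecialLinearGroup (Fin (3 + m)) F)) (hb : cycSL m ∈ H)
    (hU : ∀ c, Matrix.SpecialLinearGroup.transvection
      ((first3_inj m).ne (show (0 : Fin 3) ≠ 1 by decide)) c ∈ H) : H = ⊤ := by
  haveI : NeZero (3 + m) := ⟨by omega⟩
  have hstep : ∀ k : ℕ, ∀ (i j : Fin (3 + m)) (hij : i ≠ j), (i : ℕ) = k % (3 + m) → (j : ℕ) = (k + 1) % (3 + m) →
      ∀ c, Matrix.SpecialLinearGroup.transvection hij c ∈ H := by
    intro k
    induction k with
    | zero =>
      intro i j hij hi hj c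
      obtain rfl : i = first3 m 0 := Fin.ext (by simpa using hi)
      obtain rfl : j = first3 m 1 := Fin.ext (by rw [hj]; simp [Nat.mod_eq_of_lt (show 1 < (3 + m) by omega)])
      exact hU c
    | succ k ih =>
      intro i j hij hi hj c
      set σ : Perm (Fin (3 + m)) := Equiv.addRight (1 : Fin (3 + m)) with hσ
      have hi' : σ ⟨k % (3 + m), Nat.mod_lt _ (by omega)⟩ = i := by
        apply Fin.ext
        rw [hi, hσ]
        simp [Fin.val_add, Nat.add_mod]
      have hj' : σ ⟨(k + 1) % (3 + m), Nat.mod_lt _ (by omega)⟩ = j := by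
        apply Fin.ext
        rw [hj, hσ]
        simp [Fin.val_add, Nat.add_mod]
      have hne : (⟨k % (3 + m), Nat.mod_lt _ (by omega)⟩ : Fin (3 + m)) ≠ ⟨(k + 1) % (3 + m), Nat.mod_lt _ (by omega)⟩ := by
        intro e; apply hij; rw [← hi', ← hj', e]
      have hcy : (cycSL m : Matrix.SpecialLinearGroup (Fin (3 + m)) F) = monoSL σ := rfl
      have e := monoSL_transvection (F := F) σ hne
        (signFun σ ⟨k % (3 + m), Nat.mod_lt _ (by omega)⟩ * signFun σ ⟨(k + 1) % (3 + m), Nat.mod_lt _ (by omega)⟩ * c)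
      simp only [hi', hj'] at e
      rw [show ∀ p q : F, p * q * (p * q * c) = (p * p) * (q * q) * c from fun p q => by ring,
        signFun_sq, signFun_sq, one_mul, one_mul, ← hcy] at e
      rw [← e]
      exact H.mul_mem (H.mul_mem hb (ih _ _ hne rfl rfl _)) (H.inv_mem hb)
  have hall : ∀ d : ℕ, ∀ k : ℕ, 1 ≤ d → d < (3 + m) → ∀ (i j : Fin (3 + m)) (hij : i ≠ j), (i : ℕ) = k % (3 + m) →
      (j : ℕ) = (k + d) % (3 + m) → ∀ c, Matrix.SpecialLinearGroup.transvection hij c ∈ H := by
    intro d
    induction d with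
    | zero => intro k h; omega
    | succ d ih =>
      intro k _ hd i j hij hi hj c
      rcases Nat.eq_zero_or_pos d with rfl | hdpos
      · exact hstep k i j hij hi hj c
      set l : Fin (3 + m) := ⟨(k + 1) % (3 + m), Nat.mod_lt _ (by omega)⟩
      have hil : i ≠ l := by
        intro e
        have h2 : k % (3 + m) = (k + 1) % (3 + m) := by rw [← hi, e]
        have := Nat.sub_mod_eq_zero_of_mod_eq h2.symm
        rw [show k + 1 - k = 1 by omega, Nat.mod_eq_of_lt (show 1 < (3 + m) by omega)] at this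
        omega
      have hlj : l ≠ j := by
        intro e
        have h2 : (k + 1) % (3 + m) = (k + (d + 1)) % (3 + m) := by rw [← hj, ← e]
        have := Nat.sub_mod_eq_zero_of_mod_eq h2.symm
        rw [show k + (d + 1) - (k + 1) = d by omega, Nat.mod_eq_of_lt (show d < (3 + m) by omega)] at this
        omega
      have h1 := hstep k i l hil hi rfl c
      have h2 := ih (k + 1) hdpos (by omega) l j hlj rfl (by rw [hj, add_assoc, add_comm 1 d]) 1
      have e := transvection_step hil hlj hij c (1 : F)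
      rw [mul_one] at e
      rw [show Matrix.SpecialLinearGroup.transvection hij c = Matrix.SpecialLinearGroup.transvection hil c *
        Matrix.SpecialLinearGroup.transvection hlj 1 * (Matrix.SpecialLinearGroup.transvection hil c)⁻¹ *
          (Matrix.SpecialLinearGroup.transvection hlj 1)⁻¹ by rw [e]; group]
      exact H.mul_mem (H.mul_mem (H.mul_mem h1 h2) (H.inv_mem h1)) (H.inv_mem h2)
  refine CfsgLib.Linear.SL_eq_top_of_transvection_mem _ fun i j hij c => ?_
  have hij' : (i : ℕ) ≠ j := fun e => hij (Fin.ext e)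
  have hi := i.2
  have hj := j.2
  by_cases h : (i : ℕ) < j
  · exact hall ((j : ℕ) - i) i (by omega) (by omega) i j hij (Nat.mod_eq_of_lt hi).symm
      (by rw [show (i : ℕ) + ((j : ℕ) - i) = j by omega, Nat.mod_eq_of_lt hj]) c
  · exact hall ((j : ℕ) + (3 + m) - i) i (by omega) (by omega) i j hij (Nat.mod_eq_of_lt hi).symm
      (by rw [show (i : ℕ) + ((j : ℕ) + (3 + m) - i) = j + (3 + m) by omega, Nat.add_mod_right, Nat.mod_eq_of_lt hj]) c

/-- Two generators of `SL_n`. -/
theorem SL_two_generated [Fintype F] (m : ℕ) : ∃ a b : Matrix.SpecialLinearGroup (Fin (3 + m)) F,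
    Subgroup.closure ({a, b} : Set (Matrix.SpecialLinearGroup (Fin (3 + m)) F)) = ⊤ := by
  haveI : NeZero (3 + m) := ⟨by omega⟩
  have hE := first3_inj m
  obtain ⟨w, hgen⟩ : ∃ w : Fˣ, ∀ x : Fˣ, x ∈ Subgroup.zpowers w := IsCyclic.exists_generator
  set h01 := hE.ne (show (0 : Fin 3) ≠ 1 by decide)
  set u : Matrix.SpecialLinearGroup (Fin (3 + m)) F := Matrix.SpecialLinearGroup.transvection h01 1 with hu
  have hadd : ∀ a b : F, Matrix.SpecialLinearGroup.transvection h01 a * Matrix.SpecialLinearGroup.transvection h01 b =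
      Matrix.SpecialLinearGroup.transvection h01 (a + b) := fun a b =>
    Subtype.ext (Matrix.transvection_mul_transvection_same _ _ h01 a b)
  have hzero : Matrix.SpecialLinearGroup.transvection h01 (0 : F) = 1 :=
    Subtype.ext (Matrix.transvection_zero _ _)
  have hneg : ∀ a : F, Matrix.SpecialLinearGroup.transvection h01 (-a) =
      (Matrix.SpecialLinearGroup.transvection h01 a)⁻¹ := fun a => by
    rw [eq_inv_iff_mul_eq_one, hadd, neg_add_cancel, hzero]
  by_cases hw2 : (w : F) * w = 1
  · refine ⟨u, cycSL m, top_of_cycle _ (Subgroup.subset_closure (by simp)) fun c => ?_⟩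
    have hu' : u ∈ Subgroup.closure ({u, cycSL m} : Set (Matrix.SpecialLinearGroup (Fin (3 + m)) F)) :=
      Subgroup.subset_closure (by simp)
    by_cases hc : c = 0
    · rw [hc, hzero]; exact one_mem _
    obtain ⟨r, hr⟩ := CfsgLib.PresentSL3.exists_pow_eq hgen (Units.mk0 c hc)
    have hc' : c = (w : F) ^ r := by rw [← Units.val_pow_eq_pow_val, hr, Units.val_mk0]
    have hcases : c = 1 ∨ c = -1 := by
      refine mul_self_eq_one_iff.1 ?_
      rw [hc', ← mul_pow, hw2, one_pow]
    rcases hcases with e | e <;> rw [e]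
    · exact hu'
    · rw [hneg]; exact Subgroup.inv_mem _ hu'
  · set t : Matrix.SpecialLinearGroup (Fin (3 + m)) F := blockSL (3 + m) m rfl (dgT (w, w⁻¹)) with ht
    refine ⟨t, u * cycSL m, ?_⟩
    set H := Subgroup.closure ({t, u * cycSL m} : Set (Matrix.SpecialLinearGroup (Fin (3 + m)) F))
    have htH : t ∈ H := Subgroup.subset_closure (by simp)
    have hbH : u * cycSL m ∈ H := Subgroup.subset_closure (by simp)
    set t' := cycSL m * t * (cycSL m)⁻¹ with ht'
    set σ : Perm (Fin (3 + m)) := Equiv.addRight (1 : Fin (3 + m)) with hσ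
    have hd : (t' : Matrix (Fin (3 + m)) (Fin (3 + m)) F) =
        Matrix.diagonal fun x => blockDiagFun (3 + m) w w⁻¹ (σ⁻¹ x) :=
      monoSL_diag σ t _ (coe_blockSL_dgT rfl w w⁻¹)
    have hconj : ∀ (D : Matrix.SpecialLinearGroup (Fin (3 + m)) F) (d : Fin (3 + m) → F),
        (D : Matrix (Fin (3 + m)) (Fin (3 + m)) F) = Matrix.diagonal d → d (first3 m 1) ≠ 0 →
        ∀ c, D * Matrix.SpecialLinearGroup.transvection h01 c * D⁻¹ =
          Matrix.SpecialLinearGroup.transvection h01 (d (first3 m 0) / d (first3 m 1) * c) := by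
      intro D d hD h1 c
      rw [mul_inv_eq_iff_eq_mul]
      apply Subtype.ext
      show (D : Matrix (Fin (3 + m)) (Fin (3 + m)) F) * Matrix.transvection (first3 m 0) (first3 m 1) c =
        Matrix.transvection (first3 m 0) (first3 m 1) _ * (D : Matrix (Fin (3 + m)) (Fin (3 + m)) F)
      rw [hD]
      ext a b
      simp only [Matrix.diagonal_mul, Matrix.mul_diagonal, Matrix.transvection, Matrix.add_apply,
        Matrix.one_apply, Matrix.single_apply, mul_add, add_mul]
      congr 1
      · split_ifs with hab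
        · subst hab; rw [mul_one, one_mul]
        · simp
      · split_ifs with hab
        · obtain ⟨rfl, rfl⟩ := hab; field_simp
        · simp
    have hwne : (w : F) ≠ 0 := w.ne_zero
    have hone : (1 : Fin (3 + m)) = first3 m 1 :=
      Fin.ext (by simp [Nat.mod_eq_of_lt (show 1 < 3 + m by omega)])
    have s1 : σ⁻¹ (first3 m 1) = first3 m 0 := by
      rw [Perm.inv_def, Equiv.symm_apply_eq, hσ]
      show first3 m 1 = first3 m 0 + 1
      rw [hone]
      exact Fin.ext (by simp [Fin.val_add, Nat.mod_eq_of_lt (show 1 < 3 + m by omega)])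
    have s0 : blockDiagFun (3 + m) w w⁻¹ (σ⁻¹ (first3 m 0)) = 1 := by
      refine blockDiagFun_one w _ ?_ ?_
      · intro e
        exact h01 ((σ⁻¹).injective (e.trans s1.symm))
      · intro e
        rw [Perm.inv_def, Equiv.symm_apply_eq, hσ] at e
        have e' := congrArg Fin.val e
        simp only [Equiv.coe_addRight, Fin.val_add, Fin.val_castLE, Fin.val_zero, Fin.val_one] at e'
        rw [hone] at e'
        simp [Nat.mod_eq_of_lt (show 2 < 3 + m by omega)] at e'
    have ht0 : ∀ c, t * Matrix.SpecialLinearGroup.transvection h01 c * t⁻¹ =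
        Matrix.SpecialLinearGroup.transvection h01 ((w : F) * w * c) := fun c => by
      rw [hconj t _ (coe_blockSL_dgT rfl w w⁻¹) (by simp [blockDiagFun])]
      congr 1
      simp [blockDiagFun]
    have ht1 : ∀ c, t' * Matrix.SpecialLinearGroup.transvection h01 c * t'⁻¹ =
        Matrix.SpecialLinearGroup.transvection h01 ((w : F)⁻¹ * c) := fun c => by
      rw [hconj t' _ hd (by rw [s1]; simp [blockDiagFun])]
      congr 1
      rw [s0, s1]
      simp [blockDiagFun]
    have hgH : u * t' * u⁻¹ ∈ H := by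
      rw [show u * t' * u⁻¹ = (u * cycSL m) * t * (u * cycSL m)⁻¹ by rw [ht']; group]
      exact H.mul_mem (H.mul_mem hbH htH) (H.inv_mem hbH)
    have hcomm : Commute t t' := diag_commute_diag t t' _ _ (coe_blockSL_dgT rfl w w⁻¹) hd
    have hroot : Matrix.SpecialLinearGroup.transvection h01 (((w : F) * w - 1) * (1 - (w : F)⁻¹)) ∈ H := by
      have hmem : t * (u * t' * u⁻¹) * t⁻¹ * (u * t' * u⁻¹)⁻¹ ∈ H :=
        H.mul_mem (H.mul_mem (H.mul_mem htH hgH) (H.inv_mem htH)) (H.inv_mem hgH)
      have e : t * (u * t' * u⁻¹) * t⁻¹ * (u * t' * u⁻¹)⁻¹ =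
          (t * u * t⁻¹) * (t' * ((t * u⁻¹ * t⁻¹) * u) * t'⁻¹) * u⁻¹ := by
        calc _ = (t * u * t⁻¹) * (t * t') * u⁻¹ * t⁻¹ * u * t'⁻¹ * u⁻¹ := by group
          _ = (t * u * t⁻¹) * (t' * t) * u⁻¹ * t⁻¹ * u * t'⁻¹ * u⁻¹ := by rw [hcomm.eq]
          _ = _ := by group
      rw [e, hu, ← hneg, ht0, ht0, hadd, ht1, hadd, hadd] at hmem
      convert hmem using 2
      field_simp
      ring
    have hne : ((w : F) * w - 1) * (1 - (w : F)⁻¹) ≠ 0 := by
      refine mul_ne_zero (sub_ne_zero.2 hw2) (sub_ne_zero.2 ?_)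
      intro e
      apply hw2
      rw [← inv_inv (w : F), ← e, inv_one, one_mul]
    set k := ((w : F) * w - 1) * (1 - (w : F)⁻¹)
    have hspan := exists_square_data w hgen {c | Matrix.SpecialLinearGroup.transvection h01 (c * k) ∈ H}
      (by show Matrix.SpecialLinearGroup.transvection h01 (0 * k) ∈ H; rw [zero_mul, hzero]; exact one_mem H)
      (fun a ha b hb => by
        show Matrix.SpecialLinearGroup.transvection h01 ((a + b) * k) ∈ H
        rw [add_mul, ← hadd]; exact H.mul_mem ha hb) (fun l => by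
        have hl : Matrix.SpecialLinearGroup.transvection h01 (((w : F) * w) ^ l * k) ∈ H := by
          induction l with
          | zero => rw [pow_zero, one_mul]; exact hroot
          | succ l ih =>
            rw [pow_succ', mul_assoc, ← ht0]
            exact H.mul_mem (H.mul_mem htH ih) (H.inv_mem htH)
        exact ⟨hl, by
          show Matrix.SpecialLinearGroup.transvection h01 (-(((w : F) * w) ^ l) * k) ∈ H
          rw [neg_mul, hneg]; exact H.inv_mem hl⟩)
    have hU : ∀ c, Matrix.SpecialLinearGroup.transvection h01 c ∈ H := fun c => by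
      have : c / k ∈ {c | Matrix.SpecialLinearGroup.transvection h01 (c * k) ∈ H} := by
        rw [hspan]; exact Set.mem_univ _
      simpa [div_mul_cancel₀ _ hne] using this
    refine top_of_cycle H ?_ hU
    rw [show cycSL m = u⁻¹ * (u * cycSL m) by group]
    exact H.mul_mem (H.inv_mem (hU 1)) hbH

end CfsgLib.BoundedPres
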